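import Cfsg.Agent.H48.OrIdx.Local

/-!
# A hyperplane of the radical: the stabiliser of a non-singular point
-/

set_option autoImplicit false
set_option linter.unusedSectionVars false

namespace H48.OrIdx

open H43 H50.Or

universe u w w'

variable {F : Type u} [Field F] [Finite F] {V : Type w} [AddCommGroup V] [Module F V]
  [FiniteDimensional F V] {Q : QuadraticForm F V} (K : Subgroup (Om Q))

/-- The Eichler elements at `u` orthogonal to `z` lie in the subgroup. -/
def InPerp (u z : V) : Prop :=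
  ∀ v, polB Q u v = 0 → polB Q z v = 0 → el Q u v ∈ K

/-- The radical at `u` lies in the subgroup. -/
def FullAt (u : V) : Prop := ∀ v, polB Q u v = 0 → el Q u v ∈ K

/-- A dichotomy at every point with a non-singular annihilated class. -/
def LocalAlt (ψ : AddChar F ℂ) (P : Prop) : Prop :=
  ∀ (c y : V) (fr : Frame Q c y (Q.restrict ((polB Q).orthogonal (Submodule.span F {c, y})))) (j : _),
    j ∈ ann ψ (polB (Q.restrict _)) (Iw fr K) → Q.restrict _ j ≠ 0 →
      P ∨ (∀ u, polB (Q.restrict _) j u = 0 → u ∈ Iw fr K) ∨ ∀ i ∈ Iw fr K, i ∈ F ∙ j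

variable {K}

theorem el_eq_E (h5 : 5 ≤ Module.finrank F V) {W : Type w'} [AddCommGroup W] [Module F W]
    {Q' : QuadraticForm F W} {x y : V} (fr : Frame Q x y Q') {v : V} (hv : polB Q x v = 0) :
    el Q x v = el Q x (fr.j (fr.P v)) :=
  Subtype.ext (by rw [coe_el fr.nd h5 fr.qx hv, el_E fr h5, fr.eichler_eq_E hv])

variable (hQ : (polB Q).Nondegenerate) (h7 : 7 ≤ Module.finrank F V)

section
include hQ h7

theorem el_swap {x c : V} (hx : Q x = 0) (hc : Q c = 0) (hxc : polB Q x c = 0) :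
    el Q c x = el Q x (-c) := by
  have hcx : polB Q c x = 0 := by rw [polB_comm]; exact hxc
  have hxn : polB Q x (-c) = 0 := by rw [map_neg, hxc, neg_zero]
  apply Subtype.ext
  rw [coe_el hQ (by omega) hc hcx, coe_el hQ (by omega) hx hxn]
  apply orth_ext
  intro z
  rw [eichler_apply hc hcx, eichler_apply hx hxn, qmap_neg, hx, hc]
  simp only [map_neg, zero_mul, zero_smul, sub_zero, neg_smul, smul_neg, sub_neg_eq_add]
  abel

theorem el_smul_left {x w : V} (hx : Q x = 0) (hxw : polB Q x w = 0) {c : F} (hc : c ≠ 0) :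
    el Q (c • x) w = el Q x (c • w) :=
  Subtype.ext (by
    rw [coe_el hQ (by omega) (by rw [qmap_smul, hx, mul_zero])
        (by rw [map_smul, LinearMap.smul_apply, hxw, smul_zero]),
      coe_el hQ (by omega) hx (by rw [map_smul, hxw, smul_zero]), eichler_smul_pair hx hxw hc])

theorem apply_el {u w : V} (hu : Q u = 0) (huw : polB Q u w = 0) (v : V) :
    (el Q u w).1.1 v = v + polB Q v u • w - polB Q v w • u - (Q w * polB Q v u) • u := by
  rw [coe_el hQ (by omega) hu huw, eichler_apply hu huw]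

theorem el_fix {u w v : V} (hu : Q u = 0) (huw : polB Q u w = 0) (h1 : polB Q v u = 0)
    (h2 : polB Q v w = 0) : (el Q u w).1.1 v = v := by
  rw [coe_el hQ (by omega) hu huw, eichler_fix hu huw h1 h2]

theorem InPerp.transport {u z : V} (hu : Q u = 0) (h : InPerp K u z) {g : Om Q} (hg : g ∈ K) :
    InPerp K (g.1.1 u) (g.1.1 z) := by
  intro v h1 h2
  obtain ⟨v', rfl⟩ : ∃ v', g.1.1 v' = v := ⟨g.1.1.symm v, g.1.1.apply_symm_apply v⟩
  rw [orth_polB_map] at h1 h2
  rw [← el_conj hQ (by omega) g hu h1]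
  exact K.mul_mem (K.mul_mem hg (h v' h1 h2)) (K.inv_mem hg)

theorem FullAt.transport {u : V} (hu : Q u = 0) (h : FullAt K u) {g : Om Q} (hg : g ∈ K) :
    FullAt K (g.1.1 u) := by
  intro v h1
  obtain ⟨v', rfl⟩ : ∃ v', g.1.1 v' = v := ⟨g.1.1.symm v, g.1.1.apply_symm_apply v⟩
  rw [orth_polB_map] at h1
  rw [← el_conj hQ (by omega) g hu h1]
  exact K.mul_mem (K.mul_mem hg (h v' h1)) (K.inv_mem hg)

theorem not_full_transport {u : V} (hu : Q u = 0) (h : ¬ FullAt K u) {g : Om Q} (hg : g ∈ K) :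
    ¬ FullAt K (g.1.1 u) := fun h' => h (by
  have := FullAt.transport hQ h7 (by rw [orth_qmap, hu]) h' (K.inv_mem hg)
  rwa [show (g⁻¹).1.1 (g.1.1 u) = u from orth_inv_apply_self g.1 u] at this)

/-- Two independent hyperplanes give the whole radical. -/
theorem full_of_two {u z z' : V} (hu : Q u = 0) (h : InPerp K u z) (h' : InPerp K u z')
    (hu' : polB Q z u = 0) (hind : z' ∉ Submodule.span F {u, z}) : FullAt K u := by
  intro v hv
  obtain ⟨w, hw, hzw⟩ := exists_orth_polB_eq hQ hind 1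
  have hwu : polB Q u w = 0 := hw u (Submodule.subset_span (by simp))
  have hwz : polB Q z w = 0 := hw z (Submodule.subset_span (by simp))
  have h1 : polB Q u (v - polB Q z' v • w) = 0 := by simp [hv, hwu]
  rw [← sub_add_cancel v (polB Q z' v • w),
    ← el_mul hQ (by omega) hu h1 (by rw [map_smul, hwu, smul_zero])]
  exact K.mul_mem (h' _ h1 (by simp [hzw])) (h _ (by rw [map_smul, hwu, smul_zero]) (by simp [hwz]))

end

section point

variable {x z : V} (hx0 : x ≠ 0) (hx : Q x = 0) (hz : Q z ≠ 0) (hxz : polB Q x z = 0)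
  (hIn : InPerp K x z) (hnf : ¬ FullAt K x)

include hQ h7 hx0 hx hz hxz hIn hnf

/-- A scalar line in the image at `x` is orthogonal to `z`. -/
theorem perp_z_of_line {d : V} (hd : polB Q x d = 0) (h : ∀ t : F, el Q x (t • d) ∈ K) :
    polB Q z d = 0 := by
  by_contra hne
  apply hnf
  intro v hv
  set t := polB Q z v / polB Q z d
  have h1 : polB Q x (v - t • d) = 0 := by simp [hv, hd]
  rw [← sub_add_cancel v (t • d), ← el_mul hQ (by omega) hx h1 (by rw [map_smul, hd, smul_zero])]
  exact K.mul_mem (hIn _ h1 (by simp [t, div_mul_cancel₀ _ hne])) (h t)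

omit hnf in
theorem indep {c : V} (hc : Q c = 0) (hcx : c ∉ F ∙ x) : c ∉ Submodule.span F {x, z} := by
  intro h
  obtain ⟨p, r, rfl⟩ := Submodule.mem_span_pair.1 h
  rw [qmap_add, qmap_smul, qmap_smul, hx, map_smul, map_smul, LinearMap.smul_apply, hxz] at hc
  simp only [mul_zero, smul_eq_mul, zero_add, add_zero] at hc
  rcases mul_eq_zero.1 hc with h' | h'
  · rw [mul_self_eq_zero] at h'
    exact hcx (Submodule.mem_span_singleton.2 ⟨p, by rw [h', zero_smul, add_zero]⟩)
  · exact hz h'

/-- Eichler elements at `c` in the subgroup move the image at `x`. -/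
theorem move {c d : V} (hc : Q c = 0) (hxc : polB Q x c = 0) (hzc : polB Q z c = 0) (hcx : c ∉ F ∙ x)
    (hcd : polB Q c d = 0) (hxd : polB Q x d = 0) (hd : el Q c d ∈ K) : el Q x d ∈ K := by
  obtain ⟨v, hv, hcv⟩ := exists_orth_polB_eq hQ (indep hQ h7 hx0 hx hz hxz hIn hc hcx) 1
  have hxv : polB Q x v = 0 := hv x (Submodule.subset_span (by simp))
  have hzv : polB Q z v = 0 := hv z (Submodule.subset_span (by simp))
  have hxg : (el Q c d).1.1 x = x := el_fix hQ h7 hc hcd hxc hxd
  have h1 : el Q x ((el Q c d).1.1 v) ∈ K := by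
    have := K.mul_mem (K.mul_mem hd (hIn v hxv hzv)) (K.inv_mem hd)
    rwa [el_conj hQ (by omega) _ hx hxv, hxg] at this
  set s := polB Q v d + Q d
  rw [apply_el hQ h7 hc hcd, polB_comm v c, hcv, one_smul, mul_one, sub_sub, ← add_smul] at h1
  have h2 : el Q x (-v + s • c) ∈ K := hIn _ (by simp [hxv, hxc]) (by simp [hzv, hzc])
  have h3 := K.mul_mem h2 h1
  rwa [el_mul hQ (by omega) hx (by simp [hxv, hxc]) (by simp [hxv, hxd, hxc]),
    show -v + s • c + (v + d - s • c) = d by abel] at h3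

theorem not_full {c : V} (hc : Q c = 0) (hxc : polB Q x c = 0) (hzc : polB Q z c = 0)
    (hcx : c ∉ F ∙ x) : ¬ FullAt K c := by
  intro hfull
  apply hnf
  intro v hv
  obtain ⟨w, hw, hcw⟩ := exists_orth_polB_eq hQ (indep hQ h7 hx0 hx hz hxz hIn hc hcx) 1
  have hxw : polB Q x w = 0 := hw x (Submodule.subset_span (by simp))
  have hzw : polB Q z w = 0 := hw z (Submodule.subset_span (by simp))
  set t := polB Q c v
  have h1 : polB Q x (v - t • w) = 0 := by simp [hv, hxw]
  have h2 : polB Q c (v - t • w) = 0 := by simp [hcw, t]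
  rw [← sub_add_cancel v (t • w), ← el_mul hQ (by omega) hx h1 (by rw [map_smul, hxw, smul_zero])]
  exact K.mul_mem (move hQ h7 hx0 hx hz hxz hIn hnf hc hxc hzc hcx h2 h1 (hfull _ h2))
    (hIn _ (by simp [hxw]) (by simp [hzw]))

/-- Every point in the section is of the same kind. -/
theorem point_type {ψ : AddChar F ℂ} (hψ : ψ.IsPrimitive) {P : Prop} (hloc : LocalAlt K ψ P)
    {c : V} (hc : Q c = 0) (hxc : polB Q x c = 0) (hzc : polB Q z c = 0)
    (hcx : c ∉ F ∙ x) :
    P ∨ ∃ t : F, InPerp K c (z + t • x) := by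
  classical
  have h5 : 5 ≤ Module.finrank F V := by omega
  have hc0 : c ≠ 0 := fun h => hcx (by rw [h]; exact Submodule.zero_mem _)
  obtain ⟨y, hp⟩ := exists_hypPair hQ hc hc0
  obtain ⟨fr⟩ := exists_frame hQ hp
  set W := (polB Q).orthogonal (Submodule.span F {c, y})
  set Q' := Q.restrict W
  haveI : Finite V := Module.finite_of_finite F
  haveI : Finite W := Module.finite_of_finite F
  have hcx' : polB Q c x = 0 := by rw [polB_comm]; exact hxc
  have hcz' : polB Q c z = 0 := by rw [polB_comm]; exact hzc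
  set xc := fr.P x with hxcdef
  set zc := fr.P z with hzcdef
  have hqzc : Q' zc = Q z := P_qmap fr hcz'
  have hline : ∀ t : F, t • xc ∈ Iw fr K := fun t => by
    rw [mem_Iw fr K h5, hxcdef, ← map_smul, ← el_eq_E h5 fr (by rw [map_smul, hcx', smul_zero])]
    rcases eq_or_ne t 0 with rfl | ht
    · rw [zero_smul, el_zero hQ h5 hc]; exact K.one_mem
    rw [el_swap hQ h7 (by rw [qmap_smul, hx, mul_zero]) hc
      (by rw [map_smul, LinearMap.smul_apply, hxc, smul_zero]),
      el_smul_left hQ h7 hx (by rw [map_neg, hxc, neg_zero]) ht]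
    exact hIn _ (by simp [hxc]) (by simp [hzc])
  have hxperp : ∀ j ∈ ann ψ (polB Q') (Iw fr K), polB Q' xc j = 0 := fun j hj =>
    perp_of_all hψ hj hline
  have hperp : ∀ d : W, (∀ t : F, t • d ∈ Iw fr K) → polB Q' xc d = 0 → polB Q' zc d = 0 := by
    intro d hd hxd
    have hxd' : polB Q x (fr.j d) = 0 := by rw [fr.b_P]; exact hxd
    rw [← fr.b_P]
    refine perp_z_of_line hQ h7 hx0 hx hz hxz hIn hnf hxd' fun t => ?_
    exact move hQ h7 hx0 hx hz hxz hIn hnf hc hxc hzc hcx
      (by rw [map_smul, (fr.orth d).1, smul_zero]) (by rw [map_smul, hxd', smul_zero])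
      (by rw [← map_smul]; exact (mem_Iw fr K h5).1 (hd t))
  by_cases hns : ∀ j ∈ ann ψ (polB Q') (Iw fr K), Q' j = 0
  · exfalso
    apply hz
    rw [← hqzc]
    set J := ann ψ (polB Q') (Iw fr K)
    set M := Submodule.span F ((J : Set W) ∪ {xc}) with hM
    have hqx : Q' xc = 0 := by rw [P_qmap fr hcx', hx]
    have hmem : zc ∈ M := by
      rw [← LinearMap.BilinForm.orthogonal_orthogonal fr.nd' (polB_isRefl Q') M]
      intro d hd
      show polB Q' d zc = 0
      rw [polB_comm]
      refine hperp d (fun t => ?_) (hd xc (Submodule.subset_span (by simp)))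
      rw [← ann_ann hψ fr.nd' polB_comm (Iw fr K)]
      intro i hi
      rw [map_smul, hd i (Submodule.subset_span (Or.inl hi)), smul_zero, AddChar.map_zero_eq_one]
    have hperps : ∀ p ∈ (J : Set W) ∪ {xc}, ∀ r ∈ (J : Set W) ∪ {xc}, polB Q' p r = 0 := by
      rintro p (hp' | rfl) r (hr | rfl)
      · have := hns _ (J.add_mem hp' hr)
        rwa [qmap_add, hns p hp', hns r hr, zero_add, zero_add] at this
      · rw [polB_comm]; exact hxperp p hp'
      · exact hxperp r hr
      · rw [polB_self, hqx, mul_zero]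
    have hsing : ∀ p ∈ M, Q' p = 0 ∧ ∀ r ∈ (J : Set W) ∪ {xc}, polB Q' p r = 0 := by
      intro p hp'
      induction hp' using Submodule.span_induction with
      | mem p hp' =>
        refine ⟨?_, hperps p hp'⟩
        rcases hp' with h | rfl
        · exact hns p h
        · exact hqx
      | zero => exact ⟨QuadraticMap.map_zero _, fun r _ => by simp⟩
      | add a b ha' hb' ha hb =>
        refine ⟨?_, fun r hr => by simp [ha.2 r hr, hb.2 r hr]⟩
        have hab : polB Q' a b = 0 := by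
          clear hb
          induction hb' using Submodule.span_induction with
          | mem r hr => exact ha.2 r hr
          | zero => simp
          | add p r _ _ hp hr => simp [hp, hr]
          | smul s p _ hp => simp [hp]
        rw [qmap_add, ha.1, hb.1, hab, add_zero, add_zero]
      | smul s a _ ha =>
        exact ⟨by rw [qmap_smul, ha.1, mul_zero], fun r hr => by simp [ha.2 r hr]⟩
    exact (hsing zc hmem).1
  simp only [not_forall] at hns
  obtain ⟨j, hj, hjq⟩ := hns
  rcases hloc c y fr j hj hjq with hb | hA | hB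
  · exact Or.inl hb
  · refine Or.inr ?_
    have hzmem : zc ∈ Submodule.span F {j, xc} := by
      rw [← LinearMap.BilinForm.orthogonal_orthogonal fr.nd' (polB_isRefl Q') (Submodule.span F {j, xc})]
      intro d hd
      obtain ⟨h1, h2⟩ := mem_orth_pair.1 hd
      show polB Q' d zc = 0
      rw [polB_comm]
      exact hperp d (fun t => hA _ (by rw [map_smul, h1, smul_zero])) h2
    obtain ⟨p, r, hpr⟩ := Submodule.mem_span_pair.1 hzmem
    refine ⟨-r, fun v hv1 hv2 => ?_⟩
    rw [el_eq_E h5 fr hv1, ← mem_Iw fr K h5]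
    apply hA
    have hp : p ≠ 0 := fun h => hz (by
      rw [← hqzc, ← hpr, h, zero_smul, zero_add, qmap_smul, P_qmap fr hcx', hx, mul_zero])
    have h1 : polB Q' (fr.P (z + -r • x)) (fr.P v) = polB Q (z + -r • x) v :=
      P_form fr (by simp [hcz', hcx']) hv1
    rw [hv2, map_add, map_smul, ← hzcdef, ← hxcdef, ← hpr] at h1
    simpa [hp] using h1
  · exfalso
    apply hcx
    have h1 : xc = 0 := by
      have := hline 1
      rw [one_smul] at this
      obtain ⟨r, hr⟩ := Submodule.mem_span_singleton.1 (hB _ this)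
      have h0 : Q' xc = 0 := by rw [P_qmap fr hcx', hx]
      rw [← hr, qmap_smul, mul_eq_zero, mul_self_eq_zero] at h0
      rw [← hr, h0.resolve_right hjq, zero_smul]
    have h2 := congrArg fr.j h1
    rw [hxcdef, map_zero, j_P_perp fr hcx', sub_eq_zero] at h2
    rcases eq_or_ne (polB Q x y) 0 with h | h
    · rw [h, zero_smul] at h2; exact absurd h2 hx0
    · rw [h2]
      exact Submodule.mem_span_singleton.2 ⟨(polB Q x y)⁻¹, by rw [smul_smul, inv_mul_cancel₀ h, one_smul]⟩

/-- A parameter determines the hyperplane at a point of the section. -/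
theorem type_unique {c : V} (hc : Q c = 0) (hxc : polB Q x c = 0) (hzc : polB Q z c = 0)
    (hcx : c ∉ F ∙ x) {t t' : F} (h : InPerp K c (z + t • x)) (h' : InPerp K c (z + t' • x)) :
    t = t' := by
  by_contra hne
  refine not_full hQ h7 hx0 hx hz hxz hIn hnf hc hxc hzc hcx
    (full_of_two hQ h7 hc h h' (by simp [hzc, hxc]) fun hmem => ?_)
  obtain ⟨p, r, hpr⟩ := Submodule.mem_span_pair.1 hmem
  rcases eq_or_ne p 0 with rfl | hp
  · rw [zero_smul, zero_add] at hpr
    rcases eq_or_ne r 1 with rfl | hr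
    · apply hne
      by_contra
      rw [one_smul, add_right_inj] at hpr
      exact hne (smul_left_injective F hx0 hpr)
    · apply hz
      have : z = ((t' - r * t) / (r - 1)) • x := by
        have e : (r - 1) • z = (t' - r * t) • x := by linear_combination (norm := module) hpr
        rw [div_eq_inv_mul, mul_smul, ← e, smul_smul, inv_mul_cancel₀ (sub_ne_zero.2 hr), one_smul]
      rw [this, qmap_smul, hx, mul_zero]
  · apply indep hQ h7 hx0 hx hz hxz hIn hc hcx
    have : c = p⁻¹ • ((1 - r) • z + (t' - r * t) • x) := by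
      rw [show (1 - r) • z + (t' - r * t) • x = p • c by linear_combination (norm := module) hpr.symm]
      rw [smul_smul, inv_mul_cancel₀ hp, one_smul]
    rw [this]
    exact Submodule.smul_mem _ _ (Submodule.mem_span_pair.2 ⟨t' - r * t, 1 - r, by abel⟩)

end point

/-- The bound from the orbit of the class of a nonsingular vector. -/
def OrbitBound (K : Subgroup (Om Q)) : Prop :=
  ∃ (c y : V) (fr : Frame Q c y (Q.restrict ((polB Q).orthogonal (Submodule.span F {c, y})))) (j : _),
    Q.restrict _ j ≠ 0 ∧ Nat.card (clsOrbit fr j) * kIdx F ≤ K.index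

variable {W : Type w'} [AddCommGroup W] [Module F W] [FiniteDimensional F W]
  {Q' : QuadraticForm F W} {x y : V} (fr : Frame Q x y Q')

include fr h7 in
theorem caseA' {ψ : AddChar F ℂ} (hψ : ψ.IsPrimitive) {P : Prop} (hloc : LocalAlt K ψ P)
    {j : W} (hjq : Q' j ≠ 0) (hA : ∀ u, polB Q' j u = 0 → u ∈ Iw fr K)
    (hI : Iw fr K ≠ ⊤) :
    P ∨ ∃ z : V, Q z ≠ 0 ∧ ∀ g ∈ K, g.1.1 z ∈ F ∙ z := by
  classical
  have hQ := fr.nd
  have h5 : 5 ≤ Module.finrank F V := by omega
  have hW := finrank_W_ge fr h7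
  by_cases hbound : P
  · exact Or.inl hbound
  refine Or.inr ?_
  have hx0 := fr.pair.left_ne_zero
  have hx := fr.qx
  set z := fr.j j
  have hz : Q z ≠ 0 := by rwa [fr.form]
  have hxz : polB Q x z = 0 := (fr.orth j).1
  have hIn : InPerp K x z := fun v h1 h2 => by
    rw [el_eq_E h5 fr h1, ← mem_Iw fr K h5]
    apply hA
    rw [polB_comm, ← fr.b_P, polB_comm]
    exact h2
  have hnf : ¬ FullAt K x := fun h => hI (eq_top_iff.2 fun a _ => by
    rw [mem_Iw fr K h5]; exact h _ (fr.orth a).1)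
  have hj0 : j ≠ 0 := fun h => hjq (by rw [h, QuadraticMap.map_zero])
  -- the section
  let Sec : W → Prop := fun c => c ≠ 0 ∧ Q' c = 0 ∧ polB Q' j c = 0
  have hsec : ∀ c, Sec c → Q (fr.j c) = 0 ∧ polB Q x (fr.j c) = 0 ∧ polB Q z (fr.j c) = 0 ∧
      fr.j c ∉ F ∙ x := by
    rintro c ⟨hc0, hc, hjc⟩
    refine ⟨by rw [fr.form, hc], (fr.orth c).1, by rw [fr.bform, hjc], fun h => hc0 ?_⟩
    obtain ⟨r, hr⟩ := Submodule.mem_span_singleton.1 h
    rw [← fr.P_j c, ← hr, map_smul, fr.P_x, smul_zero]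
  have htype : ∀ c, Sec c → ∃ t : F, InPerp K (fr.j c) (z + t • x) := fun c hc => by
    obtain ⟨h1, h2, h3, h4⟩ := hsec c hc
    rcases point_type hQ h7 hx0 hx hz hxz hIn hnf hψ hloc h1 h2 h3 h4 with hb | h
    · exact absurd hb hbound
    · exact h
  have same_opp : ∀ c1 c2 c3, Sec c1 → Sec c2 → Sec c3 → polB Q' c1 c2 ≠ 0 → polB Q' c1 c3 ≠ 0 →
      ∀ t2 t3 : F, InPerp K (fr.j c2) (z + t2 • x) → InPerp K (fr.j c3) (z + t3 • x) → t2 = t3 := by
    intro c1 c2 c3 h1 h2 h3 h12 h13 t2 t3 ht2 ht3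
    obtain ⟨t1, ht1⟩ := htype c1 h1
    obtain ⟨q1, p1, z1, n1⟩ := hsec c1 h1
    obtain ⟨q2, p2, z2, n2⟩ := hsec c2 h2
    obtain ⟨q3, p3, z3, n3⟩ := hsec c3 h3
    set β2 := polB Q' c1 c2
    set β := polB Q' c1 c3 / β2
    have hβ : β ≠ 0 := div_ne_zero h13 h12
    set α := polB Q' c2 c3 / β2
    set w := c3 - α • c1 - β • c2 with hwdef
    have hw1 : polB Q' c1 w = 0 := by
      simp [hwdef, polB_self, h1.2.1, β, div_mul_cancel₀ _ h12]
      rw [div_mul_cancel₀ _ h12, sub_self]
    have hw2 : polB Q' c2 w = 0 := by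
      simp [hwdef, polB_self, h2.2.1, α, polB_comm c2 c1]
      rw [div_mul_cancel₀ _ h12, sub_self]
    set v := (β * β2)⁻¹ • w with hvdef
    have hcv : polB Q' c1 v = 0 := by simp [hvdef, hw1]
    have hjv : polB Q' j v = 0 := by simp [hvdef, hwdef, h1.2.2, h2.2.2, h3.2.2]
    have hq1 : polB Q (fr.j c1) (fr.j v) = 0 := by rw [fr.bform, hcv]
    have hmem : el Q (fr.j c1) (fr.j v) ∈ K :=
      ht1 _ hq1 (by
        rw [map_add, LinearMap.add_apply, LinearMap.map_smul₂, (fr.orth v).1, fr.bform,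
          hjv, smul_zero, add_zero])
    have hgx : (el Q (fr.j c1) (fr.j v)).1.1 x = x := el_fix hQ h7 q1 hq1 p1 (fr.orth v).1
    have hgz : (el Q (fr.j c1) (fr.j v)).1.1 z = z := el_fix hQ h7 q1 hq1 z1 (by rw [fr.bform, hjv])
    have hq : α * β * β2 + Q' w = 0 := by
      have h := h3.2.1
      rw [show c3 = α • c1 + β • c2 + w by rw [hwdef]; abel, qmap_add, qmap_add, qmap_smul, qmap_smul,
        h1.2.1, h2.2.1] at h
      simp only [map_add, map_smul, LinearMap.add_apply, LinearMap.smul_apply, smul_eq_mul, hw1, hw2,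
        mul_zero, add_zero, zero_add] at h
      linear_combination h
    have himg : (el Q (fr.j c1) (fr.j v)).1.1 (fr.j c2) = fr.j (β⁻¹ • c3) := by
      rw [apply_el hQ h7 q1 hq1, fr.bform, fr.bform, fr.form, polB_comm c2 c1,
        show polB Q' c2 v = 0 by simp [hvdef, hw2], zero_smul, sub_zero, ← map_smul, ← map_smul,
        ← map_add, ← map_sub]
      congr 1
      rw [hvdef, qmap_smul]
      show c2 + β2 • (β * β2)⁻¹ • w - ((β * β2)⁻¹ * (β * β2)⁻¹ * Q' w * β2) • c1 = β⁻¹ • c3
      rw [show c3 = α • c1 + β • c2 + w by rw [hwdef]; abel]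
      match_scalars
      all_goals field_simp
      linear_combination -hq
    have ht2' := ht2.transport hQ h7 q2 hmem
    rw [himg] at ht2'
    simp only [map_add, LinearEquiv.map_smul, hgx, hgz] at ht2'
    refine type_unique hQ h7 hx0 hx hz hxz hIn hnf q3 p3 z3 n3 ?_ ht3
    intro u hu hu'
    have hu0 : polB Q (fr.j (β⁻¹ • c3)) (β • u) = 0 := by
      rw [map_smul, map_smul, map_smul, LinearMap.smul_apply, hu, smul_zero, smul_zero]
    have := ht2' (β • u) hu0 (by rw [map_smul, hu', smul_zero])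
    rwa [map_smul, el_smul_left hQ h7 q3 (by rw [map_smul, hu, smul_zero]) (inv_ne_zero hβ), smul_smul,
      inv_mul_cancel₀ hβ, one_smul] at this
  obtain ⟨z₀, hz₀U, hz₀0, hz₀⟩ := exists_singular_in (Q := Q') ((polB Q').orthogonal (F ∙ j)) (by
    have := finrank_orth_singleton fr.nd' hj0
    omega)
  have hpartner : ∀ a, Sec a → ∃ b, Sec b ∧ polB Q' a b ≠ 0 := by
    rintro a ⟨ha0, ha, hja⟩
    obtain ⟨u, hu, hau⟩ := exists_polB_ne_of_notMem fr.nd' (not_mem_span_of_qmap hjq ha ha0)
    refine ⟨u + (-(Q' u) / polB Q' a u) • a, ⟨fun h => hau ?_, ?_, ?_⟩, by simpa [polB_self, ha] using hau⟩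
    · have := congrArg (polB Q' a) h
      simpa [polB_self, ha] using this
    · rw [qmap_add_smul, ha, polB_comm u a, div_mul_cancel₀ _ hau]; ring
    · simp [mem_orth_singleton.1 hu, hja]
  have hmoved : ∀ a b v, Sec a → Sec b → polB Q' a b ≠ 0 → polB Q' a v = 0 → polB Q' j v = 0 →
      Sec (b + polB Q' b a • v - polB Q' b v • a - (Q' v * polB Q' b a) • a) := by
    rintro a b v ⟨ha0, ha, hja⟩ ⟨hb0, hb, hjb⟩ hab hav hjv
    refine ⟨fun h => hab ?_, ?_, by simp [hja, hjb, hjv]⟩
    · have := congrArg (polB Q' a) h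
      simpa [polB_self, ha, hav] using this
    · rw [← eichlerLin_apply, eichlerLin_qmap ha hav, hb]
  have hcommon : ∀ c c', Sec c → Sec c' → ∃ c1, Sec c1 ∧ polB Q' c1 c ≠ 0 ∧ polB Q' c1 c' ≠ 0 := by
    intro c c' hc hc'
    obtain ⟨a, ha, hca⟩ := hpartner c hc
    obtain ⟨hc0, hcq, hjc⟩ := hc
    by_cases hac' : polB Q' a c' = 0
    swap
    · exact ⟨a, ha, by rwa [polB_comm], hac'⟩
    have hac : polB Q' a c ≠ 0 := by rwa [polB_comm]
    -- move `a` by an Eichler element at `c`
    by_cases hcc : polB Q' c c' = 0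
    · have hind : c' ∉ Submodule.span F {c, j} := by
        intro h
        obtain ⟨p, r, hpr⟩ := Submodule.mem_span_pair.1 h
        have h1 : Q' c' = r * r * Q' j := by
          rw [← hpr, qmap_add, qmap_smul, qmap_smul, hcq]
          simp [polB_comm c j, hjc]
        rw [hc'.2.1, eq_comm, mul_eq_zero, mul_self_eq_zero] at h1
        have hr := h1.resolve_right hjq
        rw [hr, zero_smul, add_zero] at hpr
        rw [← hpr, map_smul, smul_eq_mul, mul_eq_zero] at hac'
        exact hc'.1 (by rw [← hpr, hac'.resolve_right hac, zero_smul])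
      obtain ⟨v, hv, hv1⟩ := exists_orth_polB_eq fr.nd' hind 1
      have hcv := hv c (Submodule.subset_span (by simp))
      have hjv := hv j (Submodule.subset_span (by simp))
      refine ⟨_, hmoved c a v ⟨hc0, hcq, hjc⟩ ha hca hcv hjv, ?_, ?_⟩
      · simpa [polB_self, hcq, polB_comm v c, hcv] using hac
      · have : polB Q' v c' = 1 := by rw [polB_comm]; exact hv1
        simpa [hac', hcc, this] using hac
    · have hp : HypPair Q' c ((polB Q' c c')⁻¹ • c') :=
        ⟨hcq, by rw [qmap_smul, hc'.2.1, mul_zero], by simp [hcc]⟩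
      obtain ⟨fr2⟩ := exists_frame fr.nd' hp
      have hd2 := fr2.finrank_eq
      obtain ⟨v₀, hv₀, hvq₀⟩ : ∃ v : (polB Q').orthogonal (Submodule.span F {c, (polB Q' c c')⁻¹ • c'}),
          polB (Q'.restrict ((polB Q').orthogonal (Submodule.span F {c, (polB Q' c c')⁻¹ • c'})))
            (fr2.P j) v = 0 ∧
          Q'.restrict ((polB Q').orthogonal (Submodule.span F {c, (polB Q' c c')⁻¹ • c'})) v ≠ 0 := by
        by_contra hcon
        push Not at hcon
        have h1 := two_mul_finrank_singular_le fr2.nd'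
          ((polB (Q'.restrict ((polB Q').orthogonal (Submodule.span F {c, (polB Q' c c')⁻¹ • c'})))).orthogonal
            (Submodule.span F {fr2.P j})) fun v hv => hcon v (mem_orth_singleton.1 hv)
        rcases eq_or_ne (fr2.P j) 0 with h0 | h0
        · rw [h0, Submodule.span_zero_singleton, LinearMap.BilinForm.orthogonal_bot, finrank_top] at h1
          omega
        · have h2 := finrank_orth_singleton fr2.nd' h0
          omega
      set v := fr2.j v₀
      have hvq : Q' v ≠ 0 := by rwa [fr2.form]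
      have hjv : polB Q' j v = 0 := by rw [fr2.b_P]; exact hv₀
      have hcv : polB Q' c v = 0 := (fr2.orth v₀).1
      have hc'v : polB Q' c' v = 0 := by
        have := (fr2.orth v₀).2
        rw [map_smul, LinearMap.smul_apply, smul_eq_mul, mul_eq_zero] at this
        exact this.resolve_left (inv_ne_zero hcc)
      refine ⟨_, hmoved c c' v ⟨hc0, hcq, hjc⟩ hc' hcc hcv hjv, ?_, ?_⟩
      · simpa [polB_self, hcq, polB_comm v c, hcv, polB_comm c' c] using hcc
      · simpa [polB_self, hc'.2.1, polB_comm v c', hc'v, polB_comm c' c, hcc] using hvq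
  have hS0 : Sec z₀ := ⟨hz₀0, hz₀, mem_orth_singleton.1 hz₀U⟩
  obtain ⟨t, ht⟩ := htype z₀ hS0
  have hall : ∀ c, Sec c → InPerp K (fr.j c) (z + t • x) := fun c hc => by
    obtain ⟨t', ht'⟩ := htype c hc
    obtain ⟨c1, h1, h1c, h10⟩ := hcommon c z₀ hc hS0
    rwa [same_opp c1 c z₀ h1 hc hS0 h1c h10 t' t ht' ht] at ht'
  set z' := z + t • x with hz'def
  have hxx : polB Q x x = 0 := by rw [polB_self, hx, mul_zero]
  have hxz' : polB Q x z' = 0 := by simp [hz'def, hxz, hxx]
  have hqz' : Q z' ≠ 0 := by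
    rwa [hz'def, qmap_add_smul, hx, polB_comm z x, hxz, mul_zero, mul_zero, add_zero, add_zero]
  let P : V → Prop := fun u => ¬ FullAt K u ∧ InPerp K u z'
  have hPinv : ∀ g ∈ K, g.1.1 z' = z' → ∀ u, Q u = 0 → P (g.1.1 u) → P u := by
    intro g hg hgz u hu ⟨h1, h2⟩
    have hu' : Q (g.1.1 u) = 0 := by rw [orth_qmap, hu]
    have e : (g⁻¹).1.1 (g.1.1 u) = u := orth_inv_apply_self g.1 u
    have ez : (g⁻¹).1.1 z' = z' := by
      conv_lhs => rw [← hgz]
      exact orth_inv_apply_self g.1 z'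
    refine ⟨fun hf => h1 (hf.transport hQ h7 hu hg), ?_⟩
    have := h2.transport hQ h7 hu' (K.inv_mem hg)
    rwa [e, ez] at this
  have hbase : ∀ u, u ≠ 0 → Q u = 0 → polB Q x u = 0 → polB Q z' u = 0 → P u := by
    intro u hu0 hu hxu hzu
    set c := fr.P u with hcdef
    set s := polB Q u y
    have hd : u = s • x + fr.j c := by
      rw [hcdef, j_P_perp fr hxu]; simp [s]
    by_cases hc0 : c = 0
    · rw [hc0, map_zero, add_zero] at hd
      have hs : s ≠ 0 := fun h => hu0 (by rw [hd, h, zero_smul])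
      rw [hd]
      refine ⟨fun hf => hnf fun v hv => ?_, fun v hv hv' => ?_⟩
      · have := hf (s⁻¹ • v) (by simp [hv])
        rwa [el_smul_left hQ h7 hx (by rw [map_smul, hv, smul_zero]) hs, smul_smul, mul_inv_cancel₀ hs,
          one_smul] at this
      · rw [map_smul, LinearMap.smul_apply, smul_eq_mul, mul_eq_zero] at hv
        have hv0 := hv.resolve_left hs
        rw [el_smul_left hQ h7 hx hv0 hs]
        refine hIn _ (by rw [map_smul, hv0, smul_zero]) ?_
        rw [hz'def, map_add, LinearMap.add_apply, map_smul, LinearMap.smul_apply, hv0, smul_zero,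
          add_zero] at hv'
        rw [map_smul, hv', smul_zero]
    have hcS : Sec c := by
      refine ⟨hc0, by rw [hcdef, P_qmap fr hxu, hu], ?_⟩
      rw [hcdef, polB_comm, ← fr.b_P, polB_comm]
      rw [hz'def, map_add, LinearMap.add_apply, map_smul, LinearMap.smul_apply, hxu, smul_zero,
        add_zero] at hzu
      exact hzu
    obtain ⟨q, p, hzc, n⟩ := hsec c hcS
    have hPc : P (fr.j c) := ⟨not_full hQ h7 hx0 hx hz hxz hIn hnf q p hzc n, hall c hcS⟩
    obtain ⟨w, hw, hcw⟩ := exists_orth_polB_eq fr.nd' (not_mem_span_of_qmap hjq hcS.2.1 hc0) s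
    have hjw := hw j (Submodule.mem_span_singleton_self j)
    have hq : polB Q x (fr.j w) = 0 := (fr.orth w).1
    have hmem : el Q x (fr.j w) ∈ K := hIn _ hq (by rw [fr.bform, hjw])
    have hgz : (el Q x (fr.j w)).1.1 z' = z' :=
      el_fix hQ h7 hx hq (by rw [polB_comm]; exact hxz') (by
        rw [hz'def, map_add, LinearMap.add_apply, map_smul, LinearMap.smul_apply, hq, smul_zero,
          add_zero, fr.bform, hjw])
    refine hPinv _ hmem hgz u hu ?_
    have hgu : (el Q x (fr.j w)).1.1 u = fr.j c := by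
      rw [apply_el hQ h7 hx hq, hd]
      simp [hxx, (fr.orth w).1, (fr.orth' c).1, fr.bform, hcw]
    rwa [hgu]
  have hPall : ∀ u, u ≠ 0 → Q u = 0 → polB Q z' u = 0 → P u := by
    have step : ∀ u, u ≠ 0 → Q u = 0 → polB Q z' u = 0 → ∀ c, Sec c →
        polB Q u (fr.j c) ≠ 0 → P u := by
      intro u hu0 hu hzu c hc huc
      obtain ⟨q, p, hzc, n⟩ := hsec c hc
      have hcx : polB Q (fr.j c) x = 0 := by rw [polB_comm]; exact p
      have hzc' : polB Q z' (fr.j c) = 0 := by simp [hz'def, hzc, p]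
      have hnot : x ∉ Submodule.span F {fr.j c, z'} := by
        intro h
        obtain ⟨a, b, hab⟩ := Submodule.mem_span_pair.1 h
        have h1 := congrArg fr.P hab
        rw [fr.P_x, map_add, map_smul, map_smul, fr.P_j, hz'def, map_add, map_smul, fr.P_x, smul_zero,
          add_zero, fr.P_j] at h1
        rcases eq_or_ne a 0 with ha | ha
        · rw [ha, zero_smul, zero_add, smul_eq_zero] at h1
          rw [ha, zero_smul, zero_add, h1.resolve_right hj0, zero_smul] at hab
          exact hx0 hab.symm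
        · have hcj : c = (-(b / a)) • j := by
            rw [eq_comm, ← sub_eq_zero]
            have := congrArg (fun e => (-a⁻¹) • e) h1
            simp only [smul_add, smul_smul, smul_zero] at this
            rw [← this]
            match_scalars <;> field_simp
          exact not_mem_span_of_qmap hjq hc.2.1 hc.1 (Submodule.mem_span_singleton.2 ⟨_, hcj.symm⟩)
      obtain ⟨v, hv, hxv⟩ := exists_orth_polB_eq hQ hnot (-(polB Q u x) / polB Q u (fr.j c))
      have hcv := hv (fr.j c) (Submodule.subset_span (by simp))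
      have hzv := hv z' (Submodule.subset_span (by simp))
      have hmem : el Q (fr.j c) v ∈ K := hall c hc v hcv hzv
      have hgz : (el Q (fr.j c) v).1.1 z' = z' := el_fix hQ h7 q hcv hzc' hzv
      refine hPinv _ hmem hgz u hu (hbase _ ?_ ?_ ?_ ?_)
      · exact fun h => hu0 ((el Q (fr.j c) v).1.1.injective (h.trans (map_zero _).symm))
      · rw [orth_qmap, hu]
      · rw [apply_el hQ h7 q hcv, polB_comm x]
        simp [hcx, polB_comm v x, hxv, mul_div_cancel₀ _ huc]
      · rw [← hgz, orth_polB_map, hzu]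
    intro u hu0 hu hzu
    by_cases hxu : polB Q x u = 0
    · exact hbase u hu0 hu hxu hzu
    by_cases hc : ∃ c, Sec c ∧ polB Q u (fr.j c) ≠ 0
    · obtain ⟨c, hc, huc⟩ := hc
      exact step u hu0 hu hzu c hc huc
    push Not at hc
    obtain ⟨q, p, hzc, n⟩ := hsec z₀ hS0
    obtain ⟨w, hw, hcw⟩ := exists_orth_polB_eq fr.nd' (not_mem_span_of_qmap hjq hz₀ hz₀0) 1
    have hjw := hw j (Submodule.mem_span_singleton_self j)
    have hq : polB Q x (fr.j w) = 0 := (fr.orth w).1
    have hmem : el Q x (fr.j w) ∈ K := hIn _ hq (by rw [fr.bform, hjw])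
    have hgz : (el Q x (fr.j w)).1.1 z' = z' :=
      el_fix hQ h7 hx hq (by rw [polB_comm]; exact hxz') (by
        rw [hz'def, map_add, LinearMap.add_apply, map_smul, LinearMap.smul_apply, hq, smul_zero,
          add_zero, fr.bform, hjw])
    refine hPinv _ hmem hgz u hu (step _ ?_ ?_ ?_ z₀ hS0 ?_)
    · exact fun h => hu0 ((el Q x (fr.j w)).1.1.injective (h.trans (map_zero _).symm))
    · rw [orth_qmap, hu]
    · rw [← hgz, orth_polB_map, hzu]
    · rw [apply_el hQ h7 hx hq]
      have : polB Q (fr.j w) (fr.j z₀) = 1 := by rw [fr.bform, polB_comm]; exact hcw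
      simpa [hc z₀ hS0, p, this, polB_comm u x] using hxu
  refine ⟨z', hqz', fun g hg => ?_⟩
  by_contra hgz
  set S2 := Submodule.span F {z', g.1.1 z'}
  set U := (polB Q).orthogonal S2 with hU
  obtain ⟨U1, hU1⟩ := Submodule.exists_isCompl ((U ⊓ S2).comap U.subtype)
  have hdim : 3 ≤ Module.finrank F (U1.map U.subtype) := by
    rw [Submodule.finrank_map_subtype_eq]
    have h1 := Submodule.finrank_add_eq_of_isCompl hU1
    have h2 : Module.finrank F ((U ⊓ S2).comap U.subtype) = Module.finrank F (U ⊓ S2 : Submodule F V) :=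
      (Submodule.comapSubtypeEquivOfLe inf_le_left).finrank_eq
    have h3 := finrank_orth_pair hQ z' (g.1.1 z')
    have h4 : Module.finrank F S2 ≤ 2 := by
      show Module.finrank F (Submodule.span F ({z', g.1.1 z'} : Set V)) ≤ 2
      rw [← Matrix.range_cons_cons_empty z' (g.1.1 z') ![]]
      exact (finrank_range_le_card (R := F) ![z', g.1.1 z']).trans (by simp)
    have h6 := Submodule.finrank_mono (inf_le_right : U ⊓ S2 ≤ S2)
    change Module.finrank F V ≤ Module.finrank F U + 2 at h3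
    omega
  obtain ⟨u, huU1, hu0, hu⟩ := exists_singular_in (Q := Q) _ hdim
  obtain ⟨uU, huU, rfl⟩ := huU1
  change (uU : V) ≠ 0 at hu0
  have huS : (uU : V) ∉ S2 := fun h => hu0 (by
    have h1 : uU ∈ (U ⊓ S2).comap U.subtype ⊓ U1 := ⟨⟨uU.2, h⟩, huU⟩
    rw [hU1.inf_eq_bot, Submodule.mem_bot] at h1
    simp [h1])
  obtain ⟨h1, h2⟩ := mem_orth_pair.1 uU.2
  obtain ⟨hnfu, hInu⟩ := hPall _ hu0 hu h1
  obtain ⟨u', hu'⟩ : ∃ u', g.1.1 u' = (uU : V) := ⟨g.1.1.symm _, g.1.1.apply_symm_apply _⟩
  change Q (uU : V) = 0 at hu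
  rw [← hu', orth_qmap] at hu
  have hu'0 : u' ≠ 0 := fun h => hu0 (by rw [← hu', h, map_zero])
  have hzu' : polB Q z' u' = 0 := by rw [← hu', orth_polB_map] at h2; exact h2
  have hInu' := (hPall u' hu'0 hu hzu').2.transport hQ h7 hu hg
  rw [hu'] at hInu'
  refine hnfu (full_of_two hQ h7 (by rw [← hu', orth_qmap, hu]) hInu hInu' h1 fun hmem => ?_)
  obtain ⟨p, r, hpr⟩ := Submodule.mem_span_pair.1 hmem
  rcases eq_or_ne p 0 with rfl | hp
  · exact hgz (Submodule.mem_span_singleton.2 ⟨r, by rw [← hpr, zero_smul, zero_add]⟩)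
  · apply huS
    have : (uU : V) = p⁻¹ • (g.1.1 z' - r • z') := by
      rw [← hpr, add_sub_cancel_right, smul_smul, inv_mul_cancel₀ hp, one_smul]
    rw [this]
    exact Submodule.smul_mem _ _ (sub_mem (Submodule.subset_span (by simp))
      (Submodule.smul_mem _ _ (Submodule.subset_span (by simp))))

include fr h7 in
theorem caseA {j : W} (hjq : Q' j ≠ 0) (hA : ∀ u, polB Q' j u = 0 → u ∈ Iw fr K)
    (hI : Iw fr K ≠ ⊤) :
    OrbitBound K ∨ ∃ z : V, Q z ≠ 0 ∧ ∀ g ∈ K, g.1.1 z ∈ F ∙ z := by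
  obtain ⟨ψ, hψ⟩ := exists_primitive (F := F)
  refine caseA' h7 fr hψ (fun c y' fr' j' hj' hjq' => ?_) hjq hA hI
  rcases local_cases fr' K h7 hψ hj' hjq' with ⟨j'', hq'', hb⟩ | hA' | ⟨hB, -⟩
  · exact Or.inl ⟨c, y', fr', j'', hq'', hb⟩
  · exact Or.inr (Or.inl hA')
  · refine Or.inr (Or.inr fun i hi => ?_)
    rw [hB, AddSubgroup.mem_bot] at hi
    rw [hi]
    exact Submodule.zero_mem _

/-- The index of the stabiliser of a non-singular point. -/
theorem index_of_stab_nonsing (hQ : (polB Q).Nondegenerate) (h5 : 5 ≤ Module.finrank F V) {z : V}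
    (hz : Q z ≠ 0) (h : ∀ g ∈ K, g.1.1 z ∈ F ∙ z) :
    level Q (Q z) ≤ K.index * Nat.card {c : F // c * c = 1} := by
  classical
  haveI : Finite V := Module.finite_of_finite F
  haveI := finite_orthGroup (Q := Q)
  have hz0 : z ≠ 0 := fun e => hz (by rw [e, QuadraticMap.map_zero])
  have key : ∀ L : Subgroup (Om Q),
      Nat.card L = Nat.card ((fun g : Om Q => g.1.1 z) '' (L : Set (Om Q))) *
        Nat.card (L ⊓ stab Q z : Subgroup (Om Q)) := fun L =>
    H48.card_eq_image_mul_stab L (L ⊓ stab Q z) (fun g => g.1.1 z) inf_le_left fun g hg k hk => by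
      rw [Subgroup.mem_inf, mem_stab]
      refine ⟨fun e => ⟨mul_mem (inv_mem hg) hk, ?_⟩, fun ⟨_, e⟩ => ?_⟩
      · show (g.1⁻¹ * k.1).1 z = z
        rw [orth_mul_apply, ← e, orth_inv_apply_self]
      · have e' := congrArg g.1.1 e
        show g.1.1 z = k.1.1 z
        rw [← e']
        show g.1.1 ((g.1⁻¹ * k.1).1 z) = k.1.1 z
        rw [orth_mul_apply, orth_apply_inv_self]
  have h1 := key ⊤
  have h2 := key K
  rw [Subgroup.card_top, top_inf_eq] at h1
  have hlev : level Q (Q z) ≤ Nat.card ((fun g : Om Q => g.1.1 z) '' ((⊤ : Subgroup (Om Q)) : Set (Om Q))) := by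
    refine Nat.card_le_card_of_injective (fun v : {v : V // Q v = Q z} => ⟨v.1, ?_⟩) fun a b e =>
      Subtype.ext (by simpa using e)
    obtain ⟨g, hg, hgv⟩ := eichler_transitive hQ h5 hz v.2
    exact ⟨⟨g, by rw [commutator_eq_eichlerSub hQ h5]; exact hg⟩, trivial, hgv⟩
  have hK : Nat.card ((fun g : Om Q => g.1.1 z) '' (K : Set (Om Q))) ≤ Nat.card {c : F // c * c = 1} := by
    have hc : ∀ v : ((fun g : Om Q => g.1.1 z) '' (K : Set (Om Q))), ∃ c : F, c * c = 1 ∧ c • z = v.1 := by
      rintro ⟨v, g, hg, rfl⟩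
      obtain ⟨c, hc⟩ := Submodule.mem_span_singleton.1 (h g hg)
      refine ⟨c, ?_, hc⟩
      have := orth_qmap g.1 z
      rw [← hc, qmap_smul] at this
      exact mul_right_cancel₀ hz (this.trans (one_mul _).symm)
    choose f hf1 hf2 using hc
    refine Nat.card_le_card_of_injective (fun v => ⟨f v, hf1 v⟩) fun a b e => Subtype.ext ?_
    rw [← hf2 a, ← hf2 b, show f a = f b from congrArg Subtype.val e]
  have hst : Nat.card (K ⊓ stab Q z : Subgroup (Om Q)) ≤ Nat.card (stab Q z) :=
    Subgroup.card_le_of_le inf_le_right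
  refine Nat.le_of_mul_le_mul_right ?_ (Nat.card_pos (α := stab Q z))
  calc level Q (Q z) * Nat.card (stab Q z) ≤ Nat.card (Om Q) := by rw [h1]; gcongr
    _ = K.index * Nat.card K := K.index_mul_card.symm
    _ ≤ K.index * (Nat.card {c : F // c * c = 1} * Nat.card (stab Q z)) := by rw [h2]; gcongr
    _ = _ := by ring

end H48.OrIdx
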