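import Cfsg.Agent.H48.OrIdx.CaseA

/-!
# A trivial image in the radical: the stabiliser of a singular point
-/

set_option autoImplicit false
set_option linter.unusedSectionVars false

namespace H48.OrIdx

open H43 H50.Or

universe u w w'

variable {F : Type u} [Field F] [Finite F] {V : Type w} [AddCommGroup V] [Module F V]
  [FiniteDimensional F V] {Q : QuadraticForm F V}

theorem exists_sq_ne_one (h4 : 4 ≤ Nat.card F) : ∃ t : F, t ≠ 0 ∧ t * t ≠ 1 := by
  classical
  haveI := Fintype.ofFinite F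
  by_contra hcon
  push Not at hcon
  have h : (Finset.univ : Finset F) ⊆ {0, 1, -1} := fun t _ => by
    rcases eq_or_ne t 0 with rfl | ht
    · simp
    rcases mul_self_eq_one_iff.1 (hcon t ht) with rfl | rfl <;> simp
  have := Finset.card_le_card h
  rw [Finset.card_univ] at this
  rw [Nat.card_eq_fintype_card] at h4
  have : Finset.card ({0, 1, -1} : Finset F) ≤ 3 := Finset.card_le_three
  omega

variable {W : Type w'} [AddCommGroup W] [Module F W] [FiniteDimensional F W] {Q' : QuadraticForm F W}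
  {x y : V} (fr : Frame Q x y Q') (K : Subgroup (Om Q))

/-- Every element of the point stabiliser lifts, when all root elements do. -/
theorem stab_le_Lft (h7 : 7 ≤ Module.finrank F V)
    (hroots : ∀ a v : W, Q' a = 0 → polB Q' a v = 0 → el Q (fr.j a) (fr.j v) ∈ Lft fr K) :
    stab Q x ≤ Lft fr K := by
  have h5 : 5 ≤ Module.finrank F V := by omega
  have hW := finrank_W_ge fr h7
  rw [(fr.stab_eq_sup h5).1]
  refine sup_le (fun g hg => ?_) ?_
  · obtain ⟨a, ha⟩ := fr.mem_radO_iff.1 (show g.1 ∈ radO Q x from hg)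
    rw [show g = el Q x (fr.j a) from Subtype.ext (by rw [ha, el_E fr h5])]
    exact el_mem_Lft fr K h5 a
  · rw [← fr.range_extOm h7]
    rintro _ ⟨h, rfl⟩
    let M : Subgroup (orthGroup Q') :=
      ((Lft fr K).map (commutator (orthGroup Q)).subtype).comap fr.ext
    have hM : eichlerSub Q' ≤ M := by
      rw [eichlerSub, Subgroup.closure_le]
      rintro _ ⟨a, v, ha, hav, rfl⟩
      refine ⟨el Q (fr.j a) (fr.j v), hroots a v ha hav, ?_⟩
      rw [Subgroup.coe_subtype, coe_el fr.nd h5 (by rw [fr.form, ha]) (by rw [fr.bform, hav]),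
        fr.ext_eichler ha hav]
    obtain ⟨g, hg, hge⟩ := hM (commutator_le_eichlerSub fr.nd' hW h.2)
    rwa [show fr.extOm h = g from Subtype.ext hge.symm]

/-- Either the index is large, or every scalar occurs in the subgroup. -/
theorem scalars_or_bound (h7 : 7 ≤ Module.finrank F V) (hI : Iw fr K = ⊥)
    (hst : stab Q x ≤ Lft fr K) :
    2 * Nat.card F ^ (Module.finrank F V - 2) ≤ K.index ∨
      ∀ t : F, t ≠ 0 → ∃ g ∈ K, g ∈ PS Q x ∧ lam Q x y g = t := by
  classical
  have h5 : 5 ≤ Module.finrank F V := by omega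
  haveI : Finite V := Module.finite_of_finite F
  haveI := finite_orthGroup (Q := Q)
  haveI : Finite W := Module.finite_of_finite F
  have hx0 := fr.pair.left_ne_zero
  let L : PS Q x →* Fˣ :=
    MonoidHom.mk' (fun g => Units.mk0 (lam Q x y g.1) (lam_ne_zero fr g.2))
      fun g h => Units.ext (lam_mul fr g.2 h.2)
  have hker : ∀ g : PS Q x, L g = 1 ↔ g.1 ∈ stab Q x := fun g => by
    rw [Units.ext_iff]
    constructor
    · intro h
      rw [mem_stab, apply_x fr g.2, show lam Q x y g.1 = 1 from h, one_smul]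
    · intro h
      exact lam_of_fix fr (mem_stab.1 h)
  have hsurj : ∀ t : F, t ≠ 0 → ∃ g : PS Q x, lam Q x y g.1 = t := by
    intro t ht
    obtain ⟨g, hg⟩ := exists_orth_map fr.nd hx0 (smul_ne_zero ht hx0)
      (by rw [qmap_smul, fr.qx, mul_zero])
    obtain ⟨l, hl⟩ := exists_om_map fr.nd h5 (g := g) hx0 fr.qx
    rw [hg] at hl
    refine ⟨⟨l, by rw [mem_PS, hl]; exact Submodule.smul_mem _ _ (Submodule.mem_span_singleton_self x)⟩, ?_⟩
    show polB Q (l.1.1 x) y = t
    rw [hl, map_smul, LinearMap.smul_apply, fr.pair.pair, smul_eq_mul, mul_one]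
  set Λ := (K.subgroupOf (PS Q x)).map L with hΛ
  by_cases htop : Λ = ⊤
  · refine Or.inr fun t ht => ?_
    have : Units.mk0 t ht ∈ Λ := htop ▸ Subgroup.mem_top _
    obtain ⟨g, hg, hgt⟩ := this
    exact ⟨g.1, hg, g.2, congrArg Units.val hgt⟩
  refine Or.inl ?_
  have h1 : Nat.card (PS Q x) = Nat.card Fˣ * Nat.card (stab Q x) := by
    have hLs : Function.Surjective L := fun u => by
      obtain ⟨g, hg⟩ := hsurj u u.ne_zero
      exact ⟨g, Units.ext hg⟩
    have e := H48.card_eq_image_mul_stab (⊤ : Subgroup (PS Q x)) L.ker (fun g => L g) le_top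
      (fun g _ h _ => by rw [MonoidHom.mem_ker, map_mul, map_inv, inv_mul_eq_one])
    rw [Subgroup.card_top] at e
    rw [e, Subgroup.coe_top, Set.image_univ, hLs.range_eq, Nat.card_univ]
    congr 1
    exact Nat.card_congr
      { toFun := fun g => ⟨g.1.1, (hker _).1 g.2⟩
        invFun := fun g => ⟨⟨g.1, stab_le_PS x g.2⟩, (hker _).2 g.2⟩
        left_inv := fun g => rfl
        right_inv := fun g => rfl }
  have h2 : Nat.card (K.subgroupOf (PS Q x)) = Nat.card Λ * Nat.card (K ⊓ stab Q x : Subgroup (Om Q)) := by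
    have e := H48.card_eq_image_mul_stab (K.subgroupOf (PS Q x)) (K.subgroupOf (PS Q x) ⊓ L.ker)
      (fun g => L g) inf_le_left
      (fun g hg h hh => by
        rw [Subgroup.mem_inf, MonoidHom.mem_ker, map_mul, map_inv, inv_mul_eq_one]
        exact ⟨fun e => ⟨mul_mem (inv_mem hg) hh, e⟩, fun e => e.2⟩)
    rw [e]
    congr 1
    exact Nat.card_congr
      { toFun := fun g => ⟨g.1.1, g.2.1, (hker _).1 g.2.2⟩
        invFun := fun g => ⟨⟨g.1, stab_le_PS x g.2.2⟩, g.2.1, (hker _).2 g.2.2⟩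
        left_inv := fun g => rfl
        right_inv := fun g => rfl }
  have h3 : Nat.card (K ⊓ stab Q x : Subgroup (Om Q)) * Nat.card F ^ (Module.finrank F V - 2) ≤
      Nat.card (stab Q x) := by
    have hd := fr.finrank_eq
    have e := card_lift_mul_le fr K h5 (S := stab Q x) (stab_le_PS x)
      (fun a => mem_stab.2 (el_apply_x fr h5 a))
    have hq : Nat.card (W ⧸ Iw fr K) = Nat.card F ^ (Module.finrank F V - 2) := by
      rw [hI, Nat.card_congr (QuotientAddGroup.quotientBot).toEquiv,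
        Module.natCard_eq_pow_finrank (K := F) (V := W)]
      congr 1
      omega
    rw [hq] at e
    exact e.trans (Subgroup.card_le_of_le inf_le_right)
  have h4 : 2 * Nat.card Λ ≤ Nat.card Fˣ := by
    have e := Λ.index_mul_card
    have h0 : Λ.index ≠ 0 := Subgroup.index_ne_zero_of_finite
    have h1' : Λ.index ≠ 1 := fun h => htop (Subgroup.index_eq_one.1 h)
    rw [← e]
    exact Nat.mul_le_mul_right _ (by omega)
  have h5' : (K.subgroupOf (PS Q x)).index ≤ K.index := by
    conv_rhs => rw [← Subgroup.relIndex_top_right K]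
    refine Subgroup.relIndex_le_of_le_right le_top ?_
    rw [Subgroup.relIndex_top_right]
    exact Subgroup.index_ne_zero_of_finite
  have h6 := (K.subgroupOf (PS Q x)).index_mul_card
  rw [h1, h2] at h6
  refine le_trans ?_ h5'
  refine Nat.le_of_mul_le_mul_right ?_ (Nat.mul_pos (Nat.card_pos (α := Λ))
    (Nat.card_pos (α := (K ⊓ stab Q x : Subgroup (Om Q)))))
  rw [h6]
  calc 2 * Nat.card F ^ (Module.finrank F V - 2) * (Nat.card Λ * Nat.card (K ⊓ stab Q x : Subgroup (Om Q)))
      = (2 * Nat.card Λ) *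
        (Nat.card (K ⊓ stab Q x : Subgroup (Om Q)) * Nat.card F ^ (Module.finrank F V - 2)) := by ring
    _ ≤ _ := Nat.mul_le_mul h4 h3

theorem polB_E (u : W) (z : V) : polB Q x ((fr.E u).1 z) = polB Q x z := by
  have := orth_polB_map (fr.E u) x z
  rwa [fr.E_x] at this

/-- Conjugating the opposite point by a radical element. -/
theorem exists_frame_shift (h5 : 5 ≤ Module.finrank F V) (u : W) :
    ∃ fr' : Frame Q x ((fr.E u).1 y) Q', Iw fr' K = Iw fr K ∧ Lft fr' K = Lft fr K := by
  refine ⟨{ nd := fr.nd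
            pair := ⟨fr.pair.left, by rw [orth_qmap]; exact fr.pair.right, ?_⟩
            j := ((fr.E u).1 : V →ₗ[F] V).comp fr.j
            inj := (fr.E u).1.injective.comp fr.inj
            form := fun a => by
              show Q ((fr.E u).1 (fr.j a)) = _
              rw [orth_qmap, fr.form]
            orth := fun a => ⟨?_, by
              show polB Q ((fr.E u).1 y) ((fr.E u).1 (fr.j a)) = 0
              rw [orth_polB_map, (fr.orth a).2]⟩
            surj := fun z h1 h2 => ?_ }, ?_, ?_⟩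
  · rw [polB_E, fr.pair.pair]
  · show polB Q x ((fr.E u).1 (fr.j a)) = 0
    rw [polB_E, (fr.orth a).1]
  · obtain ⟨z', rfl⟩ : ∃ z', (fr.E u).1 z' = z := ⟨(fr.E u).1.symm z, (fr.E u).1.apply_symm_apply z⟩
    rw [polB_E] at h1
    rw [orth_polB_map] at h2
    obtain ⟨a, ha⟩ := fr.surj z' h1 h2
    exact ⟨a, by show (fr.E u).1 (fr.j a) = _; rw [ha]⟩
  all_goals
    have key : ∀ a : W, el Q x ((fr.E u).1 (fr.j a)) = el Q x (fr.j a) := fun a => by
      have hp : polB Q x (fr.j a) = 0 := (fr.orth a).1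
      have hp' : polB Q x ((fr.E u).1 (fr.j a)) = 0 := by rw [polB_E, hp]
      rw [el_eq_E h5 fr hp']
      congr 2
      rw [fr.E_j, map_sub, map_smul, fr.P_x, fr.P_j, smul_zero, sub_zero]
    simp [Iw, Lft, key]

/-- A lifted central element of the Levi factor lies in the subgroup, up to a change of frame. -/
theorem exists_shift_mem (h7 : 7 ≤ Module.finrank F V) {t0 : F} (ht0 : t0 ≠ 0) (ht01 : t0 * t0 ≠ 1)
    (hmem : ∀ (hm : hscale Q x y t0 * hscale Q x y t0 ∈ commutator (orthGroup Q)),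
      (⟨_, hm⟩ : Om Q) ∈ Lft fr K) :
    ∃ u : W, ∀ (hm : hscale Q x ((fr.E u).1 y) t0 * hscale Q x ((fr.E u).1 y) t0 ∈
      commutator (orthGroup Q)), (⟨_, hm⟩ : Om Q) ∈ K := by
  have h5 : 5 ≤ Module.finrank F V := by omega
  have hm : hscale Q x y t0 * hscale Q x y t0 ∈ commutator (orthGroup Q) :=
    mul_self_mem fr.nd (Or.inr (by omega)) (by omega) _
  set h0 : Om Q := ⟨_, hm⟩
  have hh0 : h0.1.1 x = (t0 * t0) • x := by
    show (hscale Q x y t0 * hscale Q x y t0).1 x = _
    rw [orth_mul_apply, hscale_left fr.pair ht0, map_smul, hscale_left fr.pair ht0, smul_smul]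
  have hP0 : h0 ∈ PS Q x := by
    rw [mem_PS, hh0]
    exact Submodule.smul_mem _ _ (Submodule.mem_span_singleton_self x)
  have hl0 : lam Q x y h0 = t0 * t0 := by
    rw [lam, hh0, map_smul, LinearMap.smul_apply, fr.pair.pair, smul_eq_mul, mul_one]
  obtain ⟨-, w, hw⟩ := (mem_Lft fr K h5).1 (hmem hm)
  have hne : (1 : F) - t0 * t0 ≠ 0 := sub_ne_zero.2 (Ne.symm ht01)
  refine ⟨((1 : F) - t0 * t0)⁻¹ • w, fun hm' => ?_⟩
  set u := ((1 : F) - t0 * t0)⁻¹ • w with hudef
  have e : (⟨_, hm'⟩ : Om Q) = el Q x (fr.j w) * h0 := by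
    have hc : (⟨_, hm'⟩ : Om Q) = el Q x (fr.j u) * h0 * (el Q x (fr.j u))⁻¹ := by
      apply Subtype.ext
      show _ = (el Q x (fr.j u)).1 * (hscale Q x y t0 * hscale Q x y t0) * (el Q x (fr.j u)).1⁻¹
      rw [el_E fr h5]
      have hc1 : hscale Q x ((fr.E u).1 y) t0 = fr.E u * hscale Q x y t0 * (fr.E u)⁻¹ := by
        apply orth_ext
        intro z
        obtain ⟨z', rfl⟩ : ∃ z', (fr.E u).1 z' = z := ⟨(fr.E u).1.symm z, (fr.E u).1.apply_symm_apply z⟩
        have hpr : HypPair Q x ((fr.E u).1 y) :=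
          ⟨fr.pair.left, by rw [orth_qmap]; exact fr.pair.right, by rw [polB_E, fr.pair.pair]⟩
        rw [orth_mul_apply, orth_mul_apply, orth_inv_apply_self, hscale_apply hpr ht0,
          hscale_apply fr.pair ht0, orth_polB_map]
        rw [show polB Q ((fr.E u).1 z') x = polB Q z' x by
          rw [polB_comm, polB_E, polB_comm]]
        rw [map_add, map_add, map_smul, map_smul, fr.E_x]
      show hscale Q x ((fr.E u).1 y) t0 * hscale Q x ((fr.E u).1 y) t0 = _
      rw [hc1]
      group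
    rw [hc, el_neg fr h5, mul_assoc,
      show h0 * el Q x (fr.j (-u)) = el Q x (fr.j (lam Q x y h0 • fr.P (h0.1.1 (fr.j (-u))))) * h0 by
        rw [← conj_el fr h5 hP0]; group,
      ← mul_assoc, el_add fr h5]
    congr 3
    have hfix : h0.1.1 (fr.j (-u)) = fr.j (-u) := by
      show (hscale Q x y t0 * hscale Q x y t0).1 _ = _
      rw [orth_mul_apply, hscale_fix fr.pair ht0 (fr.orth' _).1 (fr.orth' _).2,
        hscale_fix fr.pair ht0 (fr.orth' _).1 (fr.orth' _).2]
    rw [hfix, fr.P_j, hl0, hudef]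
    match_scalars
    have hne' : (1 : F) - t0 ^ 2 ≠ 0 := by rwa [sq]
    field_simp
    ring
  rw [e]
  exact hw

/-- The normalised situation. -/
theorem caseB_core {y' : V} (fr : Frame Q x y' Q') (h7 : 7 ≤ Module.finrank F V)
    (h4 : 4 ≤ Nat.card F) (hI : Iw fr K = ⊥) (hst : stab Q x ≤ Lft fr K)
    (hscal : ∀ t : F, t ≠ 0 → ∃ g ∈ K, g ∈ PS Q x ∧ lam Q x y' g = t) (t0 : F) (ht0 : t0 ≠ 0)
    (ht01 : t0 * t0 ≠ 1)
    (hu : ∀ (hm : hscale Q x y' t0 * hscale Q x y' t0 ∈ commutator (orthGroup Q)),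
      (⟨_, hm⟩ : Om Q) ∈ K) :
    OrbitBound K ∨ ∃ p : V, p ≠ 0 ∧ Q p = 0 ∧ ∀ g ∈ K, g.1.1 p ∈ F ∙ p := by
  classical
  have h5 : 5 ≤ Module.finrank F V := by omega
  haveI : Finite V := Module.finite_of_finite F
  by_cases hbound : OrbitBound K
  · exact Or.inl hbound
  refine Or.inr ?_
  have hm := mul_self_mem (Q := Q) fr.nd (Or.inr (by omega)) (by omega) (hscale Q x y' t0)
  set h0 : Om Q := ⟨_, hm⟩ with hh0def
  have hh0 : h0 ∈ K := hu hm
  have hh0x : h0.1.1 x = (t0 * t0) • x := by
    show (hscale Q x y' t0 * hscale Q x y' t0).1 x = _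
    rw [orth_mul_apply, hscale_left fr.pair ht0, map_smul, hscale_left fr.pair ht0, smul_smul]
  have hh0y : h0.1.1 y' = (t0⁻¹ * t0⁻¹) • y' := by
    show (hscale Q x y' t0 * hscale Q x y' t0).1 y' = _
    rw [orth_mul_apply, hscale_right fr.pair ht0, map_smul, hscale_right fr.pair ht0, smul_smul]
  have hh0j : ∀ a, h0.1.1 (fr.j a) = fr.j a := fun a => by
    show (hscale Q x y' t0 * hscale Q x y' t0).1 _ = _
    rw [orth_mul_apply, hscale_fix fr.pair ht0 (fr.orth' a).1 (fr.orth' a).2,
      hscale_fix fr.pair ht0 (fr.orth' a).1 (fr.orth' a).2]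
  have hP0 : h0 ∈ PS Q x := by
    rw [mem_PS, hh0x]
    exact Submodule.smul_mem _ _ (Submodule.mem_span_singleton_self x)
  have hl0 : lam Q x y' h0 = t0 * t0 := by
    rw [lam, hh0x, map_smul, LinearMap.smul_apply, fr.pair.pair, smul_eq_mul, mul_one]
  -- elements fixing both points
  have hfix2 : stab Q x ⊓ stab Q y' ≤ K := by
    rintro g ⟨hgx, hgy⟩
    obtain ⟨-, w, hw⟩ := (mem_Lft fr K h5).1 (hst hgx)
    obtain ⟨h, hh⟩ := fr.exists_ext (g := g.1) hgx hgy
    have hcomm : h0 * g = g * h0 := Subtype.ext (by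
      show hscale Q x y' t0 * hscale Q x y' t0 * g.1 = g.1 * (hscale Q x y' t0 * hscale Q x y' t0)
      rw [hh]
      exact ((fr.hscale_comm_ext ht0 h).mul_left (fr.hscale_comm_ext ht0 h)).eq)
    have h1 := K.mul_mem (K.mul_mem (K.mul_mem hh0 hw) (K.inv_mem hh0)) (K.inv_mem hw)
    have e : h0 * (el Q x (fr.j w) * g) * h0⁻¹ * (el Q x (fr.j w) * g)⁻¹ =
        el Q x (fr.j (lam Q x y' h0 • fr.P (h0.1.1 (fr.j w)) + -w)) := by
      rw [← el_add fr h5, ← conj_el fr h5 hP0, ← el_neg fr h5]
      calc _ = h0 * el Q x (fr.j w) * (g * h0⁻¹ * g⁻¹) * (el Q x (fr.j w))⁻¹ := by group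
        _ = _ := by
          rw [show g * h0⁻¹ * g⁻¹ = h0⁻¹ by
            rw [mul_inv_eq_iff_eq_mul, eq_inv_mul_iff_mul_eq, ← mul_assoc, hcomm, mul_inv_cancel_right]]
    rw [e, hh0j, fr.P_j, hl0, ← mem_Iw fr K h5, hI, AddSubgroup.mem_bot, ← sub_eq_add_neg,
      show (t0 * t0) • w - w = (t0 * t0 - 1) • w by rw [sub_smul, one_smul], smul_eq_zero] at h1
    have hw0 := h1.resolve_left (sub_ne_zero.2 ht01)
    rwa [hw0, el_zero' fr h5, one_mul] at hw
  have hfixK : ∀ g ∈ K, g.1.1 x = x → g.1.1 y' = y' := by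
    intro g hg hgx
    obtain ⟨a, h, e⟩ := fr.stab_decomp (g := g.1) hgx
    have hr : (el Q x (fr.j a))⁻¹ * g ∈ K := hfix2 ⟨by
        show ((el Q x (fr.j a)).1⁻¹ * g.1).1 x = x
        rw [el_E fr h5, e, inv_mul_cancel_left, fr.ext_x], by
        show ((el Q x (fr.j a)).1⁻¹ * g.1).1 y' = y'
        rw [el_E fr h5, e, inv_mul_cancel_left, fr.ext_y]⟩
    have h1 := K.mul_mem hg (K.inv_mem hr)
    rw [show g * ((el Q x (fr.j a))⁻¹ * g)⁻¹ = el Q x (fr.j a) by group, ← mem_Iw fr K h5, hI,
      AddSubgroup.mem_bot] at h1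
    rw [e, h1, fr.E_zero, one_mul, fr.ext_y]
  have hscal2 : ∀ t : F, t ≠ 0 → ∃ g ∈ K, g.1.1 x = t • x ∧ g.1.1 y' = t⁻¹ • y' := by
    intro t ht
    obtain ⟨g, hg, hgP, hgl⟩ := hscal t ht
    have hgx : g.1.1 x = t • x := by rw [apply_x fr hgP, hgl]
    refine ⟨g, hg, hgx, ?_⟩
    set c := h0 * g * h0⁻¹ * g⁻¹
    have hcP : ∀ g' ∈ PS Q x, (g'⁻¹ : Om Q) ∈ PS Q x := fun _ h => inv_mem h
    have hcx : c.1.1 x = x := by
      rw [apply_x fr (mul_mem (mul_mem (mul_mem hP0 hgP) (hcP _ hP0)) (hcP _ hgP)),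
        lam_mul fr (mul_mem (mul_mem hP0 hgP) (hcP _ hP0)) (hcP _ hgP),
        lam_mul fr (mul_mem hP0 hgP) (hcP _ hP0), lam_mul fr hP0 hgP, lam_inv fr hP0, lam_inv fr hgP]
      have h1 := lam_ne_zero fr hP0
      have h2 := lam_ne_zero fr hgP
      rw [show lam Q x y' h0 * lam Q x y' g * (lam Q x y' h0)⁻¹ * (lam Q x y' g)⁻¹ = 1 by field_simp,
        one_smul]
    have hcy := hfixK c (K.mul_mem (K.mul_mem (K.mul_mem hh0 hg) (K.inv_mem hh0)) (K.inv_mem hg)) hcx
    obtain ⟨z, hz⟩ : ∃ z, g.1.1 z = y' := ⟨g.1.1.symm y', g.1.1.apply_symm_apply y'⟩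
    have hez : h0.1.1 z = (t0⁻¹ * t0⁻¹) • z := by
      have h1 : h0.1.1 (g.1.1 ((h0⁻¹).1.1 ((g⁻¹).1.1 y'))) = y' := hcy
      rw [show (g⁻¹).1.1 y' = z by rw [← hz]; exact orth_inv_apply_self g.1 z] at h1
      rw [show y' = h0.1.1 ((t0 * t0) • y') by
        rw [map_smul, hh0y, smul_smul, show t0 * t0 * (t0⁻¹ * t0⁻¹) = 1 by field_simp, one_smul]] at h1
      have h2 := h0.1.1.injective h1
      rw [← hz, ← map_smul] at h2
      have h3 := g.1.1.injective h2
      have h4 := congrArg h0.1.1 h3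
      rw [show h0.1.1 ((h0⁻¹).1.1 z) = z from orth_apply_inv_self h0.1 z, map_smul] at h4
      conv_rhs => rw [h4, smul_smul, show t0⁻¹ * t0⁻¹ * (t0 * t0) = 1 by field_simp, one_smul]
    have hzx : polB Q x z = t := by
      have h1 : polB Q (t • x) y' = polB Q x z := by rw [← hgx, ← hz, orth_polB_map]
      rw [map_smul, LinearMap.smul_apply, fr.pair.pair, smul_eq_mul, mul_one] at h1
      exact h1.symm
    have hd := fr.decomp z
    have hw0 : fr.P z = 0 := by
      have h1 := congrArg fr.P hez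
      rw [map_smul] at h1
      conv_lhs at h1 => rw [hd]
      simp [hh0x, hh0y, hh0j, fr.P_x, fr.P_y, fr.P_j] at h1
      have h2 : (1 - t0⁻¹ * t0⁻¹) • fr.P z = 0 := by rw [sub_smul, one_smul, ← h1, sub_self]
      refine (smul_eq_zero.1 h2).resolve_left (sub_ne_zero.2 fun h => ht01 ?_)
      field_simp at h
      linear_combination h
    rw [hw0, map_zero, add_zero, polB_comm z x, hzx] at hd
    have hqz : Q z = 0 := by rw [← orth_qmap g.1, hz]; exact fr.pair.right
    have hq0 : polB Q z y' * t = 0 := by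
      have := qmap_coords fr (polB Q z y') t 0
      rw [map_zero, add_zero, ← hd, hqz, QuadraticMap.map_zero, add_zero] at this
      exact this.symm
    rw [(mul_eq_zero.1 hq0).resolve_right ht, zero_smul, zero_add] at hd
    rw [hd, map_smul] at hz
    calc g.1.1 y' = t⁻¹ • t • g.1.1 y' := by rw [smul_smul, inv_mul_cancel₀ ht, one_smul]
      _ = _ := by rw [hz]
  -- the points of the complement
  have hx0 := fr.pair.left_ne_zero
  have hy0 := fr.pair.symm.left_ne_zero
  have hW := finrank_W_ge fr h7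
  have hroot : ∀ a v : W, Q' a = 0 → polB Q' a v = 0 → el Q (fr.j a) (fr.j v) ∈ K := by
    intro a v ha hav
    have ha' : Q (fr.j a) = 0 := by rw [fr.form, ha]
    have hav' : polB Q (fr.j a) (fr.j v) = 0 := by rw [fr.bform, hav]
    refine hfix2 ⟨mem_stab.2 ?_, mem_stab.2 ?_⟩
    · rw [coe_el fr.nd h5 ha' hav', eichler_fix ha' hav' (fr.orth a).1 (fr.orth v).1]
    · rw [coe_el fr.nd h5 ha' hav', eichler_fix ha' hav' (fr.orth a).2 (fr.orth v).2]
  have key : ∀ a : W, Q' a = 0 → a ≠ 0 → el Q (fr.j a) y' ∈ K := by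
    intro a ha ha0
    set c := fr.j a with hcdef
    have hc : Q c = 0 := by rw [hcdef, fr.form, ha]
    have hc0 : c ≠ 0 := fun h => ha0 (fr.inj (h.trans (map_zero _).symm))
    have hcx : polB Q c x = 0 := (fr.orth' a).1
    have hcy : polB Q c y' = 0 := (fr.orth' a).2
    have hxy : ∀ p r : F, polB Q c (p • x + r • y') = 0 := fun p r => by simp [hcx, hcy]
    let Pi : Submodule F (F × F) :=
      Submodule.span F {p | el Q c (p.1 • x + p.2 • y') ∈ K}
    have hscale2 : ∀ p : F × F, el Q c (p.1 • x + p.2 • y') ∈ K → ∀ s : F,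
        el Q c ((s • p).1 • x + (s • p).2 • y') ∈ K := by
      intro p hp
      obtain ⟨a', hpa, -⟩ := exists_hypPair_orth fr.nd' (W := ⊥) ha (by simpa using ha0)
        (fun z hz => by simp [(Submodule.mem_bot F).1 hz])
      have hP : HypPair Q c (fr.j a') :=
        ⟨hc, by rw [fr.form]; exact hpa.right, by rw [hcdef, fr.bform]; exact hpa.pair⟩
      have hsq : ∀ s : F, el Q c ((s * s) • (p.1 • x + p.2 • y')) ∈ K := by
        intro s
        rcases eq_or_ne s 0 with rfl | hs
        · rw [mul_zero, zero_smul, el_zero fr.nd h5 hc]; exact K.one_mem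
        set h := hscale Q c (fr.j a') s
        have hm2 : h * h ∈ commutator (orthGroup Q) :=
          mul_self_mem fr.nd (Or.inr (by omega)) (by omega) h
        have hfx : ∀ z, polB Q z c = 0 → polB Q z (fr.j a') = 0 → (h * h).1 z = z := fun z h1 h2 => by
          rw [orth_mul_apply, hscale_fix hP hs h1 h2, hscale_fix hP hs h1 h2]
        have hmem : (⟨h * h, hm2⟩ : Om Q) ∈ K :=
          hfix2 ⟨hfx x (fr.orth a).1 (fr.orth a').1, hfx y' (fr.orth a).2 (fr.orth a').2⟩
        have h1 := K.mul_mem (K.mul_mem hmem hp) (K.inv_mem hmem)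
        rw [el_conj fr.nd h5 _ hc (hxy _ _)] at h1
        change el Q ((h * h).1 c) ((h * h).1 (p.1 • x + p.2 • y')) ∈ K at h1
        rwa [orth_mul_apply h h c, hscale_left hP hs, map_smul, hscale_left hP hs, smul_smul, map_add,
          map_smul, map_smul, hfx x (fr.orth a).1 (fr.orth a').1, hfx y' (fr.orth a).2 (fr.orth a').2,
          el_smul_left fr.nd h7 hc (hxy _ _) (mul_ne_zero hs hs)] at h1
      intro s
      obtain ⟨p1, r1, hs⟩ := exists_sum_sq_eq (one_ne_zero (α := F)) one_ne_zero s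
      rw [one_mul, one_mul] at hs
      have e : (s • p).1 • x + (s • p).2 • y' =
          (p1 * p1) • (p.1 • x + p.2 • y') + (r1 * r1) • (p.1 • x + p.2 • y') := by
        rw [← add_smul, hs, Prod.smul_fst, Prod.smul_snd, smul_eq_mul, smul_eq_mul, smul_add, smul_smul,
          smul_smul]
      rw [e, ← el_mul fr.nd h5 hc (by rw [map_smul, hxy, smul_zero]) (by rw [map_smul, hxy, smul_zero])]
      exact K.mul_mem (hsq p1) (hsq r1)
    have hPi : ∀ p ∈ Pi, el Q c (p.1 • x + p.2 • y') ∈ K := by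
      intro p hp
      induction hp using Submodule.span_induction with
      | mem p hp => exact hp
      | zero => simpa [el_zero fr.nd h5 hc] using K.one_mem
      | add p r _ _ hp hr =>
        rw [show (p + r).1 • x + (p + r).2 • y' = (p.1 • x + p.2 • y') + (r.1 • x + r.2 • y') by
          simp only [Prod.fst_add, Prod.snd_add, add_smul]; abel,
          ← el_mul fr.nd h5 hc (hxy _ _) (hxy _ _)]
        exact K.mul_mem hp hr
      | smul s p _ hp => exact hscale2 p hp s
    have hx_not : ∀ p : F × F, p ∈ Pi → p.1 ≠ 0 → p.2 = 0 → False := by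
      intro p hp h1 h2
      have h3 := hPi _ hp
      rw [h2, zero_smul, add_zero,
        el_swap fr.nd h7 (by rw [qmap_smul, fr.qx, mul_zero]) hc (by
          rw [map_smul, LinearMap.smul_apply, polB_comm, hcx, smul_zero]),
        el_smul_left fr.nd h7 fr.qx (by rw [map_neg, polB_comm, hcx, neg_zero]) h1, hcdef, ← map_neg,
        ← map_smul, ← mem_Iw fr K h5, hI, AddSubgroup.mem_bot, smul_eq_zero, neg_eq_zero] at h3
      exact ha0 (h3.resolve_left h1)
    obtain ⟨t, ht, ht1⟩ := exists_sq_ne_one (F := F) h4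
    have htorus : ∀ p : F × F, p ∈ Pi → (t * p.1, t⁻¹ * p.2) ∈ Pi := by
      intro p hp
      obtain ⟨g, hg, hgx, hgy⟩ := hscal2 t ht
      have hgP : g ∈ PS Q x := by
        rw [mem_PS, hgx]
        exact Submodule.smul_mem _ _ (Submodule.mem_span_singleton_self x)
      obtain ⟨b, hb⟩ := fr.surj (g.1.1 c) (perp_of_PS fr hgP (fr.orth a).1) (by
        have := orth_polB_map g.1 y' c
        rw [hgy, map_smul, LinearMap.smul_apply, polB_comm y' c, hcy, smul_eq_mul, mul_eq_zero] at this
        exact this.resolve_left (inv_ne_zero ht))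
      have hb0 : b ≠ 0 := fun h => hc0 (g.1.1.injective (by rw [← hb, h, map_zero, map_zero]))
      have hbq : Q' b = 0 := by rw [← fr.form, hb, orth_qmap, hc]
      obtain ⟨l, hl⟩ := om_transitive fr.nd' hW hb0 hbq ha0 ha
      have hlK : fr.extOm l ∈ K := hfix2 ((fr.range_extOm h7).le ⟨l, rfl⟩)
      have hfixa : (fr.extOm l * g).1.1 c = c := by
        show (fr.ext l.1 * g.1).1 c = c
        rw [orth_mul_apply, ← hb, fr.ext_j, hl]
      have h1 := K.mul_mem (K.mul_mem (K.mul_mem hlK hg) (hPi p hp)) (K.inv_mem (K.mul_mem hlK hg))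
      rw [el_conj fr.nd h5 _ hc (hxy _ _), hfixa] at h1
      apply Submodule.subset_span
      show el Q c ((t * p.1) • x + (t⁻¹ * p.2) • y') ∈ K
      convert h1 using 2
      show _ = (fr.ext l.1 * g.1).1 _
      rw [orth_mul_apply, map_add, map_add, map_smul, map_smul, map_smul, map_smul, hgx, hgy, map_smul,
        map_smul, fr.ext_x, fr.ext_y, smul_smul, smul_smul, mul_comm t p.1, mul_comm t⁻¹ p.2]
    have hfst : ∀ p ∈ Pi, p.1 = 0 := by
      intro p hp
      by_contra h1
      by_cases h2 : p.2 = 0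
      · exact hx_not p hp h1 h2
      have h3 := Pi.sub_mem (htorus p hp) (Pi.smul_mem t⁻¹ hp)
      refine hx_not _ h3 ?_ ?_
      · simp only [Prod.fst_sub, Prod.smul_fst, smul_eq_mul, ← sub_mul]
        refine mul_ne_zero (sub_ne_zero.2 fun e => ht1 ?_) h1
        calc t * t = t * t⁻¹ := congrArg (t * ·) e
          _ = 1 := mul_inv_cancel₀ ht
      · simp
    -- otherwise a point with a non-singular annihilator
    by_contra hkey
    have hsnd : ∀ p ∈ Pi, p.2 = 0 := by
      intro p hp
      by_contra h2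
      have h3 := hPi _ (Pi.smul_mem p.2⁻¹ hp)
      simp only [Prod.smul_fst, Prod.smul_snd, smul_eq_mul, hfst p hp, mul_zero, zero_smul, zero_add,
        inv_mul_cancel₀ h2, one_smul] at h3
      exact hkey h3
    obtain ⟨d, hd⟩ := exists_hypPair fr.nd hc hc0
    obtain ⟨fa⟩ := exists_frame fr.nd hd
    set Wa := (polB Q).orthogonal (Submodule.span F {c, d})
    set Qa := Q.restrict Wa
    haveI : Finite Wa := Module.finite_of_finite F
    obtain ⟨ψ, hψ⟩ := exists_primitive (F := F)
    have hIa : ∀ v : Wa, v ∈ Iw fa K → polB Q (fa.j v) x = 0 ∧ polB Q (fa.j v) y' = 0 := by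
      intro v hv
      have h1 := (mem_Iw fa K h5).1 hv
      set v' := fa.j v
      have hcv : polB Q c v' = 0 := (fa.orth v).1
      have hav : polB Q' a (fr.P v') = 0 := by
        rw [polB_comm, ← fr.b_P, polB_comm]
        exact hcv
      have hdec := fr.decomp v'
      have h2 : el Q c (fr.j (fr.P v')) ∈ K := hroot a (fr.P v') ha (by rw [polB_comm, ← fr.b_P, polB_comm]; exact hcv)
      have h3 := K.mul_mem h1 (K.inv_mem h2)
      have h4 : el Q c (polB Q v' y' • x + polB Q v' x • y') ∈ K := by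
        have e : el Q c v' = el Q c (polB Q v' y' • x + polB Q v' x • y') * el Q c (fr.j (fr.P v')) := by
          rw [el_mul fr.nd h5 hc (hxy _ _) (by rw [hcdef, fr.bform, polB_comm, ← fr.b_P, polB_comm]; exact hcv),
            ← hdec]
        rwa [e, mul_inv_cancel_right] at h3
      have h5' : (polB Q v' y', polB Q v' x) ∈ Pi := Submodule.subset_span h4
      exact ⟨hsnd _ h5', hfst _ h5'⟩
    set j := fa.P (x + y')
    have hcxy : polB Q c (x + y') = 0 := by simp [hcx, hcy]
    have hj : j ∈ ann ψ (polB Qa) (Iw fa K) := fun v hv => by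
      rw [polB_comm, ← fa.b_P]
      obtain ⟨h1, h2⟩ := hIa v hv
      rw [map_add, LinearMap.add_apply, polB_comm x, h1, polB_comm y', h2, add_zero,
        AddChar.map_zero_eq_one]
    have hjq : Qa j ≠ 0 := by
      rw [P_qmap fa hcxy, qmap_add, fr.qx, fr.pair.right, fr.pair.pair]
      simp
    rcases local_cases fa K h7 hψ hj hjq with ⟨j', hj', hb⟩ | hA | ⟨hB, -⟩
    · exact hbound ⟨c, d, fa, j', hj', hb⟩
    · -- a hyperplane inside a subspace of codimension two
      set px := fa.P x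
      set py := fa.P y'
      have hle : (polB Qa).orthogonal (Submodule.span F {j}) ≤
          (polB Qa).orthogonal (Submodule.span F {px, py}) := by
        intro v hv
        obtain ⟨h1, h2⟩ := hIa v (hA v (mem_orth_singleton.1 hv))
        refine mem_orth_pair.2 ⟨?_, ?_⟩
        · rw [← fa.b_P, polB_comm]; exact h1
        · rw [← fa.b_P, polB_comm]; exact h2
      have h1 := Submodule.finrank_mono hle
      have h2 := finrank_orth_singleton fa.nd' (show j ≠ 0 from fun h => hjq (by rw [h, QuadraticMap.map_zero]))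
      have h3 := finrank_orth_add fa.nd' (Submodule.span F {px, py})
      have hli : LinearIndependent F ![px, py] := by
        rw [LinearIndependent.pair_iff]
        intro s r hsr
        have h4 : polB Qa px py = 1 := by
          rw [P_form fa hcx hcy, fr.pair.pair]
        have hxx : polB Qa px px = 0 := by rw [polB_self, P_qmap fa hcx, fr.qx, mul_zero]
        have hyy : polB Qa py py = 0 := by rw [polB_self, P_qmap fa hcy, fr.pair.right, mul_zero]
        have e1 := congrArg (polB Qa px) hsr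
        have e2 := congrArg (polB Qa py) hsr
        simp [h4, hxx, hyy, polB_comm py px] at e1 e2
        exact ⟨e2, e1⟩
      have h5' : Module.finrank F (Submodule.span F ({px, py} : Set Wa)) = 2 := by
        rw [← Matrix.range_cons_cons_empty px py ![], finrank_span_eq_card hli, Fintype.card_fin]
      omega
    · obtain ⟨v, hv, hvn⟩ : ∃ v, polB Q' a v = 0 ∧ v ∉ F ∙ a := by
        by_contra hcon
        push Not at hcon
        have h1 : (polB Q').orthogonal (F ∙ a) ≤ F ∙ a := fun z hz => hcon z (mem_orth_singleton.1 hz)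
        have h2 := Submodule.finrank_mono h1
        have h3 := finrank_orth_singleton fr.nd' ha0
        rw [finrank_span_singleton ha0] at h2
        omega
      have hcv : polB Q c (fr.j v) = 0 := by rw [hcdef, fr.bform, hv]
      have h1 : fa.P (fr.j v) ∈ Iw fa K := by
        rw [mem_Iw fa K h5, ← el_eq_E h5 fa hcv]
        exact hroot a v ha hv
      rw [hB, AddSubgroup.mem_bot] at h1
      have h2 := congrArg fa.j h1
      rw [map_zero, j_P_perp fa hcv, sub_eq_zero] at h2
      apply hvn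
      refine Submodule.mem_span_singleton.2 ⟨polB Q (fr.j v) d, fr.inj ?_⟩
      rw [map_smul, ← hcdef, ← h2]
  -- the radical at the opposite point
  have hfull : FullAt K y' := by
    have hyW : ∀ a : W, polB Q y' (fr.j a) = 0 := fun a => (fr.orth a).2
    have hall : ∀ a : W, ∀ r : F, el Q y' (fr.j (r • a)) ∈ K := by
      obtain ⟨z₀, hz₀0, hz₀⟩ := exists_singular Q' (by omega)
      intro a
      have ha := mem_span_all_singular fr.nd' hz₀0 hz₀ a
      induction ha using Submodule.span_induction with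
      | mem b hb =>
        intro r
        have hb' : Q' (r • b) = 0 := by rw [qmap_smul, show Q' b = 0 from hb, mul_zero]
        by_cases hb0 : r • b = 0
        · rw [hb0, map_zero, el_zero fr.nd h5 fr.pair.right]; exact K.one_mem
        have hn : Q' (-(r • b)) = 0 := by rw [qmap_neg]; exact hb'
        have h1 := key _ hn (neg_ne_zero.2 hb0)
        rwa [el_swap fr.nd h7 fr.pair.right (by rw [fr.form]; exact hn) (hyW _), map_neg, neg_neg] at h1
      | zero => intro r; rw [smul_zero, map_zero, el_zero fr.nd h5 fr.pair.right]; exact K.one_mem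
      | add b b' _ _ hb hb' =>
        intro r
        rw [smul_add, map_add, ← el_mul fr.nd h5 fr.pair.right (hyW _) (hyW _)]
        exact K.mul_mem (hb r) (hb' r)
      | smul s b _ hb => intro r; rw [smul_smul]; exact hb _
    intro v hv
    have e : v = polB Q v x • y' + fr.j (fr.P v) := by
      have := fr.decomp v
      rwa [polB_comm v y', hv, zero_smul, zero_add] at this
    have e' : el Q y' v = el Q y' (fr.j (fr.P v)) := by
      apply Subtype.ext
      rw [coe_el fr.nd h5 fr.pair.right hv, coe_el fr.nd h5 fr.pair.right (hyW _)]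
      conv_lhs => rw [e, add_comm, eichler_add_smul fr.pair.right (hyW _)]
    rw [e']
    simpa using hall (fr.P v) 1
  refine ⟨y', hy0, fr.pair.right, fun g hg => ?_⟩
  by_contra hgy
  set y1 := g.1.1 y' with hy1
  have hy1q : Q y1 = 0 := by rw [hy1, orth_qmap]; exact fr.pair.right
  have hfull1 : FullAt K y1 := hfull.transport fr.nd h7 fr.pair.right hg
  have hd := fr.decomp y1
  set β := polB Q y1 x
  set α := polB Q y1 y'
  set w := fr.P y1
  have hq : α * β + Q' w = 0 := by rw [← qmap_coords fr, ← hd, hy1q]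
  by_cases hα : α = 0
  · rw [hα, zero_smul, zero_add] at hd
    rw [hα, zero_mul, zero_add] at hq
    have hw0 : w ≠ 0 := fun h => hgy (by
      rw [hd, h, map_zero, add_zero]
      exact Submodule.smul_mem _ _ (Submodule.mem_span_singleton_self y'))
    obtain ⟨v, hv⟩ := exists_polB_eq fr.nd' hw0 β
    have hyv : polB Q y' (fr.j v) = 0 := (fr.orth v).2
    have hmem := hfull _ hyv
    have h1 := hfull1.transport fr.nd h7 hy1q hmem
    have e : (el Q y' (fr.j v)).1.1 y1 = fr.j w := by
      rw [apply_el fr.nd h7 fr.pair.right hyv, hd]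
      simp [fr.bform, hv, fr.pair.pair, fr.pair.symm.pair, polB_self, fr.pair.right, (fr.orth' w).2,
        (fr.orth v).2]
    rw [e] at h1
    have hwx : polB Q (fr.j w) x = 0 := (fr.orth' w).1
    have h2 := h1 x hwx
    rw [el_swap fr.nd h7 fr.qx (by rw [fr.form]; exact hq) (fr.orth w).1, ← map_neg, ← mem_Iw fr K h5, hI,
      AddSubgroup.mem_bot, neg_eq_zero] at h2
    exact hw0 h2
  · set v := (-α⁻¹) • w
    have hyv : polB Q y' (fr.j v) = 0 := (fr.orth v).2
    have hmem := hfull _ hyv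
    have h1 := hfull1.transport fr.nd h7 hy1q hmem
    have e : (el Q y' (fr.j v)).1.1 y1 = α • x := by
      rw [apply_el fr.nd h7 fr.pair.right hyv, hd]
      simp [v, fr.bform, qmap_smul, fr.form, fr.pair.pair, fr.pair.symm.pair, polB_self, fr.pair.right,
        (fr.orth' w).2, (fr.orth w).2, (fr.orth w).1, (fr.orth' w).1]
      match_scalars <;> field_simp
      all_goals (first | ring1 | linear_combination hq | linear_combination -hq | linear_combination 2 * hq)
    rw [e] at h1
    obtain ⟨z₀, hz₀0, hz₀⟩ := exists_singular Q' (by omega)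
    have h2 := h1 (fr.j z₀) (by rw [map_smul, LinearMap.smul_apply, (fr.orth z₀).1, smul_zero])
    rw [el_smul_left fr.nd h7 fr.qx (fr.orth z₀).1 hα, ← map_smul, ← mem_Iw fr K h5, hI,
      AddSubgroup.mem_bot, smul_eq_zero] at h2
    exact hz₀0 (h2.resolve_left hα)

/-- The subgroup lies in a point stabiliser. -/
theorem caseB (h7 : 7 ≤ Module.finrank F V) (h4 : 4 ≤ Nat.card F) (hI : Iw fr K = ⊥)
    (hroots : ∀ a v : W, Q' a = 0 → polB Q' a v = 0 → el Q (fr.j a) (fr.j v) ∈ Lft fr K) :
    OrbitBound K ∨ 2 * Nat.card F ^ (Module.finrank F V - 2) ≤ K.index ∨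
      ∃ p : V, p ≠ 0 ∧ Q p = 0 ∧ ∀ g ∈ K, g.1.1 p ∈ F ∙ p := by
  classical
  have h5 : 5 ≤ Module.finrank F V := by omega
  haveI : Finite V := Module.finite_of_finite F
  by_cases hbound : OrbitBound K
  · exact Or.inl hbound
  refine Or.inr ?_
  have hst := stab_le_Lft fr K h7 hroots
  rcases scalars_or_bound fr K h7 hI hst with h | hscal
  · exact Or.inl h
  refine Or.inr ?_
  clear hroots
  -- a central element of the Levi factor
  obtain ⟨t0, ht0, ht01⟩ := exists_sq_ne_one (F := F) h4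
  obtain ⟨u, hu⟩ := exists_shift_mem fr K h7 ht0 ht01 (fun hm => by
    set h0 : Om Q := ⟨_, hm⟩
    have hh0 : h0.1.1 x = (t0 * t0) • x := by
      show (hscale Q x y t0 * hscale Q x y t0).1 x = _
      rw [orth_mul_apply, hscale_left fr.pair ht0, map_smul, hscale_left fr.pair ht0, smul_smul]
    have hP0 : h0 ∈ PS Q x := by
      rw [mem_PS, hh0]
      exact Submodule.smul_mem _ _ (Submodule.mem_span_singleton_self x)
    have hl0 : lam Q x y h0 = t0 * t0 := by
      rw [lam, hh0, map_smul, LinearMap.smul_apply, fr.pair.pair, smul_eq_mul, mul_one]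
    obtain ⟨g, hgK, hgP, hgl⟩ := hscal _ (mul_ne_zero ht0 ht0)
    have hmem : h0 ∈ Lft fr K := by
      have hs : g⁻¹ * h0 ∈ stab Q x := by
        rw [mem_stab, apply_x fr (mul_mem (inv_mem hgP) hP0), lam_mul fr (inv_mem hgP) hP0,
          lam_inv fr hgP, hgl, hl0, inv_mul_cancel₀ (mul_ne_zero ht0 ht0), one_smul]
      have := mul_mem (mem_Lft_of_mem fr K h5 hgK hgP) (hst hs)
      rwa [mul_inv_cancel_left] at this
    exact hmem)
  obtain ⟨fr', hI', hL'⟩ := exists_frame_shift fr K h5 u
  have hst' : stab Q x ≤ Lft fr' K := hL' ▸ hst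
  rw [← hI'] at hI
  have hscal' : ∀ t : F, t ≠ 0 → ∃ g ∈ K, g ∈ PS Q x ∧ lam Q x ((fr.E u).1 y) g = t := fun t ht => by
    obtain ⟨g, h1, h2, h3⟩ := hscal t ht
    refine ⟨g, h1, h2, ?_⟩
    rw [lam, apply_x fr h2, map_smul, LinearMap.smul_apply, fr'.pair.pair, h3, smul_eq_mul, mul_one]
  exact (caseB_core K fr' h7 h4 hI hst' hscal' t0 ht0 ht01 hu).resolve_left hbound

end H48.OrIdx
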