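import Cfsg.Agent.H48.OrIdx.Zeros
import Cfsg.Agent.H43.AutPO.Recognition

/-!
# The orbit of a maximal totally singular subspace
-/

set_option autoImplicit false
set_option linter.unusedSectionVars false

namespace H48.OrIdx

open H43 H50.Or

universe u w

variable {F : Type u} [Field F] [Finite F] {V : Type w} [AddCommGroup V] [Module F V]
  [FiniteDimensional F V] {Q : QuadraticForm F V}

/-- The orbit of a subspace. -/
def subOrbit (Q : QuadraticForm F V) (M : Submodule F V) : Set (Submodule F V) :=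
  Set.range fun g : Om Q => M.map (g.1.1 : V →ₗ[F] V)

theorem map_mul_sub (g h : Om Q) (M : Submodule F V) :
    M.map ((g * h).1.1 : V →ₗ[F] V) = (M.map (h.1.1 : V →ₗ[F] V)).map (g.1.1 : V →ₗ[F] V) := by
  rw [← Submodule.map_comp]
  rfl

theorem subOrbit_map {M N : Submodule F V} (hN : N ∈ subOrbit Q M) (g : Om Q) :
    N.map (g.1.1 : V →ₗ[F] V) ∈ subOrbit Q M := by
  obtain ⟨h, rfl⟩ := hN
  exact ⟨g * h, map_mul_sub g h M⟩

theorem orth_eq_self (hQ : (polB Q).Nondegenerate) {k : ℕ} (hd : Module.finrank F V = 2 * k)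
    {M : Submodule F V} (hM : ∀ z ∈ M, Q z = 0) (hMk : Module.finrank F M = k) :
    (polB Q).orthogonal M = M := by
  have hle : M ≤ (polB Q).orthogonal M := fun z hz w hw => polB_eq_zero_of_singular hM hw hz
  refine (Submodule.eq_of_le_of_finrank_le hle ?_).symm
  have := finrank_orth_add hQ M
  omega

theorem card_fun_subtype (k : ℕ) {M : Submodule F V} (hMk : Module.finrank F M = k) :
    Nat.card M = Nat.card F ^ k := by
  haveI : Finite V := Module.finite_of_finite F
  rw [Module.natCard_eq_pow_finrank (K := F) (V := M), hMk]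

/-- The number of zeros of a form of maximal Witt index. -/
theorem level_plus (hQ : (polB Q).Nondegenerate) {k : ℕ} (hk : 1 ≤ k)
    (hd : Module.finrank F V = 2 * k) {M : Submodule F V} (hM : ∀ z ∈ M, Q z = 0)
    (hMk : Module.finrank F M = k) :
    level Q 0 = Nat.card F ^ k + (Nat.card F ^ k - 1) * Nat.card F ^ (k - 1) := by
  classical
  haveI : Finite V := Module.finite_of_finite F
  haveI := Fintype.ofFinite F
  haveI : Fintype V := Fintype.ofFinite V
  have hperp := orth_eq_self hQ hd hM hMk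
  let π : V →ₗ[F] Module.Dual F M := (LinearMap.lcomp F F M.subtype).comp (polB Q)
  have hπ : ∀ v (p : M), π v p = polB Q v p.1 := fun v p => rfl
  have hker : ∀ v, π v = 0 ↔ v ∈ M := fun v => by
    conv_rhs => rw [← hperp]
    constructor
    · intro h p hp
      rw [polB_comm]
      exact LinearMap.congr_fun h ⟨p, hp⟩
    · intro h
      ext p
      rw [hπ, polB_comm]
      exact h p.1 p.2
  have hkerS : LinearMap.ker π = M := Submodule.ext fun v => hker v
  have hsurj : Function.Surjective π := by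
    rw [← LinearMap.range_eq_top]
    apply Submodule.eq_top_of_finrank_eq
    have := π.finrank_range_add_finrank_ker
    rw [hkerS, hMk, hd] at this
    rw [Subspace.dual_finrank_eq, hMk]
    omega
  have hcardD : Nat.card (Module.Dual F M) = Nat.card F ^ k := by
    rw [Module.natCard_eq_pow_finrank (K := F) (V := Module.Dual F M), Subspace.dual_finrank_eq, hMk]
  haveI : Finite (Module.Dual F M) := Module.finite_of_finite F
  haveI : Fintype (Module.Dual F M) := Fintype.ofFinite _
  have hfib : ∀ f : Module.Dual F M, f ≠ 0 →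
      Fintype.card {v : {v : V // Q v = 0} // π v.1 = f} = Nat.card F ^ (k - 1) := by
    intro f hf
    obtain ⟨v0, hv0⟩ := hsurj f
    have hrk : Module.finrank F (LinearMap.ker f) = k - 1 := by
      have h1 := f.finrank_range_add_finrank_ker
      have h2 : LinearMap.range f = ⊤ := by
        refine LinearMap.range_eq_top.2 fun c => ?_
        obtain ⟨p, hp⟩ : ∃ p, f p ≠ 0 := by
          by_contra h
          push Not at h
          exact hf (LinearMap.ext h)
        exact ⟨(c / f p) • p, by rw [map_smul, smul_eq_mul, div_mul_cancel₀ _ hp]⟩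
      rw [h2, finrank_top, Module.finrank_self, hMk] at h1
      omega
    obtain ⟨p0, hp0⟩ : ∃ p : M, f p = -Q v0 := by
      obtain ⟨p, hp⟩ : ∃ p, f p ≠ 0 := by
        by_contra h
        push Not at h
        exact hf (LinearMap.ext h)
      exact ⟨(-Q v0 / f p) • p, by rw [map_smul, smul_eq_mul, div_mul_cancel₀ _ hp]⟩
    have hq : ∀ p : M, Q (v0 + p.1) = Q v0 + f p := fun p => by
      rw [qmap_add, hM p.1 p.2, add_zero, ← hπ, hv0]
    let e : LinearMap.ker f ≃ {v : {v : V // Q v = 0} // π v.1 = f} :=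
      { toFun := fun p => ⟨⟨v0 + (p0 + p.1 : M).1, by
            rw [hq, map_add, hp0, LinearMap.mem_ker.1 p.2, add_zero, add_neg_cancel]⟩, by
            show π (v0 + _) = f
            rw [map_add, (hker _).2 (p0 + p.1 : M).2, hv0, add_zero]⟩
        invFun := fun v => ⟨⟨v.1.1 - v0 - p0.1, sub_mem ((hker _).1 (by rw [map_sub, v.2, hv0, sub_self]))
            p0.2⟩, by
          rw [LinearMap.mem_ker]
          have h1 := hq (⟨v.1.1 - v0, (hker _).1 (by rw [map_sub, v.2, hv0, sub_self])⟩ : M)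
          rw [show v0 + (v.1.1 - v0) = v.1.1 by abel, v.1.2] at h1
          have e : (⟨v.1.1 - v0 - p0.1, sub_mem ((hker _).1 (by rw [map_sub, v.2, hv0, sub_self])) p0.2⟩ : M) =
              ⟨v.1.1 - v0, (hker _).1 (by rw [map_sub, v.2, hv0, sub_self])⟩ - p0 := rfl
          rw [e, map_sub, hp0]
          linear_combination -h1⟩
        left_inv := fun p => by ext; simp
        right_inv := fun v => by ext; simp }
    rw [← Fintype.card_congr e, ← Nat.card_eq_fintype_card,
      Module.natCard_eq_pow_finrank (K := F) (V := LinearMap.ker f), hrk]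
  have hzero : Fintype.card {v : {v : V // Q v = 0} // π v.1 = 0} = Nat.card F ^ k := by
    rw [← Nat.card_eq_fintype_card, ← card_fun_subtype k hMk]
    exact Nat.card_congr
      { toFun := fun v => ⟨v.1.1, (hker _).1 v.2⟩
        invFun := fun p => ⟨⟨p.1, hM p.1 p.2⟩, (hker _).2 p.2⟩
        left_inv := fun v => rfl
        right_inv := fun p => rfl }
  rw [level, Nat.card_congr (Equiv.sigmaFiberEquiv fun v : {v : V // Q v = 0} => π v.1).symm,
    Nat.card_eq_fintype_card, Fintype.card_sigma, ← Finset.add_sum_erase _ _ (Finset.mem_univ 0),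
    hzero, Finset.sum_congr rfl (fun f hf => hfib f (Finset.ne_of_mem_erase hf)), Finset.sum_const,
    Finset.card_erase_of_mem (Finset.mem_univ _), Finset.card_univ, ← Nat.card_eq_fintype_card, hcardD,
    smul_eq_mul]

theorem el_vec (hQ : (polB Q).Nondegenerate) (h5 : 5 ≤ Module.finrank F V) {u v : V} (hu : Q u = 0)
    (huv : polB Q u v = 0) (z : V) :
    (el Q u v).1.1 z = z + polB Q z u • v - polB Q z v • u - (Q v * polB Q z u) • u := by
  rw [coe_el hQ h5 hu huv, eichler_apply hu huv]

theorem el_fix_vec (hQ : (polB Q).Nondegenerate) (h5 : 5 ≤ Module.finrank F V) {u v z : V} (hu : Q u = 0)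
    (huv : polB Q u v = 0) (h1 : polB Q z u = 0) (h2 : polB Q z v = 0) : (el Q u v).1.1 z = z := by
  rw [coe_el hQ h5 hu huv, eichler_fix hu huv h1 h2]

/-- Many members pass through one vector. -/
theorem members_ge (hQ : (polB Q).Nondegenerate) {k : ℕ} (hk : 3 ≤ k)
    (hd : Module.finrank F V = 2 * k) {M : Submodule F V} (hM : ∀ z ∈ M, Q z = 0)
    (hMk : Module.finrank F M = k) :
    ∃ e : V, e ≠ 0 ∧ Q e = 0 ∧
      Nat.card F ^ (k - 2) + 1 ≤ Nat.card {N : subOrbit Q M // e ∈ N.1} := by
  classical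
  haveI : Finite V := Module.finite_of_finite F
  haveI : Finite (Submodule F V) := Finite.of_injective (fun N : Submodule F V => (N : Set V)) SetLike.coe_injective
  have h5 : 5 ≤ Module.finrank F V := by omega
  let b := Module.finBasisOfFinrankEq F M hMk
  let e : Fin k → V := fun i => (b i : V)
  have hem : ∀ i, e i ∈ M := fun i => (b i).2
  have hli : LinearIndependent F e := b.linearIndependent.map' M.subtype (Submodule.ker_subtype M)
  have hee : ∀ i j, polB Q (e i) (e j) = 0 := fun i j => polB_eq_zero_of_singular hM (hem i) (hem j)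
  obtain ⟨f, hf, hff, hef⟩ := H43.AutPO.exists_dual_family hQ e hli (fun i => hM _ (hem i)) hee
  let i0 : Fin k := ⟨0, by omega⟩
  let i1 : Fin k := ⟨1, by omega⟩
  let i2 : Fin k := ⟨2, by omega⟩
  have h01 : i0 ≠ i1 := by simp [i0, i1]
  have h02 : i0 ≠ i2 := by simp [i0, i2]
  have h12 : i1 ≠ i2 := by simp [i1, i2]
  let S := {s : Fin k → F // s i0 = 0 ∧ s i1 = 0}
  let v : S → V := fun s => ∑ i, s.1 i • f i
  have hfv : ∀ (i : Fin k) (s : S), polB Q (f i) (v s) = 0 := fun i s => by simp [v, hff]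
  have hev : ∀ (i : Fin k) (s : S), polB Q (e i) (v s) = s.1 i := fun i s => by simp [v, hef]
  let g : S → Om Q := fun s => el Q (f i1) (v s)
  have hg0 : ∀ s, (g s).1.1 (e i0) = e i0 := fun s =>
    el_fix_vec hQ h5 (hf i1) (hfv i1 s) (by rw [hef, if_neg h01]) (by rw [hev, s.2.1])
  have hgf : ∀ s, (g s).1.1 (f i1) = f i1 := fun s =>
    el_fix_vec hQ h5 (hf i1) (hfv i1 s) (hff i1 i1) (hfv i1 s)
  have he0 : e i0 ≠ 0 := hli.ne_zero i0
  let w : Om Q := el Q (e i1) (e i2) * el Q (f i1) (f i2)
  have hw0 : w.1.1 (e i0) = e i0 := by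
    show ((el Q (e i1) (e i2)).1 * (el Q (f i1) (f i2)).1).1 (e i0) = _
    rw [orth_mul_apply, el_fix_vec hQ h5 (hf i1) (hff i1 i2) (by rw [hef, if_neg h01])
      (by rw [hef, if_neg h02]), el_fix_vec hQ h5 (hM _ (hem i1)) (hee i1 i2) (hee i0 i1) (hee i0 i2)]
  have hw2 : w.1.1 (e i2) = -f i1 := by
    show ((el Q (e i1) (e i2)).1 * (el Q (f i1) (f i2)).1).1 (e i2) = _
    rw [orth_mul_apply, el_vec hQ h5 (hf i1) (hff i1 i2), hef, if_neg h12.symm, hef, if_pos rfl,
      el_vec hQ h5 (hM _ (hem i1)) (hee i1 i2)]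
    simp [hee, hef, h12, h12.symm, polB_comm (f i1), hM _ (hem i2), hf]
    abel
  have hinj : Function.Injective fun s : S => M.map ((g s).1.1 : V →ₗ[F] V) := by
    intro s t h
    have hmem : (g t).1.1 (e i1) ∈ M.map ((g s).1.1 : V →ₗ[F] V) := by
      change (fun u : S => M.map ((g u).1.1 : V →ₗ[F] V)) s = (fun u : S => M.map ((g u).1.1 : V →ₗ[F] V)) t at h
      simp only at h
      rw [h]
      exact Submodule.mem_map_of_mem (hem i1)
    obtain ⟨p, hp, hpe⟩ := hmem
    change (g s).1.1 p = (g t).1.1 (e i1) at hpe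
    have hdiff : v t - v s = 0 := by
      have e1 : ∀ u : S, (g u).1.1 (e i1) = e i1 + v u := fun u => by
        rw [el_vec hQ h5 (hf i1) (hfv i1 u), hef, if_pos rfl, hev, u.2.2]
        have : Q (v u) = 0 := by
          refine H43.AutPO.span_totally_singular (s := Set.range f) (by rintro _ ⟨i, rfl⟩; exact hf i)
            (by rintro _ ⟨i, rfl⟩ _ ⟨j, rfl⟩; exact hff i j) _
            (Submodule.sum_mem _ fun i _ => Submodule.smul_mem _ _ (Submodule.subset_span ⟨i, rfl⟩))
        simp [this]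
      have h2 : (g s).1.1 (v t - v s) = v t - v s :=
        el_fix_vec hQ h5 (hf i1) (hfv i1 s) (by simp [polB_comm (v t), polB_comm (v s), hfv])
          (by simp [v, hff])
      have h3 : p = e i1 + (v t - v s) := by
        apply (g s).1.1.injective
        rw [hpe, map_add, h2, e1, e1]
        abel
      have h4 : v t - v s ∈ M := by
        have := M.sub_mem hp (hem i1)
        rwa [h3, add_sub_cancel_left] at this
      have h5' : ∀ i, t.1 i - s.1 i = 0 := fun i => by
        have := polB_eq_zero_of_singular hM (hem i) h4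
        rwa [map_sub, hev, hev] at this
      simp only [v, ← Finset.sum_sub_distrib, ← sub_smul, h5', zero_smul, Finset.sum_const_zero]
    apply Subtype.ext
    funext i
    have := congrArg (polB Q (e i)) hdiff
    rw [map_sub, hev, hev, map_zero, sub_eq_zero] at this
    exact this.symm
  let Φ : Option S → {N : subOrbit Q M // e i0 ∈ N.1} := fun o => match o with
    | none => ⟨⟨_, w, rfl⟩, by
        show e i0 ∈ M.map (w.1.1 : V →ₗ[F] V)
        exact ⟨e i0, hem i0, hw0⟩⟩
    | some s => ⟨⟨_, g s, rfl⟩, by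
        show e i0 ∈ M.map ((g s).1.1 : V →ₗ[F] V)
        exact ⟨e i0, hem i0, hg0 s⟩⟩
  have hne : ∀ s, M.map ((g s).1.1 : V →ₗ[F] V) ≠ M.map (w.1.1 : V →ₗ[F] V) := by
    intro s h
    have hmem : f i1 ∈ M.map ((g s).1.1 : V →ₗ[F] V) := by
      rw [h]
      refine ⟨-(e i2), M.neg_mem (hem i2), ?_⟩
      show w.1.1 (-(e i2)) = f i1
      rw [map_neg, hw2, neg_neg]
    obtain ⟨p, hp, hpe⟩ := hmem
    change (g s).1.1 p = f i1 at hpe
    rw [← hgf s] at hpe
    have := (g s).1.1.injective hpe
    subst this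
    have := polB_eq_zero_of_singular hM (hem i1) hp
    rw [hef, if_pos rfl] at this
    exact one_ne_zero this
  have hΦ : Function.Injective Φ := by
    rintro (_ | s) (_ | t) h
    · rfl
    · exact absurd (congrArg (fun N => N.1.1) h).symm (hne t)
    · exact absurd (congrArg (fun N => N.1.1) h) (hne s)
    · rw [hinj (congrArg (fun N => N.1.1) h)]
  refine ⟨e i0, he0, hM _ (hem i0), ?_⟩
  refine le_trans (le_of_eq ?_) (Nat.card_le_card_of_injective Φ hΦ)
  rw [Finite.card_option]
  congr 1
  let eq : S ≃ ({i : Fin k // i ≠ i0 ∧ i ≠ i1} → F) :=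
    { toFun := fun s i => s.1 i.1
      invFun := fun u => ⟨fun i => if h : i ≠ i0 ∧ i ≠ i1 then u ⟨i, h⟩ else 0,
        dif_neg (by simp), dif_neg (by simp)⟩
      left_inv := fun s => by
        ext i
        dsimp only
        split_ifs with h
        · rfl
        · rcases not_and_or.1 h with h | h <;> simp only [not_not] at h <;> subst h
          · exact s.2.1.symm
          · exact s.2.2.symm
      right_inv := fun u => funext fun i => dif_pos i.2 }
  rw [Nat.card_congr eq, Nat.card_fun, Nat.card_eq_fintype_card (α := {i : Fin k // i ≠ i0 ∧ i ≠ i1})]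
  congr 1
  rw [Fintype.card_subtype]
  rw [show (Finset.univ.filter fun i : Fin k => i ≠ i0 ∧ i ≠ i1) = Finset.univ \ {i0, i1} by
    ext i; simp, Finset.card_sdiff, Finset.inter_univ, Finset.card_univ, Fintype.card_fin,
    Finset.card_pair h01]

/-- A lower bound for the orbit. -/
theorem subOrbit_ge (hQ : (polB Q).Nondegenerate) {k : ℕ} (hk : 3 ≤ k)
    (hd : Module.finrank F V = 2 * k) {M : Submodule F V} (hM : ∀ z ∈ M, Q z = 0)
    (hMk : Module.finrank F M = k) :
    (Nat.card F ^ (k - 1) + 1) * (Nat.card F ^ (k - 2) + 1) ≤ Nat.card (subOrbit Q M) := by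
  classical
  haveI : Finite V := Module.finite_of_finite F
  haveI : Finite (Submodule F V) := Finite.of_injective (fun N : Submodule F V => (N : Set V)) SetLike.coe_injective
  have h5 : 5 ≤ Module.finrank F V := by omega
  obtain ⟨e, he0, he, hmem⟩ := members_ge hQ hk hd hM hMk
  haveI : Fintype V := Fintype.ofFinite V
  haveI : Fintype (subOrbit Q M) := Fintype.ofFinite _
  have hnz : ∀ N : subOrbit Q M, Nat.card {p : V // p ∈ N.1 ∧ p ≠ 0} = Nat.card F ^ k - 1 := by
    rintro ⟨_, g, rfl⟩
    have hN : Module.finrank F (M.map (g.1.1 : V →ₗ[F] V)) = k := by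
      rw [LinearEquiv.finrank_map_eq, hMk]
    have h1 := card_fun_subtype k hN
    have h2 : ((M.map (g.1.1 : V →ₗ[F] V) : Set V) \ {0}).ncard = Nat.card F ^ k - 1 := by
      rw [Set.ncard_sdiff_singleton_of_mem (Submodule.zero_mem _), ← Nat.card_coe_set_eq, ← h1]
      rfl
    rw [← h2, ← Nat.card_coe_set_eq]
    rfl
  have hsing : ∀ N : subOrbit Q M, ∀ p ∈ N.1, Q p = 0 := by
    rintro ⟨_, g, rfl⟩ p ⟨r, hr, rfl⟩
    show Q (g.1.1 r) = 0
    rw [orth_qmap, hM r hr]
  let T := {p : V // Q p = 0 ∧ p ≠ 0}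
  have hT : Nat.card T = (Nat.card F ^ k - 1) * (Nat.card F ^ (k - 1) + 1) := by
    have h1 := level_plus hQ (by omega) hd hM hMk
    have h2 : ({p : V | Q p = 0} \ {0}).ncard = level Q 0 - 1 := by
      rw [Set.ncard_sdiff_singleton_of_mem (show (0 : V) ∈ {p : V | Q p = 0} from QuadraticMap.map_zero Q),
        ← Nat.card_coe_set_eq]
      rfl
    rw [show Nat.card T = ({p : V | Q p = 0} \ {0}).ncard from (Nat.card_coe_set_eq _).symm ▸ rfl, h2, h1]
    have : 1 ≤ Nat.card F ^ k := Nat.one_le_pow _ _ Nat.card_pos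
    rw [mul_add, mul_one]
    omega
  have hper : ∀ p : T, Nat.card F ^ (k - 2) + 1 ≤ Nat.card {N : subOrbit Q M // p.1 ∈ N.1} := by
    intro p
    obtain ⟨l, hl⟩ := om_transitive hQ h5 he0 he p.2.2 p.2.1
    refine hmem.trans (Nat.card_le_card_of_injective
      (fun N => ⟨⟨_, subOrbit_map N.1.2 l⟩, ⟨e, N.2, hl⟩⟩) fun N N' h => ?_)
    exact Subtype.ext (Subtype.ext (Submodule.map_injective_of_injective l.1.1.injective
      (congrArg (fun q => q.1.1) h)))
  let e' : (Σ p : T, {N : subOrbit Q M // p.1 ∈ N.1}) ≃ (Σ N : subOrbit Q M, {p : V // p ∈ N.1 ∧ p ≠ 0}) :=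
    { toFun := fun a => ⟨a.2.1, a.1.1, a.2.2, a.1.2.2⟩
      invFun := fun a => ⟨⟨a.2.1, hsing a.1 _ a.2.2.1, a.2.2.2⟩, a.1, a.2.2.1⟩
      left_inv := fun a => rfl
      right_inv := fun a => rfl }
  haveI : Fintype T := Fintype.ofFinite _
  have h1 := Nat.card_congr e'
  rw [Nat.card_sigma, Nat.card_sigma, Finset.sum_congr rfl (fun N _ => hnz N), Finset.sum_const,
    Finset.card_univ, smul_eq_mul, ← Nat.card_eq_fintype_card] at h1
  have h2 : Nat.card T * (Nat.card F ^ (k - 2) + 1) ≤ Nat.card (subOrbit Q M) * (Nat.card F ^ k - 1) := by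
    rw [← h1, Nat.card_eq_fintype_card (α := T), ← Finset.card_univ, ← smul_eq_mul]
    exact Finset.card_nsmul_le_sum _ _ _ fun p _ => hper p
  have hpos : 0 < Nat.card F ^ k - 1 := by
    have : 2 ≤ Nat.card F := Finite.one_lt_card
    have := Nat.one_lt_pow (show k ≠ 0 by omega) this
    omega
  refine Nat.le_of_mul_le_mul_right ?_ hpos
  rw [hT] at h2
  calc (Nat.card F ^ (k - 1) + 1) * (Nat.card F ^ (k - 2) + 1) * (Nat.card F ^ k - 1)
      = (Nat.card F ^ k - 1) * (Nat.card F ^ (k - 1) + 1) * (Nat.card F ^ (k - 2) + 1) := by ring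
    _ ≤ _ := h2

end H48.OrIdx
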