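import Cfsg.Agent.H48.OrIdx.CaseB
import Cfsg.Agent.H48.OrIdx.MaxCount

/-!
# All images in the radicals are large: maximal totally singular subspaces
-/

set_option autoImplicit false
set_option linter.unusedSectionVars false

namespace H48.OrIdx

open H43 H50.Or

universe u w w'

variable {F : Type u} [Field F] [Finite F] {V : Type w} [AddCommGroup V] [Module F V]
  [FiniteDimensional F V] {Q : QuadraticForm F V} (K : Subgroup (Om Q))

/-- Every singular point has a totally singular annihilator. -/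
def AllSing : Prop :=
  ∀ x : V, x ≠ 0 → Q x = 0 → ∃ X : Submodule F V,
    x ∈ X ∧ (∀ p ∈ X, Q p = 0) ∧ ∀ v, (∀ p ∈ X, polB Q p v = 0) → el Q x v ∈ K

variable {K} (hQ : (polB Q).Nondegenerate) (h7 : 7 ≤ Module.finrank F V)

section pair

variable {x c : V} {X Y : Submodule F V} (hx : Q x = 0) (hc : Q c = 0) (hxc : polB Q x c = 0)
  (hxX : x ∈ X) (hX : ∀ p ∈ X, Q p = 0) (hXK : ∀ v, (∀ p ∈ X, polB Q p v = 0) → el Q x v ∈ K)
  (hcY : c ∈ Y) (hY : ∀ p ∈ Y, Q p = 0) (hYK : ∀ v, (∀ p ∈ Y, polB Q p v = 0) → el Q c v ∈ K)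

include hQ h7 hx hc hxc hcY hYK

/-- A commutator puts a whole root group into the subgroup. -/
theorem line_of_pair {v v' : V} (hxv : polB Q x v = 0) (hcv : polB Q c v = 0) (hv : el Q x v ∈ K)
    (hYv' : ∀ p ∈ Y, polB Q p v' = 0) (hxv' : polB Q x v' = 0) (hne : polB Q v' v ≠ 0) (s : F) :
    el Q x (s • c) ∈ K := by
  have h5 : 5 ≤ Module.finrank F V := by omega
  rcases eq_or_ne s 0 with rfl | hs
  · rw [zero_smul, el_zero hQ h5 hx]; exact K.one_mem
  set r := s / polB Q v' v
  set w := r • v'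
  have hcw : polB Q c w = 0 := by rw [map_smul, hYv' c hcY, smul_zero]
  have hxw : polB Q x w = 0 := by rw [map_smul, hxv', smul_zero]
  have hw : el Q c w ∈ K := hYK w fun p hp => by rw [map_smul, hYv' p hp, smul_zero]
  have hgc : (el Q x v).1.1 c = c := el_fix hQ h7 hx hxv (by rw [polB_comm]; exact hxc) hcv
  have hgw : (el Q x v).1.1 w = w - s • x := by
    rw [apply_el hQ h7 hx hxv, polB_comm w x, hxw, map_smul, LinearMap.smul_apply, smul_eq_mul,
      div_mul_cancel₀ s hne, zero_smul, mul_zero, zero_smul, add_zero, sub_zero]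
  have hcx : polB Q c x = 0 := by rw [polB_comm]; exact hxc
  have h1 := K.mul_mem (K.mul_mem hv hw) (K.inv_mem hv)
  rw [el_conj hQ h5 _ hc hcw, hgc, hgw] at h1
  have h2 := K.mul_mem h1 (hYK (-w) fun p hp => by rw [map_neg, map_smul, hYv' p hp, smul_zero, neg_zero])
  rw [el_mul hQ h5 hc (by rw [map_sub, hcw, map_smul, hcx, smul_zero, sub_zero]) (by rw [map_neg, hcw, neg_zero]),
    show w - s • x + -w = (-s) • x by rw [neg_smul]; abel,
    el_swap hQ h7 (by rw [qmap_smul, hx, mul_zero]) hc (by rw [map_smul, LinearMap.smul_apply, hxc, smul_zero]),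
    el_smul_left hQ h7 hx (by rw [map_neg, hxc, neg_zero]) (neg_ne_zero.2 hs), neg_smul_neg] at h2
  exact h2

include hxX hX hXK hY in
/-- The structure forced by a missing root group. -/
theorem pair_struct {s : F} (hfail : el Q x (s • c) ∉ K) :
    x ∉ Y ∧ (∃ p ∈ Y, polB Q p x ≠ 0) ∧ (∃ p ∈ X, polB Q p c ≠ 0) ∧
      2 * Module.finrank F X = Module.finrank F V ∧
      2 * Module.finrank F Y = Module.finrank F V ∧
      X ⊓ (polB Q).orthogonal (F ∙ c) ≤ Y ⊔ F ∙ x := by
  have h5 : 5 ≤ Module.finrank F V := by omega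
  have hs : s ≠ 0 := fun h => hfail (by rw [h, zero_smul, el_zero hQ h5 hx]; exact K.one_mem)
  have hcx : polB Q c x = 0 := by rw [polB_comm]; exact hxc
  obtain ⟨p, hp, hpx⟩ : ∃ p ∈ Y, polB Q p x ≠ 0 := by
    by_contra hcon
    push Not at hcon
    apply hfail
    have h1 := hYK ((-s) • x) fun p hp => by rw [map_smul, hcon p hp, smul_zero]
    rwa [el_swap hQ h7 (by rw [qmap_smul, hx, mul_zero]) hc (by rw [map_smul, LinearMap.smul_apply, hxc, smul_zero]),
      el_smul_left hQ h7 hx (by rw [map_neg, hxc, neg_zero]) (neg_ne_zero.2 hs), neg_smul_neg] at h1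
  have hxY : x ∉ Y := fun h => hpx (polB_eq_zero_of_singular hY hp h)
  obtain ⟨p', hp', hp'c⟩ : ∃ p ∈ X, polB Q p c ≠ 0 := by
    by_contra hcon
    push Not at hcon
    exact hfail (hXK _ fun p hp => by rw [map_smul, hcon p hp, smul_zero])
  have hcX : c ∉ X := fun h => hp'c (polB_eq_zero_of_singular hX hp' h)
  refine ⟨hxY, ⟨p, hp, hpx⟩, ⟨p', hp', hp'c⟩, ?_⟩
  set A' := (polB Q).orthogonal (Y ⊔ F ∙ x)
  set Z := (X ⊓ (polB Q).orthogonal (F ∙ c)) ⊔ F ∙ c
  have hA' : ∀ v' ∈ A', (∀ q ∈ Y, polB Q q v' = 0) ∧ polB Q x v' = 0 := fun v' hv' =>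
    ⟨fun q hq => hv' q (Submodule.mem_sup_left hq),
      hv' x (Submodule.mem_sup_right (Submodule.mem_span_singleton_self x))⟩
  have hAZ : A' ≤ Z := by
    intro v' hv'
    obtain ⟨h1, h2⟩ := hA' v' hv'
    have hmem : v' ∈ X ⊔ F ∙ c := by
      rw [← LinearMap.BilinForm.orthogonal_orthogonal hQ (polB_isRefl Q) (X ⊔ F ∙ c)]
      intro v hv
      by_contra hne
      have hne' : polB Q v' v ≠ 0 := by rw [polB_comm]; exact hne
      exact hfail (line_of_pair hQ h7 hx hc hxc hcY hYK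
        (hv x (Submodule.mem_sup_left hxX))
        (hv c (Submodule.mem_sup_right (Submodule.mem_span_singleton_self c)))
        (hXK v fun q hq => hv q (Submodule.mem_sup_left hq)) h1 h2 hne' s)
    obtain ⟨q, hq, r, hr, rfl⟩ := Submodule.mem_sup.1 hmem
    obtain ⟨t, rfl⟩ := Submodule.mem_span_singleton.1 hr
    refine Submodule.add_mem_sup ⟨hq, mem_orth_singleton.2 ?_⟩
      (Submodule.smul_mem _ _ (Submodule.mem_span_singleton_self c))
    have h3 := h1 c hcY
    rw [map_add, map_smul, polB_self, hc, mul_zero, smul_zero, add_zero] at h3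
    exact h3
  have hxA : x ∉ A' := fun h => hpx (h p (Submodule.mem_sup_left hp))
  have hxZ : x ∈ Z := Submodule.mem_sup_left ⟨hxX, mem_orth_singleton.2 hcx⟩
  have hlt : A' < Z := lt_of_le_of_ne hAZ fun e => hxA (e ▸ hxZ)
  have hd1 := Submodule.finrank_lt_finrank_of_lt hlt
  have hsupY : Module.finrank F (Y ⊔ F ∙ x : Submodule F V) ≤ Module.finrank F Y + 1 := by
    refine (Submodule.finrank_add_le_finrank_add_finrank Y (F ∙ x)).trans ?_
    rw [finrank_span_singleton (fun h => hpx (by rw [h, map_zero]))]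
  have hd2 : Module.finrank F A' + Module.finrank F (Y ⊔ F ∙ x : Submodule F V) = Module.finrank F V := by
    exact finrank_orth_add hQ _
  have hd3 : Module.finrank F Z ≤ Module.finrank F X := by
    have h1 : X ⊓ (polB Q).orthogonal (F ∙ c) < X := lt_of_le_of_ne inf_le_left fun e => hp'c (by
      have : p' ∈ X ⊓ (polB Q).orthogonal (F ∙ c) := e.symm ▸ hp'
      rw [polB_comm]
      exact mem_orth_singleton.1 this.2)
    have h2 := Submodule.finrank_lt_finrank_of_lt h1
    have h3 := Submodule.finrank_add_le_finrank_add_finrank (X ⊓ (polB Q).orthogonal (F ∙ c)) (F ∙ c)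
    rw [finrank_span_singleton (fun h => hp'c (by rw [h, map_zero]))] at h3
    change Module.finrank F Z ≤ _ at h3
    omega
  have h4 := two_mul_finrank_singular_le hQ X hX
  have h6 := two_mul_finrank_singular_le hQ Y hY
  refine ⟨by omega, by omega, ?_⟩
  have hZeq : (polB Q).orthogonal Z ≤ Y ⊔ F ∙ x := by
    rw [← LinearMap.BilinForm.orthogonal_orthogonal hQ (polB_isRefl Q) (Y ⊔ F ∙ x)]
    exact LinearMap.BilinForm.orthogonal_le hAZ
  intro q hq
  apply hZeq
  intro z hz
  obtain ⟨a, ha, r, hr, rfl⟩ := Submodule.mem_sup.1 hz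
  obtain ⟨t, rfl⟩ := Submodule.mem_span_singleton.1 hr
  rw [map_add, LinearMap.add_apply, polB_eq_zero_of_singular hX ha.1 hq.1, map_smul, LinearMap.smul_apply,
    mem_orth_singleton.1 hq.2, smul_zero, add_zero]

end pair

include hQ h7 in
theorem exists_sing_frame {x : V} (hx0 : x ≠ 0) (hx : Q x = 0) :
    ∃ y : V, Nonempty (Frame Q x y (Q.restrict ((polB Q).orthogonal (Submodule.span F {x, y})))) := by
  obtain ⟨y, hp⟩ := exists_hypPair hQ hx hx0
  exact ⟨y, exists_frame hQ hp⟩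

include hQ h7 in
/-- The singular vectors orthogonal to a point span the orthogonal of the point. -/
theorem mem_span_perp {x : V} (hx0 : x ≠ 0) (hx : Q x = 0) {v : V} (hv : polB Q x v = 0) :
    v ∈ Submodule.span F {c : V | Q c = 0 ∧ polB Q x c = 0} := by
  obtain ⟨y, ⟨fr⟩⟩ := exists_sing_frame hQ h7 hx0 hx
  have hW := finrank_W_ge fr h7
  obtain ⟨z₀, hz₀0, hz₀⟩ := exists_singular (Q.restrict ((polB Q).orthogonal (Submodule.span F {x, y}))) (by omega)
  have hspan := mem_span_all_singular fr.nd' hz₀0 hz₀ (fr.P v)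
  have h1 := Submodule.mem_map_of_mem (f := fr.j) hspan
  rw [Submodule.map_span] at h1
  have h2 : fr.j (fr.P v) ∈ Submodule.span F {c : V | Q c = 0 ∧ polB Q x c = 0} :=
    Submodule.span_mono (by
      rintro _ ⟨a, ha, rfl⟩
      exact ⟨by rw [fr.form]; exact ha, (fr.orth a).1⟩) h1
  rw [j_P_perp fr hv] at h2
  have h3 := Submodule.smul_mem _ (polB Q v y)
    (Submodule.subset_span ⟨hx, by rw [polB_self, hx, mul_zero]⟩ :
      x ∈ Submodule.span F {c : V | Q c = 0 ∧ polB Q x c = 0})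
  simpa using Submodule.add_mem _ h2 h3

section points

variable (hA : AllSing K)

include hQ h7 hA

/-- A point which is not full misses a root group. -/
theorem exists_fail {x : V} (hx0 : x ≠ 0) (hx : Q x = 0) (hnf : ¬ FullAt K x) :
    ∃ c, Q c = 0 ∧ polB Q x c = 0 ∧ ∃ s : F, el Q x (s • c) ∉ K := by
  have h5 : 5 ≤ Module.finrank F V := by omega
  by_contra hcon
  push Not at hcon
  apply hnf
  intro v hv
  suffices ∀ w ∈ Submodule.span F {c : V | Q c = 0 ∧ polB Q x c = 0},
      polB Q x w = 0 ∧ ∀ t : F, el Q x (t • w) ∈ K by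
    simpa using (this v (mem_span_perp hQ h7 hx0 hx hv)).2 1
  intro w hw
  induction hw using Submodule.span_induction with
  | mem c hc => exact ⟨hc.2, hcon c hc.1 hc.2⟩
  | zero => exact ⟨map_zero _, fun t => by rw [smul_zero, el_zero hQ h5 hx]; exact K.one_mem⟩
  | add a b _ _ ha hb =>
    refine ⟨by rw [map_add, ha.1, hb.1, add_zero], fun t => ?_⟩
    rw [smul_add, ← el_mul hQ h5 hx (by rw [map_smul, ha.1, smul_zero]) (by rw [map_smul, hb.1, smul_zero])]
    exact K.mul_mem (ha.2 t) (hb.2 t)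
  | smul r a _ ha =>
    exact ⟨by rw [map_smul, ha.1, smul_zero], fun t => by rw [smul_smul]; exact ha.2 _⟩

/-- The image at a point which is not full is a maximal totally singular subspace. -/
theorem point_space {x : V} (hx0 : x ≠ 0) (hx : Q x = 0) (hnf : ¬ FullAt K x) :
    ∃ X : Submodule F V, x ∈ X ∧ (∀ p ∈ X, Q p = 0) ∧ 2 * Module.finrank F X = Module.finrank F V ∧
      ∀ v, polB Q x v = 0 → (el Q x v ∈ K ↔ v ∈ X) := by
  classical
  have h5 : 5 ≤ Module.finrank F V := by omega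
  obtain ⟨X, hxX, hX, hXK⟩ := hA x hx0 hx
  obtain ⟨c, hc, hxc, s, hfail⟩ := exists_fail hQ h7 hA hx0 hx hnf
  have hc0 : c ≠ 0 := fun h => hfail (by rw [h, smul_zero, el_zero hQ h5 hx]; exact K.one_mem)
  obtain ⟨Y, hcY, hY, hYK⟩ := hA c hc0 hc
  obtain ⟨-, -, -, hdX, -, -⟩ := pair_struct hQ h7 hx hc hxc hxX hX hXK hcY hY hYK hfail
  obtain ⟨k, hk⟩ : ∃ k, Module.finrank F X = k := ⟨_, rfl⟩
  have hperp := orth_eq_self hQ (k := k) (by omega) hX hk
  have hin : ∀ v ∈ X, el Q x v ∈ K := fun v hv =>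
    hXK v fun p hp => polB_eq_zero_of_singular hX hp hv
  refine ⟨X, hxX, hX, hdX, fun v hv => ⟨fun hvK => ?_, hin v⟩⟩
  by_contra hvX
  -- a missing root group confines the image
  have confine : ∀ v, polB Q x v = 0 → el Q x v ∈ K → ∀ d, Q d = 0 → polB Q x d = 0 → ∀ r : F,
      el Q x (r • d) ∉ K → v ∈ X ⊔ F ∙ d := by
    intro v hv hvK d hd hxd r hf
    have hd0 : d ≠ 0 := fun h => hf (by rw [h, smul_zero, el_zero hQ h5 hx]; exact K.one_mem)
    obtain ⟨Y', hdY, hY', hY'K⟩ := hA d hd0 hd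
    obtain ⟨-, ⟨p, hp, hpx⟩, ⟨p', hp', hp'c⟩, -, hdY', hle⟩ :=
      pair_struct hQ h7 hx hd hxd hxX hX hXK hdY hY' hY'K hf
    set m0 := (-(polB Q d v) / polB Q d p') • p'
    have hp'c' : polB Q d p' ≠ 0 := by rw [polB_comm]; exact hp'c
    have hm0 : m0 ∈ X := X.smul_mem _ hp'
    have hxm : polB Q x m0 = 0 := polB_eq_zero_of_singular hX hxX hm0
    have hv0 : el Q x (v + m0) ∈ K := by
      rw [← el_mul hQ h5 hx hv hxm]; exact K.mul_mem hvK (hin _ hm0)
    have hdv : polB Q d (v + m0) = 0 := by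
      rw [map_add, map_smul, smul_eq_mul, div_mul_cancel₀ _ hp'c', add_neg_cancel]
    have hmem : v + m0 ∈ Y' ⊔ F ∙ x := by
      rw [← LinearMap.BilinForm.orthogonal_orthogonal hQ (polB_isRefl Q) (Y' ⊔ F ∙ x)]
      intro v' hv'
      by_contra hne
      exact hf (line_of_pair hQ h7 hx hd hxd hdY hY'K (by rw [map_add, hv, hxm, add_zero]) hdv hv0
        (fun q hq => hv' q (Submodule.mem_sup_left hq))
        (hv' x (Submodule.mem_sup_right (Submodule.mem_span_singleton_self x))) hne r)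
    set A := (Y' ⊔ F ∙ x) ⊓ (polB Q).orthogonal (F ∙ x)
    set Z := (X ⊓ (polB Q).orthogonal (F ∙ d)) ⊔ F ∙ d
    have hZA : Z ≤ A := by
      refine sup_le (le_inf hle fun q hq => mem_orth_singleton.2 ?_) (le_inf ?_ ?_)
      · exact polB_eq_zero_of_singular hX hxX hq.1
      · exact fun q hq => Submodule.mem_sup_left ((Submodule.span_singleton_le_iff_mem _ _).2 hdY hq)
      · exact (Submodule.span_singleton_le_iff_mem _ _).2 (mem_orth_singleton.2 hxd)
    have hAlt : A < Y' ⊔ F ∙ x := lt_of_le_of_ne inf_le_left fun e => hpx (by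
      have : p ∈ A := e.symm ▸ Submodule.mem_sup_left hp
      rw [polB_comm]
      exact mem_orth_singleton.1 this.2)
    have h1 := Submodule.finrank_lt_finrank_of_lt hAlt
    have h2 := Submodule.finrank_add_le_finrank_add_finrank Y' (F ∙ x)
    rw [finrank_span_singleton hx0] at h2
    have h3 : Module.finrank F X ≤ Module.finrank F Z := by
      have hdX' : d ∉ X ⊓ (polB Q).orthogonal (F ∙ d) := fun h =>
        hp'c (polB_eq_zero_of_singular hX hp' h.1)
      have h4 : X ⊓ (polB Q).orthogonal (F ∙ d) < Z := lt_of_le_of_ne le_sup_left fun e => hdX' (by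
        rw [e]; exact Submodule.mem_sup_right (Submodule.mem_span_singleton_self d))
      have h6 := Submodule.finrank_lt_finrank_of_lt h4
      have h8 := Submodule.finrank_sup_add_finrank_inf_eq X ((polB Q).orthogonal (F ∙ d))
      have h9 := finrank_orth_singleton hQ hd0
      have h10 := Submodule.finrank_le (X ⊔ (polB Q).orthogonal (F ∙ d))
      omega
    have hZeq : Z = A := Submodule.eq_of_le_of_finrank_le hZA (by omega)
    have hvA : v + m0 ∈ Z := by
      rw [hZeq]
      exact ⟨hmem, mem_orth_singleton.2 (by rw [map_add, hv, hxm, add_zero])⟩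
    obtain ⟨q, hq, t, ht, hqt⟩ := Submodule.mem_sup.1 hvA
    rw [show v = (q - m0) + t by rw [← add_sub_cancel_right v m0, ← hqt]; abel]
    exact Submodule.add_mem_sup (sub_mem hq.1 hm0) ht
  -- a second direction
  obtain ⟨d, hd, hxd, hdn⟩ : ∃ d, Q d = 0 ∧ polB Q x d = 0 ∧ d ∉ X ⊔ F ∙ c := by
    by_contra hcon
    push Not at hcon
    have hle : (polB Q).orthogonal (F ∙ x) ≤ X ⊔ F ∙ c := fun z hz =>
      Submodule.span_le.2 (fun q hq => hcon q hq.1 hq.2) (mem_span_perp hQ h7 hx0 hx (mem_orth_singleton.1 hz))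
    have h1 := Submodule.finrank_mono hle
    have h2 := finrank_orth_singleton hQ hx0
    have h3 := Submodule.finrank_add_le_finrank_add_finrank X (F ∙ c)
    rw [finrank_span_singleton hc0] at h3
    omega
  by_cases hf : ∀ r : F, el Q x (r • d) ∈ K
  · exact hdn (confine d hxd (by simpa using hf 1) c hc hxc s hfail)
  · push Not at hf
    obtain ⟨r, hr⟩ := hf
    have h1 := confine v hv hvK c hc hxc s hfail
    have h2 := confine v hv hvK d hd hxd r hr
    obtain ⟨q, hq, e, he, rfl⟩ := Submodule.mem_sup.1 h1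
    obtain ⟨q', hq', e', he', hqe⟩ := Submodule.mem_sup.1 h2
    obtain ⟨a, rfl⟩ := Submodule.mem_span_singleton.1 he
    obtain ⟨b, rfl⟩ := Submodule.mem_span_singleton.1 he'
    rcases eq_or_ne b 0 with rfl | hb
    · rw [zero_smul, add_zero] at hqe
      exact hvX (hqe ▸ hq')
    · apply hdn
      have : d = b⁻¹ • ((q - q') + a • c) := by
        rw [show (q - q') + a • c = b • d by rw [sub_add_eq_add_sub, ← hqe]; abel, smul_smul,
          inv_mul_cancel₀ hb, one_smul]
      rw [this]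
      exact Submodule.smul_mem _ _ (Submodule.add_mem_sup (sub_mem hq hq')
        (Submodule.smul_mem _ _ (Submodule.mem_span_singleton_self c)))

end points

/-- The stabiliser of a subspace. -/
def SX (Q : QuadraticForm F V) (X : Submodule F V) : Subgroup (Om Q) where
  carrier := {g | X.map (g.1.1 : V →ₗ[F] V) = X}
  mul_mem' {a b} ha hb := by
    show X.map ((a * b).1.1 : V →ₗ[F] V) = X
    rw [map_mul_sub, hb, ha]
  one_mem' := Submodule.map_id X
  inv_mem' {a} ha := by
    show X.map ((a⁻¹).1.1 : V →ₗ[F] V) = X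
    conv_lhs => rw [← ha]
    rw [← map_mul_sub, inv_mul_cancel]
    exact Submodule.map_id X

theorem mem_SX_of_le {X : Submodule F V} {g : Om Q} (h : ∀ v ∈ X, g.1.1 v ∈ X) : g ∈ SX Q X := by
  refine Submodule.eq_of_le_of_finrank_le ?_ (LinearEquiv.finrank_map_eq _ _).ge
  rintro _ ⟨v, hv, rfl⟩
  exact h v hv

/-- Counting a subgroup against the whole group. -/
theorem card_le_index_mul (H : Subgroup (Om Q)) :
    Nat.card H ≤ K.index * Nat.card (K ⊓ H : Subgroup (Om Q)) := by
  haveI : Finite V := Module.finite_of_finite F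
  haveI := finite_orthGroup (Q := Q)
  have e : Nat.card (K.subgroupOf H) = Nat.card (K ⊓ H : Subgroup (Om Q)) :=
    Nat.card_congr
      { toFun := fun g => ⟨g.1.1, g.2, g.1.2⟩
        invFun := fun g => ⟨⟨g.1, g.2.2⟩, g.2.1⟩
        left_inv := fun g => rfl
        right_inv := fun g => rfl }
  rw [← (K.subgroupOf H).index_mul_card, e, ← Subgroup.relIndex_top_right K]
  refine Nat.mul_le_mul_right _ (Subgroup.relIndex_le_of_le_right le_top ?_)
  rw [Subgroup.relIndex_top_right]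
  exact Subgroup.index_ne_zero_of_finite

section space

variable {W : Type w'} [AddCommGroup W] [Module F W] [FiniteDimensional F W] {Q' : QuadraticForm F W}
  {x y : V} (fr : Frame Q x y Q') {X : Submodule F V} (hxX : x ∈ X) (hX : ∀ p ∈ X, Q p = 0)

include hxX hX

theorem j_P_mem {v : V} (hv : v ∈ X) : fr.j (fr.P v) ∈ X := by
  rw [j_P_perp fr (polB_eq_zero_of_singular hX hxX hv)]
  exact sub_mem hv (X.smul_mem _ hxX)

theorem map_comap_sup : (X.comap fr.j).map fr.j ⊔ F ∙ x = X := by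
  refine le_antisymm (sup_le (Submodule.map_comap_le _ _) ((Submodule.span_singleton_le_iff_mem _ _).2 hxX))
    fun v hv => ?_
  rw [show v = fr.j (fr.P v) + polB Q v y • x by
    rw [j_P_perp fr (polB_eq_zero_of_singular hX hxX hv), sub_add_cancel]]
  exact Submodule.add_mem_sup ⟨_, j_P_mem fr hxX hX hv, rfl⟩
    (Submodule.smul_mem _ _ (Submodule.mem_span_singleton_self x))

theorem finrank_comap : Module.finrank F (X.comap fr.j) + 1 = Module.finrank F X := by
  have h1 := Submodule.finrank_sup_add_finrank_inf_eq ((X.comap fr.j).map fr.j) (F ∙ x)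
  rw [map_comap_sup fr hxX hX, finrank_span_singleton fr.pair.left_ne_zero,
    ← (Submodule.equivMapOfInjective fr.j fr.inj (X.comap fr.j)).finrank_eq] at h1
  have h2 : (X.comap fr.j).map fr.j ⊓ F ∙ x = ⊥ := by
    rw [eq_bot_iff]
    rintro _ ⟨⟨a, ha, rfl⟩, hax⟩
    obtain ⟨t, ht⟩ := Submodule.mem_span_singleton.1 hax
    have := congrArg fr.P ht
    rw [map_smul, fr.P_x, smul_zero, fr.P_j] at this
    rw [← this, map_zero]
    exact Submodule.zero_mem _
  rw [h2, finrank_bot] at h1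
  omega

theorem el_mem_SX (h5 : 5 ≤ Module.finrank F V) (a : W) : el Q x (fr.j a) ∈ SX Q X :=
  mem_SX_of_le fun v hv => by
    rw [el_vec fr.nd h5 fr.qx (fr.orth a).1, polB_eq_zero_of_singular hX hv hxX, zero_smul, add_zero,
      mul_zero, zero_smul, sub_zero]
    exact sub_mem hv (X.smul_mem _ hxX)

theorem extOm_apply_mem {h : Om Q'} {b : W} {h' : Om Q'}
    (hb : b ∈ (X.comap fr.j).map (h.1.1 : W →ₗ[F] W))
    (e : X.map ((fr.extOm h).1.1 : V →ₗ[F] V) = X.map ((fr.extOm h').1.1 : V →ₗ[F] V)) :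
    b ∈ (X.comap fr.j).map (h'.1.1 : W →ₗ[F] W) := by
  obtain ⟨a, ha, rfl⟩ := hb
  have h1 : fr.j (h.1.1 a) ∈ X.map ((fr.extOm h').1.1 : V →ₗ[F] V) := by
    rw [← e]
    exact ⟨fr.j a, ha, fr.ext_j h.1 a⟩
  obtain ⟨v, hv, hve⟩ := h1
  set c := h'.1.1.symm (h.1.1 a) with hc
  have hcc : h'.1.1 c = h.1.1 a := h'.1.1.apply_symm_apply _
  have hvc : v = fr.j c := (fr.extOm h').1.1.injective (hve.trans (by
    rw [← hcc]; exact (fr.ext_j h'.1 c).symm))
  exact ⟨c, show fr.j c ∈ X from hvc ▸ hv, hcc⟩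

/-- The orbit of the subspace is large. -/
theorem subOrbit_mul_le {S : Subgroup (Om Q)} (hS : stab Q x ≤ S) :
    Nat.card (subOrbit Q' (X.comap fr.j)) * Nat.card (SX Q X ⊓ S : Subgroup (Om Q)) ≤ Nat.card S := by
  classical
  haveI : Finite V := Module.finite_of_finite F
  haveI := finite_orthGroup (Q := Q)
  haveI : Finite (Submodule F V) := Finite.of_injective (fun N : Submodule F V => (N : Set V)) SetLike.coe_injective
  rw [H48.card_eq_image_mul_stab S (SX Q X ⊓ S) (fun g => X.map (g.1.1 : V →ₗ[F] V)) inf_le_right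
    (fun g hg h hh => by
      refine ⟨fun e => ⟨?_, Subgroup.mul_mem S (Subgroup.inv_mem S hg) hh⟩, fun he => ?_⟩
      · show X.map ((g⁻¹ * h).1.1 : V →ₗ[F] V) = X
        rw [map_mul_sub, ← e, ← map_mul_sub, inv_mul_cancel]
        exact Submodule.map_id X
      · have he' : X.map ((g⁻¹ * h).1.1 : V →ₗ[F] V) = X := he.1
        conv_lhs => rw [← he']
        rw [← map_mul_sub, mul_inv_cancel_left])]
  refine Nat.mul_le_mul_right _ ?_
  choose rep hrep using fun N : subOrbit Q' (X.comap fr.j) => N.2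
  refine Nat.card_le_card_of_injective
    (fun N => ⟨X.map ((fr.extOm (rep N)).1.1 : V →ₗ[F] V), fr.extOm (rep N),
      hS (mem_stab.2 (fr.ext_x (rep N).1)), rfl⟩) fun N N' e => ?_
  have e' : X.map ((fr.extOm (rep N)).1.1 : V →ₗ[F] V) = X.map ((fr.extOm (rep N')).1.1 : V →ₗ[F] V) :=
    congrArg Subtype.val e
  apply Subtype.ext
  rw [← hrep N, ← hrep N']
  exact le_antisymm (fun b hb => extOm_apply_mem fr hxX hX hb e')
    (fun b hb => extOm_apply_mem fr hxX hX hb e'.symm)

variable (hiff : ∀ v, polB Q x v = 0 → (el Q x v ∈ K ↔ v ∈ X)) (h5 : 5 ≤ Module.finrank F V)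

include hiff h5

theorem Lft_le_SX : Lft fr K ≤ SX Q X ⊓ PS Q x := by
  intro g hg
  obtain ⟨hgP, a, ha⟩ := (mem_Lft fr K h5).1 hg
  refine ⟨?_, hgP⟩
  have hU := el_mem_SX fr hxX hX h5 a
  suffices h : el Q x (fr.j a) * g ∈ SX Q X by
    have := mul_mem (inv_mem hU) h
    rwa [inv_mul_cancel_left] at this
  set k := el Q x (fr.j a) * g
  have hkP : k ∈ PS Q x := mul_mem (el_mem_PS fr h5 a) hgP
  refine mem_SX_of_le fun v hv => ?_
  have hxv := polB_eq_zero_of_singular hX hxX hv
  have hxk := perp_of_PS fr hkP hxv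
  have h1 := K.mul_mem (K.mul_mem ha ((hiff v hxv).2 hv)) (K.inv_mem ha)
  rw [el_conj fr.nd h5 k fr.qx hxv, apply_x fr hkP] at h1
  have hl := lam_ne_zero fr hkP
  have h2 : el Q x (lam Q x y k • k.1.1 v) ∈ K := by
    rwa [← show el Q (lam Q x y k • x) (k.1.1 v) = el Q x (lam Q x y k • k.1.1 v) from Subtype.ext (by
      rw [coe_el fr.nd h5 (by rw [qmap_smul, fr.qx, mul_zero]) (by rw [map_smul, LinearMap.smul_apply, hxk, smul_zero]),
        coe_el fr.nd h5 fr.qx (by rw [map_smul, hxk, smul_zero]), eichler_smul_pair fr.qx hxk hl])]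
  have h3 := (hiff _ (by rw [map_smul, hxk, smul_zero])).1 h2
  have h4 := X.smul_mem (lam Q x y k)⁻¹ h3
  rwa [smul_smul, inv_mul_cancel₀ hl, one_smul] at h4

theorem card_lift {S : Subgroup (Om Q)} (hS : stab Q x ≤ S) (hSP : S ≤ PS Q x)
    {m : ℕ} (hdV : Module.finrank F V = 2 * m) (hdX : Module.finrank F X = m) :
    Nat.card (K ⊓ S : Subgroup (Om Q)) * Nat.card F ^ (m - 1) ≤
      Nat.card (Lft fr K ⊓ S : Subgroup (Om Q)) := by
  haveI : Finite W := Module.finite_of_finite F
  refine le_trans (le_of_eq ?_) (card_lift_mul_le fr K h5 hSP fun a => hS (mem_stab.2 (el_apply_x fr h5 a)))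
  congr 1
  have hI : Iw fr K = (X.comap fr.j).toAddSubgroup := by
    ext a
    rw [mem_Iw fr K h5, hiff _ (fr.orth a).1]
    rfl
  have h1 : Nat.card W = Nat.card (W ⧸ Iw fr K) * Nat.card (Iw fr K) :=
    (Iw fr K).card_eq_card_quotient_mul_card_addSubgroup
  have h2 : Nat.card (Iw fr K) = Nat.card F ^ (m - 1) := by
    rw [hI]
    show Nat.card (X.comap fr.j) = _
    rw [Module.natCard_eq_pow_finrank (K := F) (V := X.comap fr.j)]
    congr 1
    have := finrank_comap fr hxX hX
    omega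
  rw [Module.natCard_eq_pow_finrank (K := F) (V := W), h2] at h1
  have h3 := fr.finrank_eq
  rw [show Module.finrank F W = (m - 1) + (m - 1) by omega, pow_add] at h1
  exact Nat.eq_of_mul_eq_mul_right (pow_pos Nat.card_pos _) h1

end space

include hQ h7 in
theorem el_comm_mem {u v : V} (hu : Q u = 0) (hv : Q v = 0) (huv : polB Q u v = 0) (h : el Q u v ∈ K) :
    el Q v u ∈ K := by
  have h5 : 5 ≤ Module.finrank F V := by omega
  have hn : polB Q u (-v) = 0 := by rw [map_neg, huv, neg_zero]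
  have e : el Q u v * el Q v u = 1 := by
    rw [el_swap hQ h7 hu hv huv, el_mul hQ h5 hu huv hn, add_neg_cancel, el_zero hQ h5 hu]
  rw [← inv_eq_of_mul_eq_one_right e]
  exact K.inv_mem h

include hQ h7 in
/-- A torus element in the subgroup makes many points full. -/
theorem nonfull_le (hA : AllSing K) {W : Type w'} [AddCommGroup W] [Module F W] [FiniteDimensional F W]
    {Q' : QuadraticForm F W} {x y : V} (fr : Frame Q x y Q') {X : Submodule F V} (hxX : x ∈ X)
    (hX : ∀ p ∈ X, Q p = 0) {m : ℕ} (hdV : Module.finrank F V = 2 * m)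
    (hdX : Module.finrank F X = m) (hiff : ∀ v, polB Q x v = 0 → (el Q x v ∈ K ↔ v ∈ X))
    {t0 : F} (ht0 : t0 ≠ 0) (ht01 : t0 * t0 ≠ 1)
    (hh : ∀ (hm : hscale Q x y t0 * hscale Q x y t0 ∈ commutator (orthGroup Q)),
      (⟨_, hm⟩ : Om Q) ∈ K) :
    Nat.card {v : V // v ≠ 0 ∧ Q v = 0 ∧ ¬ FullAt K v} ≤
      (Nat.card F ^ m - 1) * Nat.card F ^ (m - 1) := by
  classical
  have h5 : 5 ≤ Module.finrank F V := by omega
  haveI : Finite V := Module.finite_of_finite F
  haveI : Finite W := Module.finite_of_finite F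
  have hmem : hscale Q x y t0 * hscale Q x y t0 ∈ commutator (orthGroup Q) :=
    mul_self_mem hQ (Or.inr (by omega)) (by omega) _
  set h0 : Om Q := ⟨_, hmem⟩
  have hK0 : h0 ∈ K := hh hmem
  have hW0 : ∀ a, h0.1.1 (fr.j a) = fr.j a := fun a => by
    show (hscale Q x y t0 * hscale Q x y t0).1 _ = _
    rw [orth_mul_apply, hscale_fix fr.pair ht0 (fr.orth' _).1 (fr.orth' _).2,
      hscale_fix fr.pair ht0 (fr.orth' _).1 (fr.orth' _).2]
  set s := t0 * t0
  have hs : s ≠ 0 := mul_ne_zero ht0 ht0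
  have hx0 : h0.1.1 x = s • x := by
    show (hscale Q x y t0 * hscale Q x y t0).1 x = _
    rw [orth_mul_apply, hscale_left fr.pair ht0, map_smul, hscale_left fr.pair ht0, smul_smul]
  have hy0 : h0.1.1 y = s⁻¹ • y := by
    show (hscale Q x y t0 * hscale Q x y t0).1 y = _
    rw [orth_mul_apply, hscale_right fr.pair ht0, map_smul, hscale_right fr.pair ht0, smul_smul,
      ← mul_inv]
  have hy : Q y = 0 := fr.pair.right
  have hy' : y ≠ 0 := fun h => by simpa [h] using fr.pair.pair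
  obtain ⟨M, hM⟩ : ∃ M, X.comap fr.j = M := ⟨_, rfl⟩
  have hMmem : ∀ a, a ∈ M ↔ fr.j a ∈ X := fun a => by rw [← hM]; rfl
  have hMd : Module.finrank F M = m - 1 := by
    have := finrank_comap fr hxX hX
    rw [hM] at this
    omega
  have hdW := fr.finrank_eq
  have hMs : ∀ a ∈ M, Q' a = 0 := fun a ha => by rw [← fr.form]; exact hX _ ((hMmem a).1 ha)
  have hcardM : Nat.card M = Nat.card F ^ (m - 1) := card_fun_subtype _ hMd
  -- the opposite point
  have hfull : FullAt K y := by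
    by_contra hnf
    obtain ⟨Y, hyY, hY, -, hYiff⟩ := point_space hQ h7 hA hy' hy hnf
    have key : ∀ a : W, Q' a = 0 → a ∈ M ∨ fr.j a ∈ Y := fun a ha => by
      by_cases haM : a ∈ M
      · exact Or.inl haM
      right
      set c := fr.j a
      have hc : Q c = 0 := by rw [fr.form, ha]
      have hxc : polB Q x c = 0 := (fr.orth a).1
      have hcx : polB Q c x = 0 := (fr.orth' a).1
      have hc0 : c ≠ 0 := fun h => haM ((hMmem a).2 (by show c ∈ X; rw [h]; exact X.zero_mem))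
      have hnc : el Q x c ∉ K := fun h => haM ((hMmem a).2 ((hiff c hxc).1 h))
      have hncf : ¬ FullAt K c := fun h => hnc (el_comm_mem hQ h7 hc fr.qx hcx (h x hcx))
      obtain ⟨Z, hcZ, hZ, hdZ, hZiff⟩ := point_space hQ h7 hA hc0 hc hncf
      have hxZ : x ∉ Z := fun h => hnc (el_comm_mem hQ h7 hc fr.qx hcx ((hZiff x hcx).2 h))
      obtain ⟨p, hp, hpx⟩ : ∃ p ∈ Z, polB Q p x ≠ 0 := by
        by_contra hcon
        push Not at hcon
        apply hxZ
        rw [← orth_eq_self hQ (k := m) hdV hZ (by omega)]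
        exact hcon
      have hcp : polB Q c p = 0 := polB_eq_zero_of_singular hZ hcZ hp
      have hp' : h0.1.1 p ∈ Z := by
        have h1 := K.mul_mem (K.mul_mem hK0 ((hZiff p hcp).2 hp)) (K.inv_mem hK0)
        rw [el_conj hQ h5 h0 hc hcp, hW0] at h1
        refine (hZiff _ ?_).1 h1
        have := orth_polB_map h0.1 c p
        rwa [hW0, hcp] at this
      have hd : h0.1.1 p - p =
          (polB Q p y * (s - 1)) • x + (polB Q p x * (s⁻¹ - 1)) • y := by
        conv_lhs => rw [fr.decomp p]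
        rw [map_add, map_add, map_smul, map_smul, hx0, hy0, hW0]
        module
      have hdZ : (polB Q p y * (s - 1)) • x + (polB Q p x * (s⁻¹ - 1)) • y ∈ Z := hd ▸ sub_mem hp' hp
      have hs1 : s⁻¹ - 1 ≠ 0 := sub_ne_zero.2 fun h => ht01 (inv_eq_one.1 h)
      have hpy : polB Q p y = 0 := by
        have h1 := hZ _ hdZ
        rw [qmap_add, qmap_smul, qmap_smul, fr.qx, hy, map_smul, map_smul, LinearMap.smul_apply,
          fr.pair.pair] at h1
        simp only [mul_zero, zero_add, smul_eq_mul, mul_one] at h1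
        rcases mul_eq_zero.1 h1 with h | h
        · exact absurd h (mul_ne_zero hpx hs1)
        · exact (mul_eq_zero.1 h).resolve_right (sub_ne_zero.2 ht01)
      rw [hpy, zero_mul, zero_smul, zero_add] at hdZ
      have hyZ : y ∈ Z := by
        have := Z.smul_mem (polB Q p x * (s⁻¹ - 1))⁻¹ hdZ
        rwa [smul_smul, inv_mul_cancel₀ (mul_ne_zero hpx hs1), one_smul] at this
      have hcy : polB Q c y = 0 := (fr.orth' a).2
      exact (hYiff c (fr.orth a).2).1 (el_comm_mem hQ h7 hc hy hcy ((hZiff y hcy).2 hyZ))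
    set N := Y.comap fr.j
    have hNs : ∀ a ∈ N, Q' a = 0 := fun a ha => by rw [← fr.form]; exact hY _ ha
    have hNd := two_mul_finrank_singular_le fr.nd' N hNs
    have hcount : level Q' 0 ≤ Nat.card F ^ (m - 1) + Nat.card F ^ (m - 1) := by
      calc level Q' 0 = ({a : W | Q' a = 0}).ncard := Nat.card_coe_set_eq _
        _ ≤ ((M : Set W) ∪ (N : Set W)).ncard :=
            Set.ncard_le_ncard (fun a ha => key a ha) (Set.toFinite _)
        _ ≤ (M : Set W).ncard + (N : Set W).ncard := Set.ncard_union_le _ _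
        _ ≤ _ := by
            refine Nat.add_le_add (le_of_eq ?_) ?_
            · rw [← Nat.card_coe_set_eq]; exact hcardM
            · rw [← Nat.card_coe_set_eq]
              show Nat.card N ≤ _
              rw [Module.natCard_eq_pow_finrank (K := F) (V := N)]
              exact Nat.pow_le_pow_right Nat.card_pos (by omega)
    rw [level_plus fr.nd' (k := m - 1) (by omega) (by omega) hMs hMd] at hcount
    have h2 : 2 ≤ Nat.card F ^ (m - 1 - 1) :=
      le_trans (Finite.one_lt_card (α := F)) (Nat.le_self_pow (by omega) _)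
    have h3 := Nat.mul_le_mul_left (Nat.card F ^ (m - 1) - 1) h2
    have h4 : 2 < Nat.card F ^ (m - 1) := by
      refine lt_of_lt_of_le (by norm_num : (2 : ℕ) < 2 ^ 2) ?_
      exact (Nat.pow_le_pow_left (Finite.one_lt_card (α := F)) 2).trans
        (Nat.pow_le_pow_right Nat.card_pos (by omega))
    omega
  -- the span of the point and the image is full
  have hlam : ∀ (b : F) (a : M), b • y + fr.j a.1 ≠ 0 → FullAt K (b • y + fr.j a.1) := by
    rintro b ⟨a, ha⟩ hne
    have haX := (hMmem a).1 ha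
    rcases eq_or_ne b 0 with rfl | hb
    · rw [zero_smul, zero_add] at hne ⊢
      by_contra hnf
      have hq : Q (fr.j a) = 0 := hX _ haX
      obtain ⟨Z, -, hZ, -, hZiff⟩ := point_space hQ h7 hA hne hq hnf
      have h1 : x ∈ Z := (hZiff x (fr.orth' a).1).1
        (el_comm_mem hQ h7 fr.qx hq (fr.orth a).1 ((hiff _ (fr.orth a).1).2 haX))
      have h2 : y ∈ Z := (hZiff y (fr.orth' a).2).1
        (el_comm_mem hQ h7 hy hq (fr.orth a).2 (hfull _ (fr.orth a).2))
      exact one_ne_zero (fr.pair.pair.symm.trans (polB_eq_zero_of_singular hZ h1 h2))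
    · have ha' : b⁻¹ • a ∈ M := M.smul_mem _ ha
      have hg : el Q x (fr.j (b⁻¹ • a)) ∈ K := (hiff _ (fr.orth _).1).2 ((hMmem _).1 ha')
      have h1 := FullAt.transport hQ h7 hy hfull hg
      rw [el_E fr h5, fr.E_y, hMs _ ha', zero_smul, sub_zero] at h1
      have hw : Q (y + fr.j (b⁻¹ • a)) = 0 := by
        rw [qmap_add, hy, fr.form, hMs _ ha', (fr.orth _).2, add_zero, add_zero]
      rw [show b • y + fr.j a = b • (y + fr.j (b⁻¹ • a)) by
        rw [smul_add, ← map_smul, smul_smul, mul_inv_cancel₀ hb, one_smul]]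
      intro v hv
      have hv' : polB Q (y + fr.j (b⁻¹ • a)) v = 0 := by
        rw [map_smul, LinearMap.smul_apply, smul_eq_mul] at hv
        exact (mul_eq_zero.1 hv).resolve_left hb
      rw [el_smul_left hQ h7 hw hv' hb]
      exact h1 _ (by rw [map_smul, hv', smul_zero])
  set L : F × M → V := fun p => p.1 • y + fr.j p.2.1
  have hLinj : Function.Injective L := by
    rintro ⟨b, a⟩ ⟨b', a'⟩ e
    have h1 : fr.P (L (b, a)) = fr.P (L (b', a')) := congrArg fr.P e
    have h2 : polB Q x (L (b, a)) = polB Q x (L (b', a')) := congrArg (polB Q x) e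
    simp only [L, map_add, map_smul, fr.P_y, smul_zero, zero_add, fr.P_j] at h1
    simp only [L, map_add, map_smul, fr.pair.pair, (fr.orth _).1, add_zero, smul_eq_mul, mul_one] at h2
    exact Prod.ext h2 (Subtype.ext h1)
  have hsub : {v : V | v ≠ 0 ∧ Q v = 0 ∧ ¬ FullAt K v} ⊆ {v : V | Q v = 0} \ Set.range L := by
    rintro v ⟨hv0, hv, hnf⟩
    refine ⟨hv, ?_⟩
    rintro ⟨⟨b, a⟩, rfl⟩
    exact hnf (hlam b a hv0)
  have hrange : Set.range L ⊆ {v : V | Q v = 0} := by
    rintro _ ⟨⟨b, a⟩, rfl⟩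
    show Q (b • y + fr.j a.1) = 0
    rw [qmap_add, qmap_smul, hy, fr.form, hMs _ a.2, map_smul, LinearMap.smul_apply, (fr.orth _).2,
      smul_zero, mul_zero, add_zero, add_zero]
  have hcardL : (Set.range L).ncard = Nat.card F ^ m := by
    rw [← Nat.card_coe_set_eq, Nat.card_range_of_injective hLinj, Nat.card_prod, hcardM, ← pow_succ']
    congr 1
    omega
  have hle := Set.ncard_le_ncard hsub (Set.toFinite _)
  rw [Set.ncard_sdiff hrange, hcardL] at hle
  have hlev : ({v : V | Q v = 0}).ncard =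
      Nat.card F ^ m + (Nat.card F ^ m - 1) * Nat.card F ^ (m - 1) :=
    (Nat.card_coe_set_eq _).symm.trans (level_plus hQ (by omega) hdV hX hdX)
  rw [hlev, Nat.add_sub_cancel_left] at hle
  refine le_trans (le_of_eq ?_) hle
  exact Nat.card_coe_set_eq {v : V | v ≠ 0 ∧ Q v = 0 ∧ ¬ FullAt K v}

include hQ h7 in
/-- All images totally singular: the index is at least the number of singular points. -/
theorem caseT (hA : AllSing K) (h4 : 4 ≤ Nat.card F) {x : V} (hx0 : x ≠ 0) (hx : Q x = 0)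
    (hnf : ¬ FullAt K x) :
    level Q 0 - 1 ≤ (Nat.card F - 1) * K.index := by
  classical
  have h5 : 5 ≤ Module.finrank F V := by omega
  haveI : Finite V := Module.finite_of_finite F
  haveI := finite_orthGroup (Q := Q)
  obtain ⟨X, hxX, hX, hdX, hiff⟩ := point_space hQ h7 hA hx0 hx hnf
  obtain ⟨m, hm⟩ : ∃ m, Module.finrank F X = m := ⟨_, rfl⟩
  have hm4 : 4 ≤ m := by omega
  have hdV : Module.finrank F V = 2 * m := by omega
  obtain ⟨y, ⟨fr⟩⟩ := exists_sing_frame hQ h7 hx0 hx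
  set q := Nat.card F
  have hlev : level Q 0 = q ^ m + (q ^ m - 1) * q ^ (m - 1) := level_plus hQ (by omega) hdV hX hm
  have hq2 : 2 ≤ q := Finite.one_lt_card
  have hqm : 1 ≤ q ^ m := Nat.one_le_pow _ _ (by omega)
  have hns : level Q 0 - 1 = (q ^ m - 1) * (q ^ (m - 1) + 1) := by
    rw [hlev, mul_add, mul_one]; omega
  obtain ⟨M, hMdef⟩ : ∃ M, X.comap fr.j = M := ⟨_, rfl⟩
  have hMs : ∀ a ∈ M, (Q.restrict _) a = 0 := fun a ha => by
    rw [← fr.form]; rw [← hMdef] at ha; exact hX _ ha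
  have hMd : Module.finrank F M = m - 1 := by
    have := finrank_comap fr hxX hX
    rw [hMdef] at this
    omega
  have hdW := fr.finrank_eq
  have hO := subOrbit_ge fr.nd' (k := m - 1) (by omega) (by omega) hMs hMd
  rw [← hMdef, show m - 1 - 1 = m - 2 by omega, show m - 1 - 2 = m - 3 by omega] at hO
  set O := Nat.card (subOrbit (Q.restrict ((polB Q).orthogonal (Submodule.span F {x, y}))) (X.comap fr.j))
  obtain ⟨n, rfl⟩ : ∃ n, m = n + 4 := ⟨m - 4, by omega⟩
  simp only [show n + 4 - 1 = n + 3 from rfl, show n + 4 - 2 = n + 2 from rfl,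
    show n + 4 - 3 = n + 1 from rfl] at hns hO hMd ⊢
  -- the arithmetical content
  have harith : q ^ (n + 4) ≤ (q - 1) * O + 1 := by
    obtain ⟨a, ha⟩ : ∃ a, q = a + 1 := ⟨q - 1, by omega⟩
    have h1 : (q - 1) * ((q ^ (n + 2) + 1) * (q ^ (n + 1) + 1)) ≤ (q - 1) * O :=
      Nat.mul_le_mul_left _ hO
    suffices q ^ (n + 4) ≤ (q - 1) * ((q ^ (n + 2) + 1) * (q ^ (n + 1) + 1)) + 1 by omega
    rw [show q - 1 = a by omega]
    obtain ⟨r, hr⟩ : ∃ r, q ^ n = r := ⟨_, rfl⟩
    have hr1 : 1 ≤ r := hr ▸ Nat.one_le_pow _ _ (by omega)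
    simp only [pow_add, hr]
    rw [ha]
    obtain ⟨d, rfl⟩ : ∃ d, r = d + 1 := ⟨r - 1, by omega⟩
    have ha1 : 1 ≤ a := by omega
    have h1 : (a + 1) * d ≤ (a * (a + 1) ^ 3 * (d + 1)) * d := by
      refine Nat.mul_le_mul_right _ ?_
      calc a + 1 = 1 * (a + 1) ^ 1 * 1 := by ring
        _ ≤ _ := Nat.mul_le_mul (Nat.mul_le_mul ha1 (Nat.pow_le_pow_right (by omega) (by omega))) (by omega)
    nlinarith
  obtain ⟨t0, ht0, ht01⟩ := exists_sq_ne_one (F := F) h4
  have hmem : hscale Q x y t0 * hscale Q x y t0 ∈ commutator (orthGroup Q) :=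
    mul_self_mem hQ (Or.inr (by omega)) (by omega) _
  set h0 : Om Q := ⟨_, hmem⟩
  have hh0 : h0.1.1 x = (t0 * t0) • x := by
    show (hscale Q x y t0 * hscale Q x y t0).1 x = _
    rw [orth_mul_apply, hscale_left fr.pair ht0, map_smul, hscale_left fr.pair ht0, smul_smul]
  have hP0 : h0 ∈ PS Q x := by
    rw [mem_PS, hh0]
    exact Submodule.smul_mem _ _ (Submodule.mem_span_singleton_self x)
  have hW0 : ∀ a, h0.1.1 (fr.j a) = fr.j a := fun a => by
    show (hscale Q x y t0 * hscale Q x y t0).1 _ = _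
    rw [orth_mul_apply, hscale_fix fr.pair ht0 (fr.orth' _).1 (fr.orth' _).2,
      hscale_fix fr.pair ht0 (fr.orth' _).1 (fr.orth' _).2]
  by_cases hL : h0 ∈ Lft fr K
  · obtain ⟨u, hu⟩ := exists_shift_mem fr K h7 ht0 ht01 (fun _ => hL)
    obtain ⟨fr', -, -⟩ := exists_frame_shift fr K h5 u
    have hnon := nonfull_le hQ h7 hA fr' hxX hX hdV hm hiff ht0 ht01 hu
    have key : ∀ L : Subgroup (Om Q),
        Nat.card L = Nat.card ((fun g : Om Q => g.1.1 x) '' (L : Set (Om Q))) *
          Nat.card (L ⊓ stab Q x : Subgroup (Om Q)) := fun L =>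
      H48.card_eq_image_mul_stab L (L ⊓ stab Q x) (fun g => g.1.1 x) inf_le_left fun g hg k hk => by
        rw [Subgroup.mem_inf, mem_stab]
        refine ⟨fun e => ⟨mul_mem (inv_mem hg) hk, ?_⟩, fun ⟨_, e⟩ => ?_⟩
        · show (g.1⁻¹ * k.1).1 x = x
          rw [orth_mul_apply, ← e, orth_inv_apply_self]
        · have e' := congrArg g.1.1 e
          show g.1.1 x = k.1.1 x
          rw [← e']
          show g.1.1 ((g.1⁻¹ * k.1).1 x) = k.1.1 x
          rw [orth_mul_apply, orth_apply_inv_self]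
    have hKorb : Nat.card ((fun g : Om Q => g.1.1 x) '' (K : Set (Om Q))) ≤
        (q ^ (n + 4) - 1) * q ^ (n + 3) := by
      refine le_trans ?_ hnon
      refine Nat.card_mono (Set.toFinite {v : V | v ≠ 0 ∧ Q v = 0 ∧ ¬ FullAt K v}) ?_
      rintro _ ⟨g, hg, rfl⟩
      exact ⟨fun h => hx0 (g.1.1.injective (h.trans (map_zero _).symm)), by
        show Q (g.1.1 x) = 0; rw [orth_qmap, hx], not_full_transport hQ h7 hx hnf hg⟩
    have hGorb : level Q 0 - 1 ≤
        Nat.card ((fun g : Om Q => g.1.1 x) '' ((⊤ : Subgroup (Om Q)) : Set (Om Q))) := by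
      have e : ({v : V | Q v = 0} \ {0}).ncard = level Q 0 - 1 := by
        rw [Set.ncard_sdiff_singleton_of_mem (show (0 : V) ∈ {v : V | Q v = 0} from QuadraticMap.map_zero Q),
          ← Nat.card_coe_set_eq]
        rfl
      rw [← e, Nat.card_coe_set_eq]
      refine Set.ncard_le_ncard ?_ (Set.toFinite _)
      rintro v ⟨hv, hv0⟩
      obtain ⟨l, hl⟩ := om_transitive hQ h5 hx0 hx hv0 hv
      exact ⟨l, trivial, hl⟩
    have h1 := key ⊤
    rw [Subgroup.card_top, top_inf_eq] at h1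
    have h2 := key K
    have hle : Lft fr K ⊓ stab Q x ≤ SX Q X ⊓ stab Q x :=
      inf_le_inf_right _ ((Lft_le_SX fr hxX hX hiff h5).trans inf_le_left)
    have h3 := card_lift fr hxX hX hiff h5 (le_refl (stab Q x)) (stab_le_PS x) hdV hm
    rw [show n + 4 - 1 = n + 3 from rfl] at h3
    have h6 := subOrbit_mul_le fr hxX hX (le_refl (stab Q x))
    have h8 : Nat.card (K ⊓ stab Q x : Subgroup (Om Q)) * q ^ (n + 3) * O ≤ Nat.card (stab Q x) := by
      refine le_trans ?_ h6
      rw [mul_comm _ O]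
      exact Nat.mul_le_mul_left _ (h3.trans (Subgroup.card_le_of_le hle))
    have hpos1 := Nat.card_pos (α := (K ⊓ stab Q x : Subgroup (Om Q)))
    have h9 : (level Q 0 - 1) * O ≤ K.index * (q ^ (n + 4) - 1) := by
      refine Nat.le_of_mul_le_mul_right ?_ (Nat.mul_pos hpos1 (pow_pos (show 0 < q by omega) (n + 3)))
      calc (level Q 0 - 1) * O * (Nat.card (K ⊓ stab Q x : Subgroup (Om Q)) * q ^ (n + 3))
          = (level Q 0 - 1) * (Nat.card (K ⊓ stab Q x : Subgroup (Om Q)) * q ^ (n + 3) * O) := by ring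
        _ ≤ (level Q 0 - 1) * Nat.card (stab Q x) := by gcongr
        _ ≤ Nat.card (Om Q) := by rw [h1]; gcongr
        _ = K.index * Nat.card K := K.index_mul_card.symm
        _ ≤ K.index * (((q ^ (n + 4) - 1) * q ^ (n + 3)) * Nat.card (K ⊓ stab Q x : Subgroup (Om Q))) := by
            rw [h2]; gcongr
        _ = _ := by ring
    refine Nat.le_of_mul_le_mul_right ?_
      (show 0 < q ^ (n + 4) - 1 from Nat.sub_pos_of_lt (Nat.one_lt_pow (by omega) (by omega)))
    calc (level Q 0 - 1) * (q ^ (n + 4) - 1) ≤ (level Q 0 - 1) * ((q - 1) * O) :=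
          Nat.mul_le_mul_left _ (by omega)
      _ = (q - 1) * ((level Q 0 - 1) * O) := by ring
      _ ≤ (q - 1) * (K.index * (q ^ (n + 4) - 1)) := by gcongr
      _ = _ := by ring
  -- a proper lift
  have h0S : h0 ∈ SX Q X := mem_SX_of_le fun v hv => by
    rw [← map_comap_sup fr hxX hX] at hv
    obtain ⟨_, ⟨a, ha, rfl⟩, r, hr, rfl⟩ := Submodule.mem_sup.1 hv
    obtain ⟨t, rfl⟩ := Submodule.mem_span_singleton.1 hr
    rw [map_add, map_smul, hh0, hW0]
    exact add_mem ha (X.smul_mem _ (X.smul_mem _ hxX))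
  have hle := Lft_le_SX fr hxX hX hiff h5
  have h2 : 2 * Nat.card (Lft fr K) ≤ Nat.card (SX Q X ⊓ PS Q x : Subgroup (Om Q)) := by
    obtain ⟨c, hc⟩ := Subgroup.card_dvd_of_le hle
    rw [hc, mul_comm 2]
    refine Nat.mul_le_mul_left _ ?_
    have hpos := Nat.card_pos (α := (SX Q X ⊓ PS Q x : Subgroup (Om Q)))
    rcases c with _ | _ | c
    · omega
    · rw [zero_add, mul_one] at hc
      exact absurd ((Subgroup.eq_of_le_of_card_ge hle hc.le).symm ▸ (⟨h0S, hP0⟩ : h0 ∈ SX Q X ⊓ PS Q x)) hL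
    · omega
  have h3 := card_lift fr hxX hX hiff h5 (stab_le_PS x) le_rfl hdV hm
  rw [show n + 4 - 1 = n + 3 from rfl,
    inf_eq_left.2 (hle.trans inf_le_right)] at h3
  have h6 := subOrbit_mul_le fr hxX hX (stab_le_PS x)
  have h8 := card_le_index_mul (K := K) (PS Q x)
  have hkey : 2 * O * q ^ (n + 3) ≤ K.index := by
    refine Nat.le_of_mul_le_mul_right ?_ (Nat.card_pos (α := (K ⊓ PS Q x : Subgroup (Om Q))))
    calc 2 * O * q ^ (n + 3) * Nat.card (K ⊓ PS Q x : Subgroup (Om Q))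
        = O * (2 * (Nat.card (K ⊓ PS Q x : Subgroup (Om Q)) * q ^ (n + 3))) := by ring
      _ ≤ O * (2 * Nat.card (Lft fr K)) := by gcongr
      _ ≤ O * Nat.card (SX Q X ⊓ PS Q x : Subgroup (Om Q)) := by gcongr
      _ ≤ _ := h6.trans h8
  rw [hns]
  calc (q ^ (n + 4) - 1) * (q ^ (n + 3) + 1) ≤ ((q - 1) * O) * (2 * q ^ (n + 3)) := by
        refine Nat.mul_le_mul (by omega) ?_
        have : 1 ≤ q ^ (n + 3) := Nat.one_le_pow _ _ (by omega)
        omega
    _ = (q - 1) * (2 * O * q ^ (n + 3)) := by ring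
    _ ≤ _ := by gcongr

end H48.OrIdx
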