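import Cfsg.Agent.H48.OrIdx.MaxCount
import Cfsg.Agent.H43.AutPO.Gamma

/-!
# The numbers of zeros of the standard forms
-/

set_option autoImplicit false
set_option linter.unusedSectionVars false

namespace H48.OrIdx

open H43 H50.Or

universe u w

variable {F : Type u} [Field F] [Finite F]

/-- Odd dimension. -/
theorem level_odd : ∀ (k : ℕ) {V : Type w} [AddCommGroup V] [Module F V] [FiniteDimensional F V]
    {Q : QuadraticForm F V}, (polB Q).Nondegenerate → Module.finrank F V = 2 * k + 1 →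
    level Q 0 = Nat.card F ^ (2 * k)
  | 0, V, _, _, _, Q, hQ, hd => by
    classical
    rw [pow_zero, level, Nat.card_eq_one_iff_unique]
    refine ⟨⟨fun a b => Subtype.ext ?_⟩, ⟨⟨0, QuadraticMap.map_zero Q⟩⟩⟩
    suffices ∀ v : V, Q v = 0 → v = 0 by rw [this a.1 a.2, this b.1 b.2]
    intro v hv
    by_contra hv0
    have := two_mul_finrank_singular_le hQ (F ∙ v) fun w hw => by
      obtain ⟨c, rfl⟩ := Submodule.mem_span_singleton.1 hw
      rw [qmap_smul, hv, mul_zero]
    rw [finrank_span_singleton hv0] at this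
    omega
  | k + 1, V, _, _, _, Q, hQ, hd => by
    obtain ⟨x, y, ⟨fr⟩⟩ := exists_any_frame hQ (by omega)
    have hW := fr.finrank_eq
    rw [level_rec fr 0, level_odd k fr.nd' (by omega)]
    obtain ⟨p, hp⟩ : ∃ p, Nat.card F = p + 1 := ⟨Nat.card F - 1, by
      have : 0 < Nat.card F := Nat.card_pos
      omega⟩
    rw [show Module.finrank F _ = 2 * k + 1 by omega, hp, Nat.add_sub_cancel,
      show 2 * (k + 1) = 2 * k + 2 by ring]
    ring

/-- Even dimension and Witt index one less than maximal. -/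
theorem level_minus : ∀ (k : ℕ) {V : Type w} [AddCommGroup V] [Module F V] [FiniteDimensional F V]
    {Q : QuadraticForm F V}, (polB Q).Nondegenerate → Module.finrank F V = 2 * k + 2 →
    (∀ W : Submodule F V, (∀ w ∈ W, Q w = 0) → Module.finrank F W ≤ k) →
    level Q 0 + Nat.card F ^ (k + 1) = Nat.card F ^ (2 * k + 1) + Nat.card F ^ k
  | 0, V, _, _, _, Q, hQ, hd, hs => by
    classical
    have h1 : level Q 0 = 1 := by
      rw [level, Nat.card_eq_one_iff_unique]
      refine ⟨⟨fun a b => Subtype.ext ?_⟩, ⟨⟨0, QuadraticMap.map_zero Q⟩⟩⟩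
      suffices ∀ v : V, Q v = 0 → v = 0 by rw [this a.1 a.2, this b.1 b.2]
      intro v hv
      by_contra hv0
      have := hs (F ∙ v) fun w hw => by
        obtain ⟨c, rfl⟩ := Submodule.mem_span_singleton.1 hw
        rw [qmap_smul, hv, mul_zero]
      rw [finrank_span_singleton hv0] at this
      omega
    rw [h1]
    simp only [pow_zero, Nat.zero_add, Nat.mul_zero, pow_one]
    omega
  | k + 1, V, _, _, _, Q, hQ, hd, hs => by
    obtain ⟨x, y, ⟨fr⟩⟩ := exists_any_frame hQ (by omega)
    have hW := fr.finrank_eq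
    have hrec := level_minus k fr.nd' (by omega) fun X hX => by
      have h1 := hs (X.map fr.j ⊔ F ∙ x) fun w hw => by
        obtain ⟨_, ⟨a, ha, rfl⟩, r, hr, rfl⟩ := Submodule.mem_sup.1 hw
        obtain ⟨c, rfl⟩ := Submodule.mem_span_singleton.1 hr
        rw [qmap_add, fr.form, hX a ha, qmap_smul, fr.qx, map_smul, (fr.orth' a).1]
        simp
      have h2 := Submodule.finrank_sup_add_finrank_inf_eq (X.map fr.j) (F ∙ x)
      rw [finrank_span_singleton fr.pair.left_ne_zero,
        ← (Submodule.equivMapOfInjective fr.j fr.inj X).finrank_eq] at h2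
      have h3 : X.map fr.j ⊓ F ∙ x = ⊥ := by
        rw [eq_bot_iff]
        rintro _ ⟨⟨a, -, rfl⟩, hax⟩
        obtain ⟨t, ht⟩ := Submodule.mem_span_singleton.1 hax
        have := congrArg fr.P ht
        rw [map_smul, fr.P_x, smul_zero, fr.P_j] at this
        rw [← this, map_zero]
        exact Submodule.zero_mem _
      rw [h3, finrank_bot] at h2
      omega
    rw [level_rec fr 0, show Module.finrank F _ = 2 * k + 2 by omega]
    obtain ⟨p, hp⟩ : ∃ p, Nat.card F = p + 1 := ⟨Nat.card F - 1, by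
      have : 0 < Nat.card F := Nat.card_pos
      omega⟩
    rw [hp, Nat.add_sub_cancel]
    rw [hp] at hrec
    have h := congrArg (fun n => (p + 1) * n) hrec
    have e1 : (p + 1) ^ (2 * (k + 1) + 1) = ((p + 1) ^ k * (p + 1) ^ k) * (p + 1) ^ 3 := by
      rw [← pow_add, ← pow_add]; congr 1; omega
    have e2 : (p + 1) ^ (2 * k + 2) = ((p + 1) ^ k * (p + 1) ^ k) * (p + 1) ^ 2 := by
      rw [← pow_add, ← pow_add]; congr 1; omega
    have e3 : (p + 1) ^ (2 * k + 1) = ((p + 1) ^ k * (p + 1) ^ k) * (p + 1) := by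
      rw [← pow_add, ← pow_succ]; congr 1; omega
    simp only [e3, pow_succ] at h
    rw [e1, e2]
    simp only [pow_succ, pow_zero, one_mul] at h ⊢
    linarith

theorem finrank_fun {ι : Type} [Fintype ι] : Module.finrank F (ι → F) = Fintype.card ι :=
  Module.finrank_fintype_fun_eq_card F

theorem level_qOdd (h2 : (2 : F) ≠ 0) (m : ℕ) : level (qOdd m F) 0 - 1 = Nat.card F ^ (2 * m) - 1 := by
  rw [level_odd m (qOdd_nondeg h2 m) (by rw [finrank_fun]; simp; ring)]

theorem level_qPlus {m : ℕ} (hm : 1 ≤ m) :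
    level (qPlus m F) 0 - 1 = (Nat.card F ^ m - 1) * (Nat.card F ^ (m - 1) + 1) := by
  let e : (Fin m → F) →ₗ[F] (Fin m ⊕ Fin m → F) :=
    { toFun := fun x => Sum.elim x 0
      map_add' := fun x y => by ext (i | i) <;> simp
      map_smul' := fun c x => by ext (i | i) <;> simp }
  have he : Function.Injective e := fun x y h => funext fun i => congrFun h (Sum.inl i)
  rw [level_plus (qPlus_nondeg m) hm (M := LinearMap.range e) (by rw [finrank_fun]; simp; ring)
    (by
      rintro _ ⟨x, rfl⟩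
      rw [show qPlus m F (e x) = Cfsg.quadFormPlus m F (e x) from congrFun (coe_qPlus m F) _]
      simp [Cfsg.quadFormPlus, e])
    (by rw [LinearMap.finrank_range_of_inj he, finrank_fun, Fintype.card_fin]), mul_add, mul_one]
  have : 1 ≤ Nat.card F ^ m := Nat.one_le_pow _ _ Nat.card_pos
  omega

theorem level_qMinus {k : ℕ} {a b : F}
    (hab : ∀ z₁ z₂ : F, z₁ ^ 2 + a * z₁ * z₂ + b * z₂ ^ 2 = 0 → z₁ = 0 ∧ z₂ = 0) :
    level (qMinus k F a b) 0 - 1 = (Nat.card F ^ (k + 1) + 1) * (Nat.card F ^ k - 1) := by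
  have h := level_minus k (qMinus_nondeg k hab) (by rw [finrank_fun]; simp; ring)
    (fun W hW => H43.AutPO.finrank_le_qMinus hab W hW)
  obtain ⟨r, hr⟩ : ∃ r, Nat.card F ^ k = r + 1 := ⟨Nat.card F ^ k - 1, by
    have : 0 < Nat.card F ^ k := pow_pos Nat.card_pos _
    omega⟩
  rw [show 2 * k + 1 = k + k + 1 by ring, pow_succ, pow_succ, pow_add, hr] at h
  rw [pow_succ, hr, Nat.add_sub_cancel]
  obtain ⟨p, hp⟩ : ∃ p, Nat.card F = p + 1 := ⟨Nat.card F - 1, by
    have : 0 < Nat.card F := Nat.card_pos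
    omega⟩
  rw [hp] at h ⊢
  have e1 : (r + 1) * (r + 1) * (p + 1) = ((r + 1) * (p + 1) + 1) * r + (r + 1) * (p + 1) - r := by
    refine (Nat.sub_eq_of_eq_add ?_).symm
    ring
  have e2 : r ≤ ((r + 1) * (p + 1) + 1) * r := Nat.le_mul_of_pos_left _ (by omega)
  omega

end H48.OrIdx
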