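import Mathlib

/-!
# Annihilators for an additive character and a bilinear form
-/

set_option autoImplicit false

namespace H48.OrIdx

variable {F : Type*} [Field F] {W : Type*} [AddCommGroup W] [Module F W]

/-- The annihilator of an additive subgroup with respect to `ψ ∘ B`. -/
def ann (ψ : AddChar F ℂ) (B : LinearMap.BilinForm F W) (I : AddSubgroup W) : AddSubgroup W where
  carrier := {j | ∀ i ∈ I, ψ (B i j) = 1}
  add_mem' := fun {a b} ha hb i hi => by
    rw [map_add, AddChar.map_add_eq_mul, ha i hi, hb i hi, one_mul]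
  zero_mem' := fun i _ => by rw [map_zero, AddChar.map_zero_eq_one]
  neg_mem' := fun {a} ha i hi => by
    rw [map_neg, AddChar.map_neg_eq_inv, ha i hi, inv_one]

variable {ψ : AddChar F ℂ} {B : LinearMap.BilinForm F W}

theorem mem_ann {I : AddSubgroup W} {j : W} : j ∈ ann ψ B I ↔ ∀ i ∈ I, ψ (B i j) = 1 := Iff.rfl

theorem ann_antitone {I I' : AddSubgroup W} (h : I ≤ I') : ann ψ B I' ≤ ann ψ B I :=
  fun _ hj i hi => hj i (h hi)

/-- A scalar line on which the character is trivial is orthogonal. -/
theorem eq_zero_of_all (hψ : ψ.IsPrimitive) {t : F} (h : ∀ c : F, ψ (c * t) = 1) : t = 0 := by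
  by_contra hne
  obtain ⟨c, hc⟩ := AddChar.ne_one_iff.1 (hψ hne)
  exact hc (by rw [AddChar.mulShift_apply, mul_comm]; exact h c)

theorem perp_of_all {v : W} (hψ : ψ.IsPrimitive) {I : AddSubgroup W} {j : W}
    (hj : j ∈ ann ψ B I) (hv : ∀ c : F, c • v ∈ I) : B v j = 0 :=
  eq_zero_of_all hψ fun c => by
    have := hj _ (hv c)
    rwa [map_smul, LinearMap.smul_apply, smul_eq_mul] at this

variable [Finite W]

/-- The characters given by `ψ ∘ B`. -/
def chMap (ψ : AddChar F ℂ) (B : LinearMap.BilinForm F W) (b : W) : AddChar W ℂ where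
  toFun a := ψ (B a b)
  map_zero_eq_one' := by simp
  map_add_eq_mul' a a' := by simp [AddChar.map_add_eq_mul]

omit [Finite W] in
theorem chMap_apply (b a : W) : chMap ψ B b a = ψ (B a b) := rfl

theorem chMap_bijective (hψ : ψ.IsPrimitive) (hB : B.Nondegenerate) :
    Function.Bijective (chMap ψ B) := by
  classical
  haveI := Fintype.ofFinite W
  have hinj : Function.Injective (chMap ψ B) := by
    intro b b' h
    rw [← sub_eq_zero]
    refine hB.2 _ fun a => eq_zero_of_all hψ fun c => ?_
    have e := DFunLike.congr_fun h (c • a)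
    rw [chMap_apply, chMap_apply] at e
    rw [← smul_eq_mul, ← LinearMap.smul_apply, ← map_smul, map_sub, AddChar.map_sub_eq_div, e,
      div_self (AddChar.val_isUnit ψ _).ne_zero]
  exact (Fintype.bijective_iff_injective_and_card _).2 ⟨hinj, (AddChar.card_eq (α := W)).symm⟩

theorem card_ann_mul (hψ : ψ.IsPrimitive) (hB : B.Nondegenerate) (I : AddSubgroup W) :
    Nat.card (ann ψ B I) * Nat.card I = Nat.card W := by
  classical
  haveI : Fintype (W ⧸ I) := Fintype.ofFinite _
  let e : ann ψ B I → AddChar (W ⧸ I) ℂ := fun j =>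
    { toFun := fun a => Quotient.liftOn' a (fun a => ψ (B a j.1)) (fun a b h => by
        rw [QuotientAddGroup.leftRel_apply] at h
        have h1 := j.2 _ h
        rw [map_add, map_neg, LinearMap.add_apply, LinearMap.neg_apply, AddChar.map_add_eq_mul,
          AddChar.map_neg_eq_inv] at h1
        exact (inv_mul_eq_one₀ (AddChar.val_isUnit ψ _).ne_zero).1 h1)
      map_zero_eq_one' := by
        show ψ (B (0 : W) j.1) = 1
        simp
      map_add_eq_mul' := fun a b => by
        induction a using QuotientAddGroup.induction_on with | _ a => ?_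
        induction b using QuotientAddGroup.induction_on with | _ b => ?_
        show ψ (B (a + b) j.1) = _
        rw [map_add, LinearMap.add_apply, AddChar.map_add_eq_mul]
        rfl }
  have he : Function.Bijective e := by
    refine ⟨fun j j' h => Subtype.ext ((chMap_bijective hψ hB).1 ?_), fun χ => ?_⟩
    · ext a
      exact DFunLike.congr_fun h (QuotientAddGroup.mk a : W ⧸ I)
    · obtain ⟨b, hb⟩ := (chMap_bijective hψ hB).2
        { toFun := fun a => χ (QuotientAddGroup.mk a : W ⧸ I)
          map_zero_eq_one' := by rw [QuotientAddGroup.mk_zero, AddChar.map_zero_eq_one]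
          map_add_eq_mul' := fun a b => by rw [QuotientAddGroup.mk_add, AddChar.map_add_eq_mul] }
      have hb' : ∀ a, ψ (B a b) = χ (QuotientAddGroup.mk a : W ⧸ I) := fun a =>
        DFunLike.congr_fun hb a
      refine ⟨⟨b, fun i hi => ?_⟩, ?_⟩
      · rw [hb', (QuotientAddGroup.eq_zero_iff i).2 hi, AddChar.map_zero_eq_one]
      · ext a
        induction a using QuotientAddGroup.induction_on with | _ a => ?_
        exact hb' a
  rw [Nat.card_eq_of_bijective e he, Nat.card_eq_fintype_card, AddChar.card_eq,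
    ← Nat.card_eq_fintype_card, I.card_eq_card_quotient_mul_card_addSubgroup]

theorem ann_ann (hψ : ψ.IsPrimitive) (hB : B.Nondegenerate) (hsymm : ∀ a b, B a b = B b a)
    (I : AddSubgroup W) : ann ψ B (ann ψ B I) = I := by
  haveI : Finite (ann ψ B (ann ψ B I)) := inferInstance
  have h1 : I ≤ ann ψ B (ann ψ B I) := fun i hi j hj => by rw [hsymm]; exact hj i hi
  refine (SetLike.coe_injective (Set.eq_of_subset_of_ncard_le h1 ?_ (Set.toFinite _))).symm
  have e1 := card_ann_mul hψ hB I
  have e2 := card_ann_mul hψ hB (ann ψ B I)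
  rw [← e1, mul_comm (Nat.card (ann ψ B I))] at e2
  have := Nat.eq_of_mul_eq_mul_right Nat.card_pos e2
  rw [← Nat.card_coe_set_eq, ← Nat.card_coe_set_eq]
  exact this.le

theorem exists_ne_zero_of_ne_top (hψ : ψ.IsPrimitive) (hB : B.Nondegenerate)
    (hsymm : ∀ a b, B a b = B b a) {I : AddSubgroup W} (hI : I ≠ ⊤) :
    ∃ j ∈ ann ψ B I, j ≠ 0 := by
  by_contra h
  push Not at h
  apply hI
  rw [← ann_ann hψ hB hsymm I, eq_top_iff]
  intro a _ j hj
  simp [h j hj]

omit [Finite W] in
theorem exists_primitive [Finite F] : ∃ ψ : AddChar F ℂ, ψ.IsPrimitive := by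
  haveI := Fintype.ofFinite F
  exact ⟨AddChar.FiniteField.primitiveChar_to_Complex F,
    AddChar.FiniteField.primitiveChar_to_Complex_isPrimitive F⟩

end H48.OrIdx
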