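import Cfsg.Agent.H43.Finite

/-!
# Small actions of a field normalised by its squares
-/

set_option autoImplicit false

namespace H48.OrIdx

variable {F : Type*} [Field F] [Finite F]

/-- The admissible degrees. -/
def SmallDeg (F : Type*) [Field F] (n : ℕ) : Prop :=
  ((2 : F) = 0 ∧ n < Nat.card F) ∨ 2 * n < Nat.card F ∨ (Nat.Prime (Nat.card F) ∧ n < Nat.card F)

/-- The smallest degree which is not admissible, at least. -/
noncomputable def kIdx (F : Type*) [Field F] : ℕ := by
  classical
  exact if Nat.card F % 2 = 1 ∧ 7 ≤ Nat.card F then (Nat.card F + 1) / 2 else Nat.card F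

theorem smallDeg_of_lt {n : ℕ} (h : n < kIdx F) : SmallDeg F n := by
  classical
  haveI := Fintype.ofFinite F
  unfold kIdx at h
  split_ifs at h with hc
  · exact Or.inr (Or.inl (by omega))
  · by_cases h2 : (2 : F) = 0
    · exact Or.inl ⟨h2, h⟩
    refine Or.inr (Or.inr ⟨?_, h⟩)
    have hodd : Fintype.card F % 2 = 1 := FiniteField.odd_card_of_char_ne_two fun h' => h2 (by
      have := ringChar.Nat.cast_ringChar (R := F)
      rw [h'] at this
      exact_mod_cast this)
    rw [Nat.card_eq_fintype_card] at hc ⊢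
    have h1 : 1 < Fintype.card F := Fintype.one_lt_card
    have : Fintype.card F = 3 ∨ Fintype.card F = 5 := by omega
    rcases this with e | e <;> rw [e] <;> norm_num

variable {G X : Type*} [Group G] [MulAction G X] [Finite X] (φ : F → G)

/-- A family normalised by the squares acts trivially in small degree. -/
theorem smul_eq_of_small (hφ : ∀ a b, φ (a + b) = φ a * φ b)
    (hconj : ∀ t : F, t ≠ 0 → ∃ g : G, ∀ s, g * φ s * g⁻¹ = φ (t * t * s))
    (hn : SmallDeg F (Nat.card X)) (s : F) (x : X) : φ s • x = x := by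
  classical
  haveI := Fintype.ofFinite F
  haveI := Fintype.ofFinite X
  set q := Fintype.card F with hq
  simp only [SmallDeg, Nat.card_eq_fintype_card] at hn
  let ψ : Multiplicative F →* G := MonoidHom.mk' (fun a => φ (Multiplicative.toAdd a)) fun a b => hφ _ _
  letI act : MulAction (Multiplicative F) X := MulAction.compHom X ψ
  let fx : F → ℕ := fun c => Fintype.card (MulAction.fixedBy X (Multiplicative.ofAdd c))
  have hfx : ∀ c, (∀ z : X, φ c • z = z) ↔ fx c = Fintype.card X := fun c => by
    constructor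
    · intro h
      exact Fintype.card_of_bijective (f := Subtype.val)
        ⟨Subtype.val_injective, fun z => ⟨⟨z, h z⟩, rfl⟩⟩
    · intro h z
      have hb : Function.Bijective (Subtype.val : MulAction.fixedBy X (Multiplicative.ofAdd c) → X) :=
        (Fintype.bijective_iff_injective_and_card _).2 ⟨Subtype.val_injective, h⟩
      obtain ⟨⟨z', hz'⟩, rfl⟩ := hb.2 z
      exact hz'
  have hfx_le : ∀ c, fx c ≤ Fintype.card X := fun c =>
    Fintype.card_le_of_injective _ Subtype.val_injective
  have hsq : ∀ t c : F, t ≠ 0 → fx (t * t * c) = fx c := by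
    intro t c ht
    obtain ⟨g, hg⟩ := hconj t ht
    refine Fintype.card_congr
      { toFun := fun z => ⟨g⁻¹ • z.1, ?_⟩
        invFun := fun z => ⟨g • z.1, ?_⟩
        left_inv := fun z => Subtype.ext (smul_inv_smul _ _)
        right_inv := fun z => Subtype.ext (inv_smul_smul _ _) }
    · have h1 : φ (t * t * c) • z.1 = z.1 := z.2
      show φ c • g⁻¹ • z.1 = g⁻¹ • z.1
      rw [← hg, mul_smul, mul_smul, smul_eq_iff_eq_inv_smul] at h1
      exact h1
    · have h1 : φ c • z.1 = z.1 := z.2
      show φ (t * t * c) • g • z.1 = g • z.1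
      rw [← hg, mul_smul, mul_smul, inv_smul_smul, h1]
  let A : AddSubgroup F :=
    { carrier := {c | ∀ z : X, φ c • z = z}
      add_mem' := fun {a b} ha hb z => by rw [hφ, mul_smul, hb, ha]
      zero_mem' := fun z => by
        have : φ 0 = 1 := map_one ψ
        rw [this, one_smul]
      neg_mem' := fun {a} ha z => by
        have : φ (-a) = (φ a)⁻¹ := map_inv ψ (Multiplicative.ofAdd a)
        rw [this, inv_smul_eq_iff, ha] }
  have hAsq : ∀ t c, c ∈ A → t * t * c ∈ A := by
    intro t c hc
    rcases eq_or_ne t 0 with rfl | ht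
    · rw [mul_zero, zero_mul]; exact A.zero_mem
    · exact (hfx _).2 ((hsq t c ht).trans ((hfx _).1 hc))
  have hAall : ∀ c ∈ A, c ≠ 0 → ∀ u, u ∈ A := by
    intro c hc hc0 u
    obtain ⟨a, b, hab⟩ := H43.exists_sum_sq_eq (one_ne_zero (α := F)) one_ne_zero (u / c)
    have : u = a * a * c + b * b * c := by
      rw [← add_mul, show a * a + b * b = u / c by simpa using hab, div_mul_cancel₀ _ hc0]
    rw [this]
    exact A.add_mem (hAsq a c hc) (hAsq b c hc)
  by_contra hsx
  have hfaith : ∀ c, c ≠ 0 → fx c < Fintype.card X := fun c hc =>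
    lt_of_le_of_ne (hfx_le c) fun h => hsx (hAall c ((hfx c).2 h) hc s x)
  have hsum := MulAction.sum_card_fixedBy_eq_card_orbits_mul_card_group (Multiplicative F) X
  rw [Fintype.card_multiplicative] at hsum
  have hdvd : q ∣ ∑ c, fx c := ⟨_, ((Fintype.sum_equiv Multiplicative.ofAdd fx _ fun c => rfl).trans
    hsum).trans (mul_comm _ _)⟩
  have hsplit : ∑ c, fx c = fx 0 + ∑ c ∈ Finset.univ.erase (0 : F), fx c :=
    (Finset.add_sum_erase _ _ (Finset.mem_univ _)).symm
  have hfx0 : fx 0 = Fintype.card X := (hfx 0).1 A.zero_mem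
  have hcard : (Finset.univ.erase (0 : F)).card = q - 1 := by simp [q]
  have hq1 : 1 < q := Fintype.one_lt_card
  rcases hn with ⟨h2, hn⟩ | hn | ⟨hp, hn⟩
  · have hconst : ∀ c ∈ Finset.univ.erase (0 : F), fx c = fx 1 := by
      intro c hc
      have hc0 := (Finset.mem_erase.1 hc).1
      obtain ⟨t, ht⟩ := H43.isSquare_of_two_eq_zero h2 c
      rw [ht, ← mul_one (t * t)]
      exact hsq t 1 fun h => hc0 (by rw [ht, h, mul_zero])
    rw [hsplit, hfx0, Finset.sum_congr rfl hconst, Finset.sum_const, hcard, smul_eq_mul] at hdvd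
    have h1 := hfaith 1 one_ne_zero
    have hd : q ∣ Fintype.card X - fx 1 := by
      have h3 : q ∣ q * fx 1 := Dvd.intro _ rfl
      have h4 := Nat.dvd_sub hdvd h3
      rwa [show Fintype.card X + (q - 1) * fx 1 - q * fx 1 = Fintype.card X - fx 1 by
        rw [Nat.sub_mul, one_mul]
        have := Nat.le_mul_of_pos_left (fx 1) (show 0 < q by omega)
        omega] at h4
    exact absurd (Nat.le_of_dvd (by omega) hd) (by omega)
  · have hne2 : ∀ c : F, c ≠ 0 → ∀ ν : F, ν ≠ 0 → ¬ IsSquare ν →
        fx c + fx (ν * c) = fx 1 + fx ν := by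
      intro c hc ν hν0 hν
      by_cases hcs : IsSquare c
      · obtain ⟨t, rfl⟩ := hcs
        have ht : t ≠ 0 := fun h => hc (by rw [h, mul_zero])
        rw [mul_comm ν, ← mul_one (t * t), hsq t 1 ht, mul_one, hsq t ν ht]
      · obtain ⟨t, ht⟩ : IsSquare (ν * c) := by
          have h1 := (quadraticChar_neg_one_iff_not_isSquare (F := F)).2 hν
          have h2 := (quadraticChar_neg_one_iff_not_isSquare (F := F)).2 hcs
          rw [← quadraticChar_one_iff_isSquare (mul_ne_zero hν0 hc), map_mul, h1, h2]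
          norm_num
        have ht0 : t ≠ 0 := fun h => mul_ne_zero hν0 hc (by rw [ht, h, mul_zero])
        have e1 : fx (ν * c) = fx 1 := by rw [ht, ← mul_one (t * t)]; exact hsq t 1 ht0
        have e2 : fx c = fx ν := by
          have : ν * ν * c = t * t * ν := by linear_combination ν * ht
          rw [← hsq ν c hν0, this, hsq t ν ht0]
        omega
    by_cases hallsq : ∀ c : F, IsSquare c
    · have hconst : ∀ c ∈ Finset.univ.erase (0 : F), fx c = fx 1 := by
        intro c hc
        have hc0 := (Finset.mem_erase.1 hc).1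
        obtain ⟨t, ht⟩ := hallsq c
        rw [ht, ← mul_one (t * t)]
        exact hsq t 1 fun h => hc0 (by rw [ht, h, mul_zero])
      rw [hsplit, hfx0, Finset.sum_congr rfl hconst, Finset.sum_const, hcard, smul_eq_mul] at hdvd
      have h1 := hfaith 1 one_ne_zero
      have h4 := Nat.dvd_sub hdvd (Dvd.intro (fx 1) (rfl : q * fx 1 = _))
      rw [show Fintype.card X + (q - 1) * fx 1 - q * fx 1 = Fintype.card X - fx 1 by
        rw [Nat.sub_mul, one_mul]
        have := Nat.le_mul_of_pos_left (fx 1) (show 0 < q by omega)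
        omega] at h4
      exact absurd (Nat.le_of_dvd (by omega) h4) (by omega)
    simp only [not_forall] at hallsq
    obtain ⟨ν, hν⟩ := hallsq
    have hν0 : ν ≠ 0 := fun h => hν (h ▸ IsSquare.zero)
    have hre : ∑ c ∈ Finset.univ.erase (0 : F), fx (ν * c) = ∑ c ∈ Finset.univ.erase (0 : F), fx c :=
      Finset.sum_nbij' (fun c => ν * c) (fun c => ν⁻¹ * c)
        (fun c hc => by simp_all) (fun c hc => by simp_all)
        (fun c _ => inv_mul_cancel_left₀ hν0 c) (fun c _ => mul_inv_cancel_left₀ hν0 c) (fun c _ => rfl)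
    have h2sum : 2 * ∑ c ∈ Finset.univ.erase (0 : F), fx c = (q - 1) * (fx 1 + fx ν) := by
      rw [two_mul]
      nth_rewrite 2 [← hre]
      rw [← Finset.sum_add_distrib, Finset.sum_congr rfl
        (fun c hc => hne2 c (Finset.mem_erase.1 hc).1 ν hν0 hν), Finset.sum_const, hcard, smul_eq_mul]
    have h1 := hfaith 1 one_ne_zero
    have hν' := hfaith ν hν0
    have hd2 : q ∣ 2 * Fintype.card X + (q - 1) * (fx 1 + fx ν) := by
      rw [← h2sum, ← Nat.mul_add, ← hfx0, ← hsplit]
      exact hdvd.mul_left 2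
    have h4 := Nat.dvd_sub hd2 (Dvd.intro (fx 1 + fx ν) (rfl : q * (fx 1 + fx ν) = _))
    rw [show 2 * Fintype.card X + (q - 1) * (fx 1 + fx ν) - q * (fx 1 + fx ν) =
        2 * Fintype.card X - (fx 1 + fx ν) by
      rw [Nat.sub_mul, one_mul]
      have := Nat.le_mul_of_pos_left (fx 1 + fx ν) (show 0 < q by omega)
      omega] at h4
    exact absurd (Nat.le_of_dvd (by omega) h4) (by omega)
  · have horb := MulAction.card_orbit_mul_card_stabilizer_eq_card_group (Multiplicative F) x
    rw [Fintype.card_multiplicative] at horb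
    have hle : Fintype.card (MulAction.orbit (Multiplicative F) x) ≤ Fintype.card X :=
      Fintype.card_le_of_injective _ Subtype.val_injective
    rcases hp.eq_one_or_self_of_dvd _ (Dvd.intro _ horb) with h | h
    · apply hsx
      obtain ⟨w, hw⟩ := Fintype.card_eq_one_iff.1 h
      have h1 := hw ⟨φ s • x, MulAction.mem_orbit x (Multiplicative.ofAdd s)⟩
      have h2 := hw ⟨x, MulAction.mem_orbit_self x⟩
      exact congrArg Subtype.val (h1.trans h2.symm)
    · omega

/-- Subgroups of small index contain the family. -/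
theorem mem_of_small {G : Type*} [Group G] [Finite G] (φ : F → G)
    (hφ : ∀ a b, φ (a + b) = φ a * φ b)
    (hconj : ∀ t : F, t ≠ 0 → ∃ g : G, ∀ s, g * φ s * g⁻¹ = φ (t * t * s))
    (H : Subgroup G) (hn : H.index < kIdx F) (s : F) : φ s ∈ H := by
  have h := smul_eq_of_small (X := G ⧸ H) φ hφ hconj
    (by rw [← Subgroup.index_eq_card]; exact smallDeg_of_lt hn) s ((1 : G) : G ⧸ H)
  rw [MulAction.Quotient.smul_coe, smul_eq_mul, mul_one] at h
  simpa using QuotientGroup.eq.1 h.symm

end H48.OrIdx
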