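import Cfsg.Agent.H48.OrIdx.Radical

/-!
# The alternatives at a singular point
-/

set_option autoImplicit false
set_option linter.unusedSectionVars false

namespace H48.OrIdx

open H43 H50.Or

universe u w w'

variable {F : Type u} [Field F] [Finite F] {V : Type w} [AddCommGroup V] [Module F V]
  [FiniteDimensional F V] {Q : QuadraticForm F V}
  {W : Type w'} [AddCommGroup W] [Module F W] [FiniteDimensional F W] {Q' : QuadraticForm F W}
  {x y : V} (fr : Frame Q x y Q')

include fr in
theorem finrank_W_ge {k : ℕ} (h : k + 2 ≤ Module.finrank F V) : k ≤ Module.finrank F W := by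
  have := fr.finrank_eq
  omega

/-- The orbit of a class contains all classes with values in the same square class. -/
theorem mem_clsOrbit (h7 : 7 ≤ Module.finrank F V) {j : W} (hjq : Q' j ≠ 0) {b : W} {c : F}
    (hc : c ≠ 0) (hb : Q' b = c * c * Q' j) : b ∈ clsOrbit fr j := by
  classical
  haveI : Finite V := Module.finite_of_finite F
  have hgen : ReflGenerates F V := Or.inr (by omega)
  have hx0 : x ≠ 0 := fr.pair.left_ne_zero
  have hb0 : b ≠ 0 := fun h => by
    rw [h, QuadraticMap.map_zero] at hb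
    exact mul_ne_zero (mul_ne_zero hc hc) hjq hb.symm
  have hli : ∀ (s : F) (u : W), s ≠ 0 → u ≠ 0 → LinearIndependent F ![s • x, fr.j u] := by
    intro s u hs hu
    rw [LinearIndependent.pair_iff]
    intro p r hpr
    have h1 := congrArg (fun z => polB Q z y) hpr
    simp [fr.pair.pair, (fr.orth' u).2, hs] at h1
    subst h1
    rw [zero_smul, zero_add, ← map_smul] at hpr
    have := fr.inj (hpr.trans (map_zero fr.j).symm)
    exact ⟨rfl, (smul_eq_zero.1 this).resolve_right hu⟩
  have hj0 : j ≠ 0 := fun h => hjq (by rw [h, QuadraticMap.map_zero])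
  have hxs : (c⁻¹ • x) = c⁻¹ • x := rfl
  obtain ⟨g, hgx, hgj⟩ := exists_orth_map₂ fr.nd
    (x := x) (x' := fr.j j) (y := c⁻¹ • x) (y' := fr.j (c⁻¹ • b))
    (by simpa using hli 1 j one_ne_zero hj0)
    (hli _ _ (inv_ne_zero hc) (smul_ne_zero (inv_ne_zero hc) hb0))
    (by rw [qmap_smul, fr.pair.left, mul_zero])
    (by rw [fr.form, fr.form, qmap_smul, hb]; field_simp)
    (by rw [map_smul (polB Q), LinearMap.smul_apply, (fr.orth j).1, (fr.orth _).1, smul_zero])
  let S : Subgroup (orthGroup Q) := stabO Q x ⊓ stabO Q (fr.j j)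
  have hmemS : ∀ u : W, polB Q' j u = 0 → refl Q (fr.j u) ∈ S := fun u hu =>
    ⟨refl_fix (fr.orth u).1, refl_fix (by rw [fr.bform, hu])⟩
  have hS : ∀ t, ∃ h ∈ S, invHom fr.nd hgen h = t := by
    have hW : 5 ≤ Module.finrank F W := finrank_W_ge fr h7
    by_cases h2 : (2 : F) = 0
    · refine H45.invHom_cases fr.nd hgen S (fun l hl => ⟨1, one_mem _, ?_⟩)
        ⟨fr.j j, by rwa [fr.form], hmemS j (by rw [polB_self, h2, zero_mul])⟩
      rw [map_one, (sqc_eq_one_iff hl).mpr (isSquare_of_two_eq_zero h2 l)]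
      rfl
    · set U := (polB Q').orthogonal (F ∙ j)
      have hUnd : (polB (Q'.restrict U)).Nondegenerate := by
        apply restrict_nondeg
        rw [LinearMap.BilinForm.orthogonal_orthogonal fr.nd' (polB_isRefl Q'), eq_bot_iff]
        rintro z ⟨hz, hz'⟩
        obtain ⟨s, rfl⟩ := Submodule.mem_span_singleton.mp hz'
        have := mem_orth_singleton.mp hz
        rw [map_smul, polB_self, smul_eq_mul, mul_eq_zero, mul_eq_zero] at this
        rcases this with h | h | h
        · simp [h]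
        · exact absurd h h2
        · exact absurd h hjq
      have hU2 : 2 ≤ Module.finrank F U := by
        have := finrank_orth_singleton fr.nd' hj0
        show 2 ≤ Module.finrank F ↥((polB Q').orthogonal (F ∙ j))
        omega
      have hval : ∀ l : F, l ≠ 0 → ∃ u : W, polB Q' j u = 0 ∧ Q' u = l := fun l hl => by
        obtain ⟨u, hu⟩ := exists_qmap_eq hUnd hU2 l hl
        exact ⟨u, mem_orth_singleton.1 u.2, hu⟩
      refine H45.invHom_cases fr.nd hgen S (fun l hl => ?_) ?_
      · obtain ⟨u, hu, hul⟩ := hval l hl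
        obtain ⟨u1, hu1, hu11⟩ := hval 1 one_ne_zero
        refine ⟨refl Q (fr.j u) * refl Q (fr.j u1), mul_mem (hmemS u hu) (hmemS u1 hu1), ?_⟩
        rw [map_mul, invHom_refl fr.nd hgen (by rw [fr.form, hul]; exact hl),
          invHom_refl fr.nd hgen (by rw [fr.form, hu11]; exact one_ne_zero), fr.form, fr.form, hul,
          hu11, sqc_one]
        exact Prod.ext (by show Multiplicative.ofAdd (1 : ZMod 2) * Multiplicative.ofAdd 1 = 1; rfl)
          (mul_one _)
      · obtain ⟨u, hu, hu1⟩ := hval 1 one_ne_zero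
        exact ⟨fr.j u, by rw [fr.form, hu1]; exact one_ne_zero, hmemS u hu⟩
  obtain ⟨h, hh, hgh⟩ := H45.exists_mem_commutator fr.nd hgen (by omega) S hS g
  have hx : (g * h).1 x = c⁻¹ • x := by rw [orth_mul_apply, show h.1 x = x from hh.1, hgx]
  have hl : lam Q x y ⟨g * h, hgh⟩ = c⁻¹ := by
    show polB Q ((g * h).1 x) y = _
    rw [hx, map_smul, LinearMap.smul_apply, fr.pair.pair, smul_eq_mul, mul_one]
  refine ⟨⟨g * h, hgh⟩, ?_, ?_⟩
  · show (g * h).1 x ∈ Submodule.span F {x}
    rw [hx]
    exact Submodule.smul_mem _ _ (Submodule.mem_span_singleton_self x)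
  · show act fr ⟨g * h, hgh⟩ j = b
    rw [act, hl, inv_inv]
    show c • fr.P ((g * h).1 (fr.j j)) = b
    rw [orth_mul_apply, show h.1 (fr.j j) = fr.j j from hh.2, hgj, fr.P_j, smul_smul,
      mul_inv_cancel₀ hc, one_smul]

theorem card_clsOrbit_ge (h7 : 7 ≤ Module.finrank F V) {j : W} (hjq : Q' j ≠ 0) :
    Nat.card {a : F // ∃ c : F, c ≠ 0 ∧ a = c * c * Q' j} *
        (Nat.card F ^ (Module.finrank F V - 3) - Nat.card F ^ (Module.finrank F V - 5)) ≤
      Nat.card (clsOrbit fr j) := by
  classical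
  haveI : Finite W := Module.finite_of_finite F
  haveI := Fintype.ofFinite F
  set A := {a : F // ∃ c : F, c ≠ 0 ∧ a = c * c * Q' j}
  have hd := fr.finrank_eq
  have hlev : ∀ a : F, Nat.card F ^ (Module.finrank F V - 3) - Nat.card F ^ (Module.finrank F V - 5) ≤
      level Q' a := fun a => by
    have := level_ge (Q := Q') fr.nd' (by omega) a
    rw [show Module.finrank F V - 3 = Module.finrank F W - 1 by omega,
      show Module.finrank F V - 5 = Module.finrank F W - 3 by omega]
    omega
  let f : (Σ a : A, {b : W // Q' b = a.1}) → clsOrbit fr j := fun p => ⟨p.2.1, by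
    obtain ⟨c, hc, hac⟩ := p.1.2
    exact mem_clsOrbit fr h7 hjq hc (by rw [p.2.2, hac])⟩
  have hf : Function.Injective f := by
    rintro ⟨a, b⟩ ⟨a', b'⟩ h
    have h' : b.1 = b'.1 := congrArg Subtype.val h
    have ha : a = a' := Subtype.ext (by rw [← b.2, ← b'.2, h'])
    subst ha
    rw [Subtype.ext h']
  refine le_trans ?_ (Nat.card_le_card_of_injective f hf)
  rw [Nat.card_sigma, Nat.card_eq_fintype_card (α := A), ← Finset.card_univ, ← smul_eq_mul]
  exact Finset.card_nsmul_le_sum _ _ _ fun a _ => hlev a.1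

include fr in
theorem exists_nonsing_perp (h5 : 5 ≤ Module.finrank F W) (a v : W) :
    ∃ j : W, Q' j ≠ 0 ∧ polB Q' j a = 0 ∧ polB Q' j v = 0 := by
  by_contra hcon
  push Not at hcon
  have hall : ∀ z ∈ (polB Q').orthogonal (Submodule.span F {a, v}), Q' z = 0 := fun z hz => by
    by_contra hne
    obtain ⟨h1, h2⟩ := mem_orth_pair.1 hz
    exact hcon z hne (by rw [polB_comm]; exact h1) (by rw [polB_comm]; exact h2)
  have h1 := two_mul_finrank_singular_le fr.nd' _ hall
  have h2 := finrank_orth_pair fr.nd' a v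
  omega

variable (K : Subgroup (Om Q))

/-- Either the roots force a hyperplane into the image, or the image lies in the line of `j`. -/
theorem invariant_cases (h7 : 7 ≤ Module.finrank F V) {j : W} (hjq : Q' j ≠ 0)
    (hroots : ∀ a v : W, Q' a = 0 → polB Q' a v = 0 → polB Q' j a = 0 → polB Q' j v = 0 →
      el Q (fr.j a) (fr.j v) ∈ Lft fr K) :
    (∀ u, polB Q' j u = 0 → u ∈ Iw fr K) ∨ ∀ i ∈ Iw fr K, i ∈ F ∙ j := by
  classical
  have h5 : 5 ≤ Module.finrank F V := by omega
  have hW : 5 ≤ Module.finrank F W := finrank_W_ge fr h7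
  have hnd := fr.nd'
  have hj0 : j ≠ 0 := fun h => hjq (by rw [h, QuadraticMap.map_zero])
  by_cases hall : ∀ i ∈ Iw fr K, i ∈ F ∙ j
  · exact Or.inr hall
  simp only [not_forall] at hall
  obtain ⟨i₀, hi₀, hi₀j⟩ := hall
  refine Or.inl ?_
  -- singular vectors in the complement of `j`
  obtain ⟨z₀, hz₀U, hz₀0, hz₀⟩ := exists_singular_in (Q := Q') ((polB Q').orthogonal (F ∙ j)) (by
    have := finrank_orth_singleton hnd hj0
    omega)
  have hnotj : ∀ z, z ≠ 0 → Q' z = 0 → z ∉ F ∙ j := fun z h1 h2 => not_mem_span_of_qmap hjq h2 h1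
  have key : ∀ i ∈ Iw fr K, ∀ a, Q' a = 0 → polB Q' j a = 0 → polB Q' i a ≠ 0 →
      ∀ u, polB Q' j u = 0 → polB Q' a u = 0 → u ∈ Iw fr K := by
    intro i hi a ha hja hia
    have hf : ∀ v, polB Q' j v = 0 → polB Q' a v = 0 →
        polB Q' i a • v - polB Q' i v • a - (Q' v * polB Q' i a) • a ∈ Iw fr K := by
      intro v hjv hav
      have hmem := Lft_smul_Iw fr K h5 (hroots a v ha hav hja hjv) hi
      have hqa : Q (fr.j a) = 0 := by rw [fr.form, ha]
      have hqv : polB Q (fr.j a) (fr.j v) = 0 := by rw [fr.bform, hav]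
      have hfix : (el Q (fr.j a) (fr.j v)).1.1 x = x := by
        rw [coe_el fr.nd h5 hqa hqv, eichler_fix hqa hqv (fr.orth a).1 (fr.orth v).1]
      rw [lam_of_fix fr hfix, one_smul, coe_el fr.nd h5 hqa hqv, eichler_apply hqa hqv, fr.bform,
        fr.bform, fr.form] at hmem
      simp only [map_add, map_sub, map_smul, fr.P_j] at hmem
      have := (Iw fr K).sub_mem hmem hi
      convert this using 1
      abel
    obtain ⟨v, hjv, hav, v', hjv', hav', hvv⟩ : ∃ v, polB Q' j v = 0 ∧ polB Q' a v = 0 ∧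
        ∃ v', polB Q' j v' = 0 ∧ polB Q' a v' = 0 ∧ polB Q' v v' ≠ 0 := by
      by_contra hcon
      push Not at hcon
      set U := (polB Q').orthogonal (Submodule.span F {j, a})
      have hle : U ≤ (polB Q').orthogonal U := fun v hv v' hv' => by
        obtain ⟨h1, h2⟩ := mem_orth_pair.1 hv'
        obtain ⟨h3, h4⟩ := mem_orth_pair.1 hv
        exact hcon v' h1 h2 v h3 h4
      have h1 := Submodule.finrank_mono hle
      have h2 : Module.finrank F W ≤ Module.finrank F U + 2 := finrank_orth_pair hnd j a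
      have h3 := finrank_orth_add hnd U
      omega
    have hline : ∀ t : F, t • a ∈ Iw fr K := by
      intro t
      set s := -t / (polB Q' v v' * polB Q' i a)
      have h1 := hf (s • v + v') (by simp [hjv, hjv']) (by simp [hav, hav'])
      have h2 := hf (s • v) (by simp [hjv]) (by simp [hav])
      have h3 := hf v' hjv' hav'
      have h4 := (Iw fr K).sub_mem ((Iw fr K).sub_mem h1 h2) h3
      convert h4 using 1
      simp only [qmap_add, map_add, map_smul, LinearMap.smul_apply, smul_eq_mul]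
      match_scalars <;> (try simp only [s]) <;> field_simp <;> ring
    intro u hju hau
    have h1 := hf ((polB Q' i a)⁻¹ • u) (by simp [hju]) (by simp [hau])
    have h2 := (Iw fr K).add_mem h1 (hline (polB Q' i ((polB Q' i a)⁻¹ • u) +
      Q' ((polB Q' i a)⁻¹ • u) * polB Q' i a))
    convert h2 using 1
    rw [smul_smul, mul_inv_cancel₀ hia, one_smul, add_smul]
    abel
  obtain ⟨y₀, hy₀, hzy⟩ := exists_polB_ne_of_notMem hnd (hnotj z₀ hz₀0 hz₀)
  obtain ⟨y₁, hy₁, hiy⟩ := exists_polB_ne_of_notMem hnd hi₀j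
  obtain ⟨a, haU, ha, hia⟩ : ∃ a, a ∈ (polB Q').orthogonal (F ∙ j) ∧ Q' a = 0 ∧ polB Q' i₀ a ≠ 0 := by
    by_contra hcon
    push Not at hcon
    apply hiy
    have hspan := mem_span_singular hz₀U hz₀ hy₀ hzy hy₁
    clear hy₁ hiy
    induction hspan using Submodule.span_induction with
    | mem z hz => exact hcon z hz.1 hz.2
    | zero => simp
    | add p r _ _ hp hr => simp [hp, hr]
    | smul s p _ hp => simp [hp]
  have hja := mem_orth_singleton.1 haU
  have ha0 : a ≠ 0 := fun h => hia (by rw [h, map_zero])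
  obtain ⟨y₂, hy₂, hay⟩ := exists_polB_ne_of_notMem hnd (hnotj a ha0 ha)
  set a' := y₂ + (-(Q' y₂) / polB Q' a y₂) • a with ha'def
  have hjy := mem_orth_singleton.1 hy₂
  have ha' : Q' a' = 0 := by
    rw [qmap_add_smul, ha, polB_comm y₂ a, div_mul_cancel₀ _ hay]; ring
  have hja' : polB Q' j a' = 0 := by simp [ha'def, hjy, hja]
  have haa' : polB Q' a a' ≠ 0 := by simpa [ha'def, polB_self, ha] using hay
  intro u hju
  have h1 := key i₀ hi₀ a ha hja hia
  have h2 := key a (h1 a hja (by rw [polB_self, ha, mul_zero])) a' ha' hja' haa'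
  set s := polB Q' a u / polB Q' a a'
  have h3 := h1 (u - s • a') (by simp [hju, hja']) (by simp [s, div_mul_cancel₀ _ haa'])
  have h4 := h2 (s • a') (by simp [hja']) (by rw [map_smul, polB_self, ha', mul_zero, smul_zero])
  simpa using (Iw fr K).add_mem h3 h4

/-- The three alternatives at a point. -/
theorem local_cases (h7 : 7 ≤ Module.finrank F V) {ψ : AddChar F ℂ} (hψ : ψ.IsPrimitive) {j : W}
    (hj : j ∈ ann ψ (polB Q') (Iw fr K)) (hjq : Q' j ≠ 0) :
    (∃ j' : W, Q' j' ≠ 0 ∧ Nat.card (clsOrbit fr j') * kIdx F ≤ K.index) ∨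
      (∀ u, polB Q' j u = 0 → u ∈ Iw fr K) ∨
      (Iw fr K = ⊥ ∧ ∀ a v : W, Q' a = 0 → polB Q' a v = 0 →
        el Q (fr.j a) (fr.j v) ∈ Lft fr K) := by
  classical
  have hW : 5 ≤ Module.finrank F W := finrank_W_ge fr h7
  have hnd := fr.nd'
  rcases roots_or_bound fr K h7 hψ hj hjq with h | hroots
  · exact Or.inl ⟨j, hjq, h⟩
  rcases invariant_cases fr K h7 hjq hroots with h | hline
  · exact Or.inr (Or.inl h)
  by_cases hbig : ∃ j' : W, Q' j' ≠ 0 ∧ Nat.card (clsOrbit fr j') * kIdx F ≤ K.index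
  · exact Or.inl hbig
  refine Or.inr (Or.inr ?_)
  have hj0 : j ≠ 0 := fun h => hjq (by rw [h, QuadraticMap.map_zero])
  have hann : ∀ j', polB Q' j j' = 0 → j' ∈ ann ψ (polB Q') (Iw fr K) := fun j' hj' i hi => by
    obtain ⟨s, rfl⟩ := Submodule.mem_span_singleton.1 (hline i hi)
    rw [map_smul, LinearMap.smul_apply, hj', smul_zero, AddChar.map_zero_eq_one]
  have hI : Iw fr K = ⊥ := by
    obtain ⟨a, haU, ha0, ha⟩ := exists_singular_in (Q := Q') ((polB Q').orthogonal (F ∙ j)) (by
      have := finrank_orth_singleton hnd hj0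
      omega)
    obtain ⟨b, hbU, hab⟩ := exists_polB_ne_of_notMem hnd (not_mem_span_of_qmap hjq ha ha0)
    set a' := (polB Q' a b)⁻¹ • b + (-(Q' ((polB Q' a b)⁻¹ • b))) • a with ha'
    have hja := mem_orth_singleton.1 haU
    have hjb := mem_orth_singleton.1 hbU
    have haa' : polB Q' a a' = 1 := by simp [ha', polB_self, ha, hab]
    have hq : Q' a' = 0 := by
      rw [ha', qmap_add_smul, ha, map_smul (polB Q'), LinearMap.smul_apply, polB_comm b a,
        smul_eq_mul, inv_mul_cancel₀ hab]
      ring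
    have hjj : polB Q' j (a + a') = 0 := by simp [ha', hja, hjb]
    have hqs : Q' (a + a') ≠ 0 := by rw [qmap_add, ha, hq, haa']; simp
    rcases roots_or_bound fr K h7 hψ (hann _ hjj) hqs with h | hr
    · exact absurd ⟨_, hqs, h⟩ hbig
    rcases invariant_cases fr K h7 hqs hr with h | hline'
    · exfalso
      have hj' : a + a' ≠ 0 := fun e => hqs (by rw [e, QuadraticMap.map_zero])
      have hle : (polB Q').orthogonal (F ∙ (a + a')) ≤ F ∙ j := fun u hu =>
        hline u (h u (mem_orth_singleton.1 hu))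
      have h1 := Submodule.finrank_mono hle
      have h2 := finrank_orth_singleton hnd hj'
      rw [finrank_span_singleton hj0] at h1
      omega
    rw [eq_bot_iff]
    intro i hi
    obtain ⟨s, hs⟩ := Submodule.mem_span_singleton.1 (hline i hi)
    obtain ⟨t, ht⟩ := Submodule.mem_span_singleton.1 (hline' i hi)
    have h1 : polB Q' a i = 0 := by rw [← hs, map_smul, polB_comm, hja, smul_zero]
    rw [← ht, map_smul, map_add, polB_self, ha, haa', mul_zero, zero_add, smul_eq_mul, mul_one] at h1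
    rw [AddSubgroup.mem_bot, ← ht, h1, zero_smul]
  refine ⟨hI, fun a v ha hav => ?_⟩
  obtain ⟨j', hq', hja, hjv⟩ := exists_nonsing_perp fr hW a v
  have hj' : j' ∈ ann ψ (polB Q') (Iw fr K) := fun i hi => by
    rw [hI, AddSubgroup.mem_bot] at hi
    rw [hi, map_zero, LinearMap.zero_apply, AddChar.map_zero_eq_one]
  rcases roots_or_bound fr K h7 hψ hj' hq' with h | hr
  · exact absurd ⟨_, hq', h⟩ hbig
  · exact hr a v ha hav hja hjv

end H48.OrIdx
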