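import Cfsg.Agent.H48.OrIdx.CaseT
import Cfsg.Agent.H43.Simple

/-!
# The minimal index of a proper subgroup of `Ω(Q)` for fields with at least four elements
-/

set_option autoImplicit false
set_option linter.unusedSectionVars false

namespace H48.OrIdx

open H43 H50.Or

universe u w w'

variable {F : Type u} [Field F] [Finite F] {V : Type w} [AddCommGroup V] [Module F V]
  [FiniteDimensional F V] {Q : QuadraticForm F V} {K : Subgroup (Om Q)}

/-- The number of values in a square class is at least half the units. -/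
theorem card_sqClass_ge {a : F} (ha : a ≠ 0) :
    Nat.card F - 1 ≤ 2 * Nat.card {b : F // ∃ c : F, c ≠ 0 ∧ b = c * c * a} ∧
      (Nat.card F % 2 = 0 → Nat.card F - 1 ≤ Nat.card {b : F // ∃ c : F, c ≠ 0 ∧ b = c * c * a}) := by
  classical
  haveI := Fintype.ofFinite F
  set A := {b : F // ∃ c : F, c ≠ 0 ∧ b = c * c * a}
  let f : {c : F // c ≠ 0} → A := fun c => ⟨c.1 * c.1 * a, c.1, c.2, rfl⟩
  have hc : Fintype.card {c : F // c ≠ 0} = Nat.card F - 1 := by
    rw [Fintype.card_subtype_compl, Fintype.card_subtype_eq, Nat.card_eq_fintype_card]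
  constructor
  · have h := Finset.card_le_mul_card_image (f := f) Finset.univ 2 (fun b _ => by
      by_cases hb : ∃ c, f c = b
      · obtain ⟨c, rfl⟩ := hb
        refine le_trans (Finset.card_le_card (t := {c, ⟨-c.1, neg_ne_zero.2 c.2⟩}) ?_) Finset.card_le_two
        intro d hd
        have hd' : d.1 * d.1 * a = c.1 * c.1 * a := congrArg Subtype.val (Finset.mem_filter.1 hd).2
        rcases mul_self_eq_mul_self_iff.1 (mul_right_cancel₀ ha hd') with h | h
        · simp [Subtype.ext h]
        · simp [show d = (⟨-c.1, neg_ne_zero.2 c.2⟩ : {c : F // c ≠ 0}) from Subtype.ext h]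
      · push Not at hb
        simp [Finset.filter_eq_empty_iff.2 fun c _ => hb c])
    rw [Finset.card_univ, hc] at h
    refine h.trans (Nat.mul_le_mul_left 2 ?_)
    rw [Nat.card_eq_fintype_card]
    exact Finset.card_le_univ _
  · intro hev
    have h2 : (2 : F) = 0 := by
      by_contra h2
      have := FiniteField.odd_card_of_char_ne_two (F := F) fun h' => h2 (by
        have := ringChar.Nat.cast_ringChar (R := F)
        rw [h'] at this
        exact_mod_cast this)
      rw [Nat.card_eq_fintype_card] at hev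
      omega
    rw [← hc, ← Nat.card_eq_fintype_card]
    refine Nat.card_le_card_of_injective f fun c d h => ?_
    have hd' : c.1 * c.1 * a = d.1 * d.1 * a := congrArg Subtype.val h
    rcases mul_self_eq_mul_self_iff.1 (mul_right_cancel₀ ha hd') with h | h
    · exact Subtype.ext h
    · exact Subtype.ext (by linear_combination h - d.1 * h2)

theorem card_sqrt_one_le : Nat.card {c : F // c * c = 1} ≤ 2 := by
  classical
  haveI := Fintype.ofFinite F
  rw [Nat.card_eq_fintype_card, Fintype.card_subtype]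
  refine le_trans (Finset.card_le_card (t := {1, -1}) fun c hc => ?_) Finset.card_le_two
  rcases mul_self_eq_one_iff.1 (Finset.mem_filter.1 hc).2 with h | h <;> simp [h]

theorem pows_split {q N : ℕ} (hN : 5 ≤ N) :
    q ^ (N - 1) = q ^ 4 * q ^ (N - 5) ∧ q ^ (N - 2) = q ^ 3 * q ^ (N - 5) ∧
      q ^ (N - 3) = q ^ 2 * q ^ (N - 5) := by
  refine ⟨?_, ?_, ?_⟩ <;> rw [← pow_add] <;> congr 1 <;> omega

section

variable (hQ : (polB Q).Nondegenerate) (h7 : 7 ≤ Module.finrank F V) (h4 : 4 ≤ Nat.card F)

include hQ h7 h4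

theorem nsing_le_pows :
    level Q 0 - 1 ≤
      (Nat.card F ^ 4 + Nat.card F ^ 2) * Nat.card F ^ (Module.finrank F V - 5) := by
  have := level_zero_le hQ h7
  obtain ⟨e1, e2, e3⟩ := pows_split (q := Nat.card F) (show 5 ≤ Module.finrank F V by omega)
  rw [e1, e3] at this
  rw [add_mul]
  omega

/-- A large orbit of classes gives a large index. -/
theorem bound_of_orbit {W : Type w'} [AddCommGroup W] [Module F W] [FiniteDimensional F W]
    {Q' : QuadraticForm F W} {x y : V} (fr : Frame Q x y Q') {j : W} (hjq : Q' j ≠ 0)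
    (h : Nat.card (clsOrbit fr j) * kIdx F ≤ K.index) :
    level Q 0 - 1 ≤ (Nat.card F - 1) * K.index := by
  classical
  refine (nsing_le_pows hQ h7 h4).trans (le_trans ?_ (Nat.mul_le_mul_left _ h))
  have hc := card_clsOrbit_ge fr h7 hjq
  obtain ⟨hA, hA'⟩ := card_sqClass_ge hjq
  obtain ⟨-, -, e3⟩ := pows_split (q := Nat.card F) (show 5 ≤ Module.finrank F V by omega)
  rw [e3] at hc
  set A := Nat.card {b : F // ∃ c : F, c ≠ 0 ∧ b = c * c * Q' j}
  set q := Nat.card F
  set B := q ^ (Module.finrank F V - 5)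
  obtain ⟨p, hp⟩ : ∃ p, q = p + 1 := ⟨q - 1, by omega⟩
  have hB : q ^ 2 * B - B = (q ^ 2 - 1) * B := by rw [Nat.sub_mul, one_mul]
  rw [hB] at hc
  refine le_trans ?_ (Nat.mul_le_mul_left _ (Nat.mul_le_mul_right _ hc))
  suffices hkey : q ^ 4 + q ^ 2 ≤ (q - 1) * A * kIdx F * (q ^ 2 - 1) by
    calc (q ^ 4 + q ^ 2) * B ≤ (q - 1) * A * kIdx F * (q ^ 2 - 1) * B := Nat.mul_le_mul_right _ hkey
      _ = _ := by ring
  have hq2 : q ^ 2 - 1 = p * (p + 2) := by
    rw [hp, show (p + 1) ^ 2 = p * (p + 2) + 1 by ring]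
    omega
  rw [hq2, show q - 1 = p by omega]
  have hp3 : 3 ≤ p := by omega
  rcases Nat.mod_two_eq_zero_or_one q with hev | hodd
  · have hA2 : p ≤ A := by
      have := hA' hev
      omega
    have hk : kIdx F = p + 1 := by
      unfold kIdx
      rw [if_neg (by omega), ← hp]
    rw [hk, hp]
    calc (p + 1) ^ 4 + (p + 1) ^ 2 ≤ p * p * (p + 1) * (p * (p + 2)) := by
          nlinarith [Nat.mul_le_mul (Nat.mul_le_mul hp3 hp3) hp3]
      _ ≤ p * A * (p + 1) * (p * (p + 2)) := by gcongr
  · by_cases h5 : 7 ≤ q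
    · have hk : 2 * kIdx F = p + 2 := by
        unfold kIdx
        rw [if_pos ⟨hodd, h5⟩]
        omega
      rw [hp]
      have hp6 : 6 ≤ p := by omega
      refine Nat.le_of_mul_le_mul_left ?_ (show 0 < 4 by norm_num)
      calc 4 * ((p + 1) ^ 4 + (p + 1) ^ 2) ≤ p * p * (p + 2) * (p * (p + 2)) := by
            obtain ⟨r, rfl⟩ : ∃ r, p = r + 6 := ⟨p - 6, by omega⟩
            ring_nf
            nlinarith [Nat.zero_le (r ^ 5), Nat.zero_le (r ^ 4), Nat.zero_le (r ^ 3), Nat.zero_le (r ^ 2)]
        _ ≤ p * (2 * A) * (2 * kIdx F) * (p * (p + 2)) := by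
            rw [hk]
            gcongr
            omega
        _ = 4 * (p * A * kIdx F * (p * (p + 2))) := by ring
    · have hp4 : p = 4 := by omega
      have hk : kIdx F = 5 := by
        unfold kIdx
        rw [if_neg (by omega)]
        omega
      have hA2 : 2 ≤ A := by omega
      rw [hp, hp4, hk]
      calc (4 + 1) ^ 4 + (4 + 1) ^ 2 ≤ 4 * 2 * 5 * (4 * (4 + 2)) := by norm_num
        _ ≤ _ := by gcongr

omit h4 in
/-- The stabiliser of a singular point has large index. -/
theorem bound_of_point {p : V} (hp0 : p ≠ 0) (hp : Q p = 0) (h : ∀ g ∈ K, g.1.1 p ∈ F ∙ p) :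
    level Q 0 - 1 ≤ (Nat.card F - 1) * K.index := by
  classical
  have h5 : 5 ≤ Module.finrank F V := by omega
  haveI : Finite V := Module.finite_of_finite F
  haveI := finite_orthGroup (Q := Q)
  have key : ∀ L : Subgroup (Om Q),
      Nat.card L = Nat.card ((fun g : Om Q => g.1.1 p) '' (L : Set (Om Q))) *
        Nat.card (L ⊓ stab Q p : Subgroup (Om Q)) := fun L =>
    H48.card_eq_image_mul_stab L (L ⊓ stab Q p) (fun g => g.1.1 p) inf_le_left fun g hg k hk => by
      rw [Subgroup.mem_inf, mem_stab]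
      refine ⟨fun e => ⟨mul_mem (inv_mem hg) hk, ?_⟩, fun ⟨_, e⟩ => ?_⟩
      · show (g.1⁻¹ * k.1).1 p = p
        rw [orth_mul_apply, ← e, orth_inv_apply_self]
      · have e' := congrArg g.1.1 e
        show g.1.1 p = k.1.1 p
        rw [← e']
        show g.1.1 ((g.1⁻¹ * k.1).1 p) = k.1.1 p
        rw [orth_mul_apply, orth_apply_inv_self]
  have h1 := key ⊤
  rw [Subgroup.card_top, top_inf_eq] at h1
  have h2 := key K
  have hG : level Q 0 - 1 ≤
      Nat.card ((fun g : Om Q => g.1.1 p) '' ((⊤ : Subgroup (Om Q)) : Set (Om Q))) := by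
    have e : ({v : V | Q v = 0} \ {0}).ncard = level Q 0 - 1 := by
      rw [Set.ncard_sdiff_singleton_of_mem (show (0 : V) ∈ {v : V | Q v = 0} from QuadraticMap.map_zero Q),
        ← Nat.card_coe_set_eq]
      rfl
    rw [← e, Nat.card_coe_set_eq]
    refine Set.ncard_le_ncard ?_ (Set.toFinite _)
    rintro v ⟨hv, hv0⟩
    obtain ⟨l, hl⟩ := om_transitive hQ h5 hp0 hp hv0 hv
    exact ⟨l, trivial, hl⟩
  have hKo : Nat.card ((fun g : Om Q => g.1.1 p) '' (K : Set (Om Q))) ≤ Nat.card F - 1 := by
    have e : (((F ∙ p : Submodule F V) : Set V) \ {0}).ncard = Nat.card F - 1 := by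
      rw [Set.ncard_sdiff_singleton_of_mem (Submodule.zero_mem _), ← Nat.card_coe_set_eq]
      show Nat.card (F ∙ p : Submodule F V) - 1 = _
      rw [Module.natCard_eq_pow_finrank (K := F) (V := (F ∙ p : Submodule F V)), finrank_span_singleton hp0,
        pow_one]
    rw [← e, Nat.card_coe_set_eq]
    refine Set.ncard_le_ncard ?_ (Set.toFinite _)
    rintro _ ⟨g, hg, rfl⟩
    exact ⟨h g hg, fun e => hp0 (g.1.1.injective ((show g.1.1 p = 0 from e).trans (map_zero _).symm))⟩
  refine Nat.le_of_mul_le_mul_right ?_ (Nat.card_pos (α := (K ⊓ stab Q p : Subgroup (Om Q))))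
  calc (level Q 0 - 1) * Nat.card (K ⊓ stab Q p : Subgroup (Om Q))
      ≤ (level Q 0 - 1) * Nat.card (stab Q p) :=
        Nat.mul_le_mul_left _ (Subgroup.card_le_of_le inf_le_right)
    _ ≤ Nat.card (Om Q) := by rw [h1]; gcongr
    _ = K.index * Nat.card K := K.index_mul_card.symm
    _ ≤ K.index * ((Nat.card F - 1) * Nat.card (K ⊓ stab Q p : Subgroup (Om Q))) := by
        rw [h2]; gcongr
    _ = _ := by ring

/-- Every proper subgroup has index at least the number of singular points. -/
theorem bound (hK : K ≠ ⊤) : level Q 0 - 1 ≤ (Nat.card F - 1) * K.index := by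
  classical
  have h5 : 5 ≤ Module.finrank F V := by omega
  haveI : Finite V := Module.finite_of_finite F
  obtain ⟨ψ, hψ⟩ := exists_primitive (F := F)
  have horb : OrbitBound K → level Q 0 - 1 ≤ (Nat.card F - 1) * K.index := fun ⟨c, y, fr, j, hj, h⟩ =>
    bound_of_orbit hQ h7 h4 fr hj h
  obtain ⟨e1, e2, e3⟩ := pows_split (q := Nat.card F) h5
  obtain ⟨p', hp'⟩ : ∃ p', Nat.card F = p' + 4 := ⟨Nat.card F - 4, by omega⟩
  by_cases hns : ∃ (x y : V) (fr : Frame Q x y (Q.restrict ((polB Q).orthogonal (Submodule.span F {x, y}))))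
      (j : _), j ∈ ann ψ (polB (Q.restrict _)) (Iw fr K) ∧ Q.restrict _ j ≠ 0
  · obtain ⟨x, y, fr, j, hj, hjq⟩ := hns
    rcases local_cases fr K h7 hψ hj hjq with ⟨j', hq', h⟩ | hA | ⟨hI, hroots⟩
    · exact bound_of_orbit hQ h7 h4 fr hq' h
    · have hne : Iw fr K ≠ ⊤ := fun e => hjq (by
        have h0 : j = 0 := fr.nd'.2 j fun v =>
          perp_of_all (v := v) hψ hj fun c => by rw [e]; trivial
        rw [h0, QuadraticMap.map_zero])
      rcases caseA h7 fr hjq hA hne with h | ⟨z, hz, hzK⟩
      · exact horb h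
      · have h1 := index_of_stab_nonsing hQ h5 hz hzK
        have h2 := card_sqrt_one_le (F := F)
        have h3 := level_ge hQ h5 (Q z)
        have h6 : level Q (Q z) ≤ 2 * K.index := by
          refine h1.trans ?_
          rw [mul_comm 2]
          exact Nat.mul_le_mul_left _ h2
        refine (nsing_le_pows hQ h7 h4).trans ?_
        rw [e1, e3] at h3
        have h8 : (Nat.card F ^ 4 - Nat.card F ^ 2) * Nat.card F ^ (Module.finrank F V - 5) ≤ 2 * K.index := by
          rw [Nat.sub_mul]; omega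
        refine Nat.le_of_mul_le_mul_left ?_ (show 0 < 2 by norm_num)
        calc 2 * ((Nat.card F ^ 4 + Nat.card F ^ 2) * Nat.card F ^ (Module.finrank F V - 5))
            ≤ ((Nat.card F - 1) * (Nat.card F ^ 4 - Nat.card F ^ 2)) * Nat.card F ^ (Module.finrank F V - 5) := by
              rw [← mul_assoc]
              refine Nat.mul_le_mul_right _ ?_
              rw [show Nat.card F ^ 4 - Nat.card F ^ 2 = Nat.card F ^ 2 * (Nat.card F ^ 2 - 1) by
                rw [Nat.mul_sub, mul_one, ← pow_add],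
                hp', show p' + 4 - 1 = p' + 3 by omega,
                show (p' + 4) ^ 2 - 1 = p' ^ 2 + 8 * p' + 15 by
                  rw [show (p' + 4) ^ 2 = p' ^ 2 + 8 * p' + 15 + 1 by ring]; omega]
              ring_nf
              nlinarith [Nat.zero_le (p' ^ 5), Nat.zero_le (p' ^ 4), Nat.zero_le (p' ^ 3), Nat.zero_le (p' ^ 2)]
          _ ≤ (Nat.card F - 1) * (2 * K.index) := by rw [mul_assoc]; gcongr
          _ = _ := by ring
    · rcases caseB fr K h7 h4 hI hroots with h | h | ⟨p, hp0, hp, hpK⟩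
      · exact horb h
      · refine (nsing_le_pows hQ h7 h4).trans (le_trans ?_ (Nat.mul_le_mul_left _ h))
        rw [e2, ← mul_assoc, ← mul_assoc]
        refine Nat.mul_le_mul_right _ ?_
        rw [hp', show p' + 4 - 1 = p' + 3 by omega]
        nlinarith [Nat.zero_le (p' ^ 4), Nat.zero_le (p' ^ 3), Nat.zero_le (p' ^ 2)]
      · exact bound_of_point hQ h7 hp0 hp hpK
  · push Not at hns
    have hA : AllSing K := by
      intro x hx0 hx
      obtain ⟨y, ⟨fr⟩⟩ := exists_sing_frame hQ h7 hx0 hx
      haveI := Module.finite_of_finite F (M := ↥((polB Q).orthogonal (Submodule.span F {x, y})))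
      set J := ann ψ (polB (Q.restrict ((polB Q).orthogonal (Submodule.span F {x, y})))) (Iw fr K) with hJ
      have hJ0 : ∀ a ∈ J, Q (fr.j a) = 0 := fun a ha => by rw [fr.form]; exact hns x y fr a ha
      set S : Set V := insert x (fr.j '' (J : Set _))
      have hS : ∀ a ∈ S, Q a = 0 ∧ ∀ b ∈ S, polB Q a b = 0 := by
        rintro a (rfl | ⟨a, ha, rfl⟩)
        · refine ⟨hx, ?_⟩
          rintro b (rfl | ⟨b, hb, rfl⟩)
          · rw [polB_self, hx, mul_zero]
          · exact (fr.orth b).1
        · refine ⟨hJ0 a ha, ?_⟩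
          rintro b (rfl | ⟨b, hb, rfl⟩)
          · exact (fr.orth' a).1
          · have h1 := hJ0 _ (J.add_mem ha hb)
            rw [map_add, qmap_add, hJ0 a ha, hJ0 b hb, zero_add, zero_add] at h1
            exact h1
      have hX : ∀ p ∈ Submodule.span F S, Q p = 0 ∧ ∀ b ∈ S, polB Q p b = 0 := by
        intro p hp
        induction hp using Submodule.span_induction with
        | mem a ha => exact hS a ha
        | zero => exact ⟨QuadraticMap.map_zero Q, fun b _ => by simp⟩
        | add a b _ hbm ha hb =>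
          have hab : polB Q a b = 0 :=
            (Submodule.span_le.2 (fun c hc => ha.2 c hc) : Submodule.span F S ≤ LinearMap.ker (polB Q a)) hbm
          refine ⟨by rw [qmap_add, ha.1, hb.1, hab, add_zero, add_zero], fun c hc => ?_⟩
          rw [map_add, LinearMap.add_apply, ha.2 c hc, hb.2 c hc, add_zero]
        | smul r a _ ha =>
          exact ⟨by rw [qmap_smul, ha.1, mul_zero], fun c hc => by
            rw [map_smul, LinearMap.smul_apply, ha.2 c hc, smul_zero]⟩
      refine ⟨Submodule.span F S, Submodule.subset_span (Set.mem_insert _ _), fun p hp => (hX p hp).1,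
        fun v hv => ?_⟩
      have hxv : polB Q x v = 0 := hv x (Submodule.subset_span (Set.mem_insert _ _))
      rw [el_eq_E h5 fr hxv, ← mem_Iw fr K h5,
        ← ann_ann hψ fr.nd' (fun a b => polB_comm a b) (Iw fr K)]
      intro a ha
      have : polB (Q.restrict ((polB Q).orthogonal (Submodule.span F {x, y}))) a (fr.P v) = 0 := by
        rw [polB_comm, ← fr.b_P, polB_comm]
        exact hv _ (Submodule.subset_span (Set.mem_insert_of_mem _ ⟨a, ha, rfl⟩))
      rw [this, AddChar.map_zero_eq_one]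
    obtain ⟨x, hx0, hx, hnf⟩ : ∃ x : V, x ≠ 0 ∧ Q x = 0 ∧ ¬ FullAt K x := by
      by_contra hcon
      push Not at hcon
      apply hK
      rw [eq_top_iff]
      intro g _
      refine (Subgroup.closure_le _).2 ?_ (closure_el hQ h5 g)
      rintro _ ⟨u, v, hu, -, huv, rfl⟩
      rcases eq_or_ne u 0 with rfl | hu0
      · have : el Q (0 : V) v = 1 := by
          apply Subtype.ext
          rw [coe_el hQ h5 hu huv]
          apply orth_ext
          intro z
          rw [eichler_apply hu huv]
          simp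
        rw [this]
        exact K.one_mem
      · exact hcon u hu0 hu v huv
    exact caseT hQ h7 hA h4 hx0 hx hnf

omit h4 in
/-- The stabiliser of a singular point attains the bound. -/
theorem index_PS {x : V} (hx0 : x ≠ 0) (hx : Q x = 0) :
    (Nat.card F - 1) * (PS Q x).index = level Q 0 - 1 := by
  classical
  have h5 : 5 ≤ Module.finrank F V := by omega
  haveI : Finite V := Module.finite_of_finite F
  haveI := finite_orthGroup (Q := Q)
  refine le_antisymm ?_ (bound_of_point hQ h7 hx0 hx (K := PS Q x) fun g hg => hg)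
  have key : ∀ L : Subgroup (Om Q), stab Q x ≤ L →
      Nat.card L = Nat.card ((fun g : Om Q => g.1.1 x) '' (L : Set (Om Q))) * Nat.card (stab Q x) :=
    fun L hL => H48.card_eq_image_mul_stab L (stab Q x) (fun g => g.1.1 x) hL fun g hg k hk => by
      rw [mem_stab]
      refine ⟨fun e => ?_, fun e => ?_⟩
      · show (g.1⁻¹ * k.1).1 x = x
        rw [orth_mul_apply, ← e, orth_inv_apply_self]
      · have e' := congrArg g.1.1 e
        show g.1.1 x = k.1.1 x
        rw [← e']
        show g.1.1 ((g.1⁻¹ * k.1).1 x) = k.1.1 x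
        rw [orth_mul_apply, orth_apply_inv_self]
  have h1 := key ⊤ le_top
  rw [Subgroup.card_top] at h1
  have h2 := key (PS Q x) (stab_le_PS x)
  have hG : Nat.card ((fun g : Om Q => g.1.1 x) '' ((⊤ : Subgroup (Om Q)) : Set (Om Q))) ≤
      level Q 0 - 1 := by
    have e : ({v : V | Q v = 0} \ {0}).ncard = level Q 0 - 1 := by
      rw [Set.ncard_sdiff_singleton_of_mem (show (0 : V) ∈ {v : V | Q v = 0} from QuadraticMap.map_zero Q),
        ← Nat.card_coe_set_eq]
      rfl
    rw [← e, Nat.card_coe_set_eq]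
    refine Set.ncard_le_ncard ?_ (Set.toFinite _)
    rintro _ ⟨g, -, rfl⟩
    exact ⟨show Q (g.1.1 x) = 0 by rw [orth_qmap, hx],
      fun e => hx0 (g.1.1.injective ((show g.1.1 x = 0 from e).trans (map_zero _).symm))⟩
  have hP : Nat.card F - 1 ≤ Nat.card ((fun g : Om Q => g.1.1 x) '' (PS Q x : Set (Om Q))) := by
    have e : (((F ∙ x : Submodule F V) : Set V) \ {0}).ncard = Nat.card F - 1 := by
      rw [Set.ncard_sdiff_singleton_of_mem (Submodule.zero_mem _), ← Nat.card_coe_set_eq]
      show Nat.card (F ∙ x : Submodule F V) - 1 = _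
      rw [Module.natCard_eq_pow_finrank (K := F) (V := (F ∙ x : Submodule F V)), finrank_span_singleton hx0,
        pow_one]
    rw [← e, Nat.card_coe_set_eq]
    refine Set.ncard_le_ncard ?_ (Set.toFinite _)
    rintro v ⟨hv, hv0⟩
    obtain ⟨t, rfl⟩ := Submodule.mem_span_singleton.1 hv
    obtain ⟨l, hl⟩ := om_transitive hQ h5 hx0 hx hv0 (by rw [qmap_smul, hx, mul_zero])
    exact ⟨l, by show l.1.1 x ∈ F ∙ x; rw [hl]; exact hv, hl⟩
  refine Nat.le_of_mul_le_mul_right ?_ (Nat.card_pos (α := stab Q x))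
  calc (Nat.card F - 1) * (PS Q x).index * Nat.card (stab Q x)
      = (PS Q x).index * ((Nat.card F - 1) * Nat.card (stab Q x)) := by ring
    _ ≤ (PS Q x).index * Nat.card (PS Q x) := by rw [h2]; gcongr
    _ = Nat.card (Om Q) := (PS Q x).index_mul_card
    _ ≤ _ := by rw [h1]; gcongr

end

section transfer

variable {ι : Type} [Fintype ι] [DecidableEq ι] {Q₀ : QuadraticForm F (ι → F)}

/-- The index statement for `PΩ`. -/
theorem pomega_min_index (hQ : (polB Q₀).Nondegenerate) (h7 : 7 ≤ Fintype.card ι) (h4 : 4 ≤ Nat.card F)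
    {N : ℕ} (hN : level Q₀ 0 - 1 = N) :
    (∀ H : Subgroup (Cfsg.POmega F ⇑Q₀), H ≠ ⊤ → N / (Nat.card F - 1) ≤ H.index) ∧
      ∃ H : Subgroup (Cfsg.POmega F ⇑Q₀), H.index = N / (Nat.card F - 1) := by
  classical
  have hd : 7 ≤ Module.finrank F (ι → F) := by simpa using h7
  let Z := Subgroup.center (Cfsg.Omega F ⇑Q₀)
  let π : Cfsg.Omega F ⇑Q₀ →* Cfsg.POmega F ⇑Q₀ := QuotientGroup.mk' Z
  have hπ : Function.Surjective π := QuotientGroup.mk'_surjective Z
  let e := omegaEquiv Q₀
  refine ⟨fun H hH => ?_, ?_⟩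
  · set K : Subgroup (Om Q₀) := (H.comap π).map e.toMonoidHom
    have hidx : K.index = H.index := by
      rw [show K = (H.comap π).map (e : Cfsg.Omega F ⇑Q₀ →* Om Q₀) from rfl, Subgroup.index_map_equiv,
        Subgroup.index_comap_of_surjective H hπ]
    have hK : K ≠ ⊤ := fun h => hH (Subgroup.index_eq_one.1 (by rw [← hidx, h, Subgroup.index_top]))
    rw [← hidx, ← hN]
    exact Nat.div_le_of_le_mul (bound hQ hd h4 hK)
  · obtain ⟨x, y, ⟨fr⟩⟩ := exists_any_frame hQ (by omega)
    have hx0 := fr.pair.left_ne_zero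
    set S : Subgroup (Cfsg.Omega F ⇑Q₀) := (PS Q₀ x).comap e.toMonoidHom
    have hZS : Z ≤ S := by
      intro g hg
      have hg' : e g ∈ Subgroup.center (commutator (orthGroup Q₀)) := by
        rw [← omega_center_map]
        exact ⟨g, hg, rfl⟩
      show e g ∈ PS Q₀ x
      rw [mem_PS]
      rcases center_scalar hQ (by omega) _ hg' with h | h
      · rw [show (e g).1 = 1 from h, orth_one_apply]
        exact Submodule.mem_span_singleton_self x
      · rw [show (e g).1 = negOrth Q₀ from h, negOrth_apply]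
        exact Submodule.neg_mem _ (Submodule.mem_span_singleton_self x)
    refine ⟨S.map π, ?_⟩
    rw [Subgroup.index_map_eq _ hπ (by rwa [QuotientGroup.ker_mk']),
      Subgroup.index_comap_of_surjective _ e.surjective, ← hN,
      ← index_PS hQ hd hx0 fr.qx, Nat.mul_div_cancel_left _ (show 0 < Nat.card F - 1 by omega)]

end transfer

end H48.OrIdx
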