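import Cfsg.Agent.H48.OrIdx.Zeros
import Cfsg.Agent.H48.OrIdx.Duality
import Cfsg.Agent.H48.OrIdx.Kernel
import Cfsg.Agent.H48.Count
import Cfsg.Agent.H45.OmegaTools

/-!
# A subgroup and the stabiliser of a singular point
-/

set_option autoImplicit false
set_option linter.unusedSectionVars false

namespace H48.OrIdx

open H43 H50.Or

universe u w w'

variable {F : Type u} [Field F] {V : Type w} [AddCommGroup V] [Module F V] [FiniteDimensional F V]
  {Q : QuadraticForm F V}

/-- The stabiliser of the line of a vector. -/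
def PS (Q : QuadraticForm F V) (x : V) : Subgroup (Om Q) where
  carrier := {g | g.1.1 x ∈ Submodule.span F {x}}
  mul_mem' {a b} ha hb := by
    obtain ⟨s, hs⟩ := Submodule.mem_span_singleton.1 ha
    obtain ⟨t, ht⟩ := Submodule.mem_span_singleton.1 hb
    show (a.1 * b.1).1 x ∈ Submodule.span F {x}
    rw [orth_mul_apply, ← ht, map_smul, ← hs]
    exact Submodule.smul_mem _ _ (Submodule.smul_mem _ _ (Submodule.mem_span_singleton_self x))
  one_mem' := Submodule.mem_span_singleton_self x
  inv_mem' {a} ha := by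
    obtain ⟨s, hs⟩ := Submodule.mem_span_singleton.1 ha
    have h : (a.1⁻¹).1 (s • x) = x := by rw [hs, orth_inv_apply_self]
    rw [map_smul] at h
    show (a.1⁻¹).1 x ∈ Submodule.span F {x}
    rcases eq_or_ne s 0 with rfl | hs0
    · rw [zero_smul] at h
      rw [← h, map_zero]
      exact Submodule.zero_mem _
    · have h' : (a.1⁻¹).1 x = s⁻¹ • x := by
        conv_rhs => rw [← h]
        rw [smul_smul, inv_mul_cancel₀ hs0, one_smul]
      rw [h']
      exact Submodule.smul_mem _ _ (Submodule.mem_span_singleton_self x)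

theorem mem_PS {x : V} {g : Om Q} : g ∈ PS Q x ↔ g.1.1 x ∈ Submodule.span F {x} := Iff.rfl

theorem stab_le_PS (x : V) : stab Q x ≤ PS Q x := fun g hg => by
  rw [mem_PS, mem_stab.1 hg]
  exact Submodule.mem_span_singleton_self x

/-- The scalar by which an element acts on `x`. -/
def lam (Q : QuadraticForm F V) (x y : V) (g : Om Q) : F := polB Q (g.1.1 x) y

variable {W : Type w'} [AddCommGroup W] [Module F W] {Q' : QuadraticForm F W} {x y : V}
  (fr : Frame Q x y Q')

section basic

include fr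

theorem apply_x {g : Om Q} (hg : g ∈ PS Q x) : g.1.1 x = lam Q x y g • x := by
  obtain ⟨s, hs⟩ := Submodule.mem_span_singleton.1 hg
  rw [lam, ← hs, map_smul, LinearMap.smul_apply, fr.pair.pair, smul_eq_mul, mul_one]

theorem lam_ne_zero {g : Om Q} (hg : g ∈ PS Q x) : lam Q x y g ≠ 0 := fun h => by
  have h1 := apply_x fr hg
  rw [h, zero_smul] at h1
  exact fr.pair.left_ne_zero (g.1.1.injective (h1.trans (map_zero _).symm))

theorem lam_mul {g h : Om Q} (hg : g ∈ PS Q x) (hh : h ∈ PS Q x) :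
    lam Q x y (g * h) = lam Q x y g * lam Q x y h := by
  have h1 : (g * h).1.1 x = (lam Q x y g * lam Q x y h) • x := by
    show (g.1 * h.1).1 x = _
    rw [orth_mul_apply, apply_x fr hh, map_smul, apply_x fr hg, smul_smul, mul_comm]
  conv_lhs => rw [lam, h1]
  rw [map_smul, LinearMap.smul_apply, fr.pair.pair, smul_eq_mul, mul_one]

theorem lam_of_fix {g : Om Q} (hg : g.1.1 x = x) : lam Q x y g = 1 := by
  rw [lam, hg, fr.pair.pair]

theorem lam_inv {g : Om Q} (hg : g ∈ PS Q x) : lam Q x y g⁻¹ = (lam Q x y g)⁻¹ := by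
  refine eq_inv_of_mul_eq_one_left ?_
  rw [← lam_mul fr (inv_mem hg) hg, inv_mul_cancel]
  exact lam_of_fix fr rfl

theorem perp_of_PS {g : Om Q} (hg : g ∈ PS Q x) {v : V} (hv : polB Q x v = 0) :
    polB Q x (g.1.1 v) = 0 := by
  have h := orth_polB_map g.1 x v
  rw [apply_x fr hg, map_smul, LinearMap.smul_apply, hv, smul_eq_mul, mul_eq_zero] at h
  exact h.resolve_left (lam_ne_zero fr hg)

omit fr in
theorem eichler_smul_pair {x w : V} (hx : Q x = 0) (hxw : polB Q x w = 0) {c : F} (hc : c ≠ 0) :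
    eichler Q (c • x) w = eichler Q x (c • w) := by
  have h := eichler_smul_left (Q := Q) (u := x) (w := c • w) hx (by rw [map_smul, hxw, smul_zero]) hc
  rwa [smul_smul, inv_mul_cancel₀ hc, one_smul] at h

/-- The coordinates of a vector orthogonal to `x`. -/
theorem j_P_perp {v : V} (hv : polB Q x v = 0) : fr.j (fr.P v) = v - polB Q v y • x := by
  rw [fr.j_P, polB_comm v x, hv, zero_smul, sub_zero]

theorem P_form {v v' : V} (hv : polB Q x v = 0) (hv' : polB Q x v' = 0) :
    polB Q' (fr.P v) (fr.P v') = polB Q v v' := by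
  rw [← fr.bform, j_P_perp fr hv, j_P_perp fr hv']
  simp [hv', polB_comm v x, hv, polB_self, fr.pair.left]

theorem P_qmap {v : V} (hv : polB Q x v = 0) : Q' (fr.P v) = Q v := by
  rw [← fr.form, j_P_perp fr hv, qmap_sub, qmap_smul, fr.pair.left, map_smul, polB_comm v x, hv]
  simp

end basic

/-- The action on the complement, twisted by the scalar. -/
noncomputable def act (g : Om Q) (a : W) : W := (lam Q x y g)⁻¹ • fr.P (g.1.1 (fr.j a))

theorem act_smul (g : Om Q) (c : F) (a : W) : act fr g (c • a) = c • act fr g a := by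
  rw [act, act, map_smul, map_smul, map_smul, smul_comm]

theorem act_mul {g h : Om Q} (hg : g ∈ PS Q x) (hh : h ∈ PS Q x) (a : W) :
    act fr (g * h) a = act fr g (act fr h a) := by
  have hp := perp_of_PS fr hh (fr.orth a).1
  have h1 : fr.P (g.1.1 (fr.j (fr.P (h.1.1 (fr.j a))))) = fr.P (g.1.1 (h.1.1 (fr.j a))) := by
    rw [j_P_perp fr hp, map_sub, map_smul, apply_x fr hg, map_sub, map_smul, map_smul, fr.P_x,
      smul_zero, smul_zero, sub_zero]
  conv_rhs => rw [act, act, map_smul, map_smul, map_smul, h1, smul_smul, ← mul_inv]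
  rw [act, lam_mul fr hg hh]
  rfl

theorem act_of_fix {g : Om Q} (hx : g.1.1 x = x) (a : W) : act fr g a = fr.P (g.1.1 (fr.j a)) := by
  rw [act, lam_of_fix fr hx, inv_one, one_smul]

theorem act_one (a : W) : act fr (1 : Om Q) a = a := by
  rw [act_of_fix fr rfl]
  exact fr.P_j a

theorem act_injective {g : Om Q} (hg : g ∈ PS Q x) : Function.Injective (act fr g) := by
  intro a b h
  have := congrArg (act fr g⁻¹) h
  rwa [← act_mul fr (inv_mem hg) hg, ← act_mul fr (inv_mem hg) hg, inv_mul_cancel, act_one,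
    act_one] at this

theorem act_qmap {g : Om Q} (hg : g ∈ PS Q x) (a : W) :
    Q' (act fr g a) = (lam Q x y g)⁻¹ * (lam Q x y g)⁻¹ * Q' a := by
  rw [act, qmap_smul, P_qmap fr (perp_of_PS fr hg (fr.orth a).1), orth_qmap, fr.form]

/-- The stabiliser of the class of a vector. -/
noncomputable def clsStab (j : W) : Subgroup (Om Q) where
  carrier := {g | g ∈ PS Q x ∧ act fr g j = j}
  mul_mem' {a b} ha hb := ⟨mul_mem ha.1 hb.1, by rw [act_mul fr ha.1 hb.1, hb.2, ha.2]⟩
  one_mem' := ⟨one_mem _, act_one fr j⟩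
  inv_mem' {a} ha := ⟨inv_mem ha.1, by
    conv_lhs => rw [← ha.2]
    rw [← act_mul fr (inv_mem ha.1) ha.1, inv_mul_cancel, act_one]⟩

theorem mem_clsStab {j : W} {g : Om Q} : g ∈ clsStab fr j ↔ g ∈ PS Q x ∧ act fr g j = j := Iff.rfl

/-- The orbit of the class of a vector. -/
noncomputable def clsOrbit (j : W) : Set W := (fun g => act fr g j) '' (PS Q x : Set (Om Q))

theorem card_PS_eq (j : W) :
    Nat.card (PS Q x) = Nat.card (clsOrbit fr j) * Nat.card (clsStab fr j) :=
  H48.card_eq_image_mul_stab (PS Q x) (clsStab fr j) (fun g => act fr g j) (fun _ h => h.1)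
    fun g hg h hh => by
      rw [mem_clsStab, act_mul fr (inv_mem hg) hh]
      refine ⟨fun e => ⟨mul_mem (inv_mem hg) hh, ?_⟩, fun ⟨_, e⟩ => ?_⟩
      · rw [← e, ← act_mul fr (inv_mem hg) hg, inv_mul_cancel, act_one]
      · apply act_injective fr (inv_mem hg)
        rw [e, ← act_mul fr (inv_mem hg) hg, inv_mul_cancel, act_one]

variable (K : Subgroup (Om Q))

/-- The image of a subgroup in the radical. -/
noncomputable def Iw : AddSubgroup W := AddSubgroup.closure {a | el Q x (fr.j a) ∈ K}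

/-- The elements which some radical element moves into the subgroup. -/
noncomputable def Lft : Subgroup (Om Q) :=
  Subgroup.closure {g | g ∈ PS Q x ∧ ∃ a, el Q x (fr.j a) * g ∈ K}

variable [Finite F] (h5 : 5 ≤ Module.finrank F V)

section withh5

include h5

theorem el_E (a : W) : (el Q x (fr.j a)).1 = fr.E a := coe_el fr.nd h5 fr.qx (fr.orth a).1

theorem el_apply_x (a : W) : (el Q x (fr.j a)).1.1 x = x := by rw [el_E fr h5, fr.E_x]

theorem el_mem_PS (a : W) : el Q x (fr.j a) ∈ PS Q x :=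
  stab_le_PS x (mem_stab.2 (el_apply_x fr h5 a))

theorem el_add (a b : W) :
    el Q x (fr.j a) * el Q x (fr.j b) = el Q x (fr.j (a + b)) := by
  rw [el_mul fr.nd h5 fr.qx (fr.orth a).1 (fr.orth b).1, map_add]

theorem el_zero' : el Q x (fr.j 0) = 1 := by rw [map_zero, el_zero fr.nd h5 fr.qx]

theorem el_neg (a : W) : (el Q x (fr.j a))⁻¹ = el Q x (fr.j (-a)) :=
  inv_eq_of_mul_eq_one_right (by rw [el_add fr h5, add_neg_cancel, el_zero' fr h5])

theorem el_injective {a b : W} (h : el Q x (fr.j a) = el Q x (fr.j b)) : a = b :=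
  fr.E_inj (by rw [← el_E fr h5, ← el_E fr h5, h])

/-- Conjugation of the radical. -/
theorem conj_el {g : Om Q} (hg : g ∈ PS Q x) (a : W) :
    g * el Q x (fr.j a) * g⁻¹ = el Q x (fr.j (lam Q x y g • fr.P (g.1.1 (fr.j a)))) := by
  have hp := perp_of_PS fr hg (fr.orth a).1
  apply Subtype.ext
  show g.1 * (el Q x (fr.j a)).1 * g.1⁻¹ = _
  rw [el_E fr h5, el_E fr h5, Frame.E, eichler_conj _ fr.qx (fr.orth a).1, apply_x fr hg,
    eichler_smul_pair fr.qx hp (lam_ne_zero fr hg),
    fr.eichler_eq_E (by rw [map_smul, hp, smul_zero]), map_smul]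

theorem act_el (a b : W) : act fr (el Q x (fr.j a)) b = b := by
  rw [act_of_fix fr (el_apply_x fr h5 a), el_E fr h5, fr.E_j, map_sub, map_smul, fr.P_x, fr.P_j,
    smul_zero, sub_zero]

theorem mem_Iw {a : W} : a ∈ Iw fr K ↔ el Q x (fr.j a) ∈ K := by
  refine ⟨fun h => ?_, fun h => AddSubgroup.subset_closure h⟩
  induction h using AddSubgroup.closure_induction with
  | mem a h => exact h
  | zero => rw [el_zero' fr h5]; exact K.one_mem
  | add a b _ _ ha hb => rw [← el_add fr h5]; exact K.mul_mem ha hb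
  | neg a _ ha => rw [← el_neg fr h5]; exact K.inv_mem ha

theorem mem_Lft {g : Om Q} :
    g ∈ Lft fr K ↔ g ∈ PS Q x ∧ ∃ a, el Q x (fr.j a) * g ∈ K := by
  refine ⟨fun h => ?_, fun h => Subgroup.subset_closure h⟩
  induction h using Subgroup.closure_induction with
  | mem g h => exact h
  | one => exact ⟨one_mem _, 0, by rw [el_zero' fr h5, one_mul]; exact K.one_mem⟩
  | mul g g' _ _ hg hg' =>
    obtain ⟨hg, a, ha⟩ := hg
    obtain ⟨hg', b, hb⟩ := hg'
    refine ⟨mul_mem hg hg', a + lam Q x y g • fr.P (g.1.1 (fr.j b)), ?_⟩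
    rw [← el_add fr h5, ← conj_el fr h5 hg]
    convert K.mul_mem ha hb using 1
    group
  | inv g _ hg =>
    obtain ⟨hg, a, ha⟩ := hg
    refine ⟨inv_mem hg, lam Q x y g⁻¹ • fr.P ((g⁻¹).1.1 (fr.j (-a))), ?_⟩
    rw [← conj_el fr h5 (inv_mem hg), ← el_neg fr h5]
    convert K.inv_mem ha using 1
    group

theorem el_mem_Lft (a : W) : el Q x (fr.j a) ∈ Lft fr K :=
  (mem_Lft fr K h5).2 ⟨el_mem_PS fr h5 a, -a, by
    rw [el_add fr h5, neg_add_cancel, el_zero' fr h5]; exact K.one_mem⟩

theorem mem_Lft_of_mem {g : Om Q} (hg : g ∈ K) (hgx : g ∈ PS Q x) : g ∈ Lft fr K :=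
  (mem_Lft fr K h5).2 ⟨hgx, 0, by rwa [el_zero' fr h5, one_mul]⟩

theorem Lft_smul_Iw {g : Om Q} (hg : g ∈ Lft fr K) {a : W} (ha : a ∈ Iw fr K) :
    lam Q x y g • fr.P (g.1.1 (fr.j a)) ∈ Iw fr K := by
  obtain ⟨hg, b, hb⟩ := (mem_Lft fr K h5).1 hg
  rw [mem_Iw fr K h5] at ha ⊢
  have := K.mul_mem (K.mul_mem hb ha) (K.inv_mem hb)
  rw [← conj_el fr h5 hg]
  convert this using 1
  have hc : ∀ u v : W, el Q x (fr.j u) * el Q x (fr.j v) * (el Q x (fr.j u))⁻¹ = el Q x (fr.j v) := by
    intro u v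
    rw [el_add fr h5, el_neg fr h5, el_add fr h5, add_neg_cancel_comm]
  have e := hc b (lam Q x y g • fr.P (g.1.1 (fr.j a)))
  rw [← conj_el fr h5 hg] at e
  conv_lhs => rw [← e]
  group

variable {ψ : AddChar F ℂ}

theorem act_ann {g : Om Q} (hg : g ∈ Lft fr K) {j : W} (hj : j ∈ ann ψ (polB Q') (Iw fr K)) :
    act fr g j ∈ ann ψ (polB Q') (Iw fr K) := by
  intro i hi
  have hgP := ((mem_Lft fr K h5).1 hg).1
  have h1 := hj _ (Lft_smul_Iw fr K h5 (inv_mem hg) hi)
  rw [lam_inv fr hgP] at h1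
  convert h1 using 2
  rw [act, map_smul, map_smul, LinearMap.smul_apply, ← fr.b_P, ← fr.bform,
    j_P_perp fr (perp_of_PS fr hgP (fr.orth j).1)]
  congr 1
  rw [map_sub, map_smul, (fr.orth' i).1, smul_zero, sub_zero, ← orth_polB_map (g⁻¹).1,
    show (g⁻¹).1.1 (g.1.1 (fr.j j)) = fr.j j from orth_inv_apply_self g.1 _]

variable [FiniteDimensional F W]

theorem card_lift_mul_le {S : Subgroup (Om Q)} (hSP : S ≤ PS Q x)
    (hS : ∀ a, el Q x (fr.j a) ∈ S) :
    Nat.card (K ⊓ S : Subgroup (Om Q)) * Nat.card (W ⧸ Iw fr K) ≤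
      Nat.card (Lft fr K ⊓ S : Subgroup (Om Q)) := by
  haveI : Finite V := Module.finite_of_finite F
  haveI := finite_orthGroup (Q := Q)
  haveI : Finite W := Module.finite_of_finite F
  let f : (K ⊓ S : Subgroup (Om Q)) × (W ⧸ Iw fr K) → (Lft fr K ⊓ S : Subgroup (Om Q)) := fun p =>
    ⟨p.1.1 * el Q x (fr.j p.2.out),
      mul_mem (mem_Lft_of_mem fr K h5 p.1.2.1 (hSP p.1.2.2)) (el_mem_Lft fr K h5 _),
      mul_mem p.1.2.2 (hS _)⟩
  rw [← Nat.card_prod]
  refine Nat.card_le_card_of_injective f ?_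
  rintro ⟨k, r⟩ ⟨k', r'⟩ h
  have h' : k.1 * el Q x (fr.j r.out) = k'.1 * el Q x (fr.j r'.out) := congrArg Subtype.val h
  have h1 : el Q x (fr.j (r.out - r'.out)) = k.1⁻¹ * k'.1 := by
    rw [sub_eq_add_neg, ← el_add fr h5, ← el_neg fr h5, mul_inv_eq_iff_eq_mul, mul_assoc, ← h',
      inv_mul_cancel_left]
  have hr : r = r' := by
    rw [← QuotientAddGroup.out_eq' r, ← QuotientAddGroup.out_eq' r', QuotientAddGroup.eq,
      ← AddSubgroup.neg_mem_iff, neg_add, neg_neg, ← sub_eq_add_neg, mem_Iw fr K h5, h1]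
    exact K.mul_mem (K.inv_mem k.2.1) k'.2.1
  subst hr
  exact Prod.ext (Subtype.ext (mul_right_cancel h')) rfl

/-- The main inequality. -/
theorem index_ge (hψ : ψ.IsPrimitive) {j : W} (hj : j ∈ ann ψ (polB Q') (Iw fr K)) (hj0 : j ≠ 0) :
    Nat.card (clsOrbit fr j) * (Lft fr K).relIndex (clsStab fr j) ≤ K.index := by
  classical
  haveI : Finite V := Module.finite_of_finite F
  haveI := finite_orthGroup (Q := Q)
  haveI : Finite W := Module.finite_of_finite F
  haveI := fr.finite_dim
  set J := ann ψ (polB Q') (Iw fr K) with hJ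
  set S := clsStab fr j with hS
  have hdual := card_ann_mul hψ fr.nd' (Iw fr K)
  rw [(Iw fr K).card_eq_card_quotient_mul_card_addSubgroup] at hdual
  have hquot : Nat.card (W ⧸ Iw fr K) = Nat.card J := (Nat.eq_of_mul_eq_mul_right Nat.card_pos hdual).symm
  have h1 := card_lift_mul_le fr K h5 (S := S) (fun g hg => hg.1)
    (fun a => ⟨el_mem_PS fr h5 a, act_el fr h5 a j⟩)
  rw [hquot] at h1
  have h2 : Nat.card (K ⊓ PS Q x : Subgroup (Om Q)) ≤
      (Nat.card J - 1) * Nat.card (K ⊓ S : Subgroup (Om Q)) := by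
    rw [H48.card_eq_image_mul_stab (K ⊓ PS Q x) (K ⊓ S) (fun g => act fr g j)
      (inf_le_inf_left _ fun g hg => hg.1) (fun g hg h hh => by
        rw [Subgroup.mem_inf, hS, mem_clsStab, act_mul fr (inv_mem hg.2) hh.2]
        refine ⟨fun e => ⟨mul_mem (inv_mem hg.1) hh.1, mul_mem (inv_mem hg.2) hh.2, ?_⟩,
          fun ⟨_, _, e⟩ => ?_⟩
        · rw [← e, ← act_mul fr (inv_mem hg.2) hg.2, inv_mul_cancel, act_one]
        · apply act_injective fr (inv_mem hg.2)
          rw [e, ← act_mul fr (inv_mem hg.2) hg.2, inv_mul_cancel, act_one])]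
    refine Nat.mul_le_mul_right _ ?_
    have e : Nat.card ((J : Set W) \ {0} : Set W) = Nat.card J - 1 := by
      rw [Nat.card_coe_set_eq, Set.ncard_sdiff_singleton_of_mem J.zero_mem]
      rfl
    rw [← e]
    refine Nat.card_mono (Set.toFinite _) ?_
    rintro _ ⟨g, hg, rfl⟩
    refine ⟨act_ann fr K h5 (mem_Lft_of_mem fr K h5 hg.1 hg.2) hj, fun h0 => hj0 ?_⟩
    apply act_injective fr hg.2
    rw [show act fr g j = 0 from h0, act, map_zero, map_zero, map_zero, smul_zero]
  have hrel : (Lft fr K).relIndex S * Nat.card (Lft fr K ⊓ S : Subgroup (Om Q)) = Nat.card S := by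
    rw [← ((Lft fr K).subgroupOf S).index_mul_card, Subgroup.relIndex]
    congr 1
    exact Nat.card_congr
      { toFun := fun g => ⟨⟨g.1, g.2.2⟩, g.2.1⟩
        invFun := fun g => ⟨g.1.1, g.2, g.1.2⟩
        left_inv := fun g => rfl
        right_inv := fun g => rfl }
  have hrelK : Nat.card (PS Q x) ≤ K.index * Nat.card (K ⊓ PS Q x : Subgroup (Om Q)) := by
    have e : Nat.card (K.subgroupOf (PS Q x)) = Nat.card (K ⊓ PS Q x : Subgroup (Om Q)) :=
      Nat.card_congr
        { toFun := fun g => ⟨g.1.1, g.2, g.1.2⟩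
          invFun := fun g => ⟨⟨g.1, g.2.2⟩, g.2.1⟩
          left_inv := fun g => rfl
          right_inv := fun g => rfl }
    rw [← (K.subgroupOf (PS Q x)).index_mul_card, e, ← Subgroup.relIndex_top_right K]
    refine Nat.mul_le_mul_right _ (Subgroup.relIndex_le_of_le_right le_top ?_)
    rw [Subgroup.relIndex_top_right]
    exact Subgroup.index_ne_zero_of_finite
  have hJ1 : 1 ≤ Nat.card J := Nat.card_pos
  refine Nat.le_of_mul_le_mul_right ?_ (Nat.mul_pos hJ1 (Nat.card_pos (α := (K ⊓ S : Subgroup (Om Q)))))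
  calc Nat.card (clsOrbit fr j) * (Lft fr K).relIndex S * (Nat.card J * Nat.card (K ⊓ S : Subgroup (Om Q)))
      = Nat.card (clsOrbit fr j) * ((Lft fr K).relIndex S *
          (Nat.card (K ⊓ S : Subgroup (Om Q)) * Nat.card J)) := by ring
    _ ≤ Nat.card (clsOrbit fr j) * Nat.card S := by rw [← hrel]; gcongr
    _ = Nat.card (PS Q x) := (card_PS_eq fr j).symm
    _ ≤ K.index * ((Nat.card J - 1) * Nat.card (K ⊓ S : Subgroup (Om Q))) :=
        hrelK.trans (Nat.mul_le_mul_left _ h2)
    _ ≤ _ := by gcongr; omega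

end withh5

/-- Root elements of the stabiliser of `j` are lifted, or the index is large. -/
theorem roots_of_relIndex_lt (h7 : 7 ≤ Module.finrank F V) {j : W} (hjq : Q' j ≠ 0)
    (h : (Lft fr K).relIndex (clsStab fr j) < kIdx F) :
    ∀ a v : W, Q' a = 0 → polB Q' a v = 0 → polB Q' j a = 0 → polB Q' j v = 0 →
        el Q (fr.j a) (fr.j v) ∈ Lft fr K := by
  classical
  have h5 : 5 ≤ Module.finrank F V := by omega
  haveI : Finite V := Module.finite_of_finite F
  haveI := finite_orthGroup (Q := Q)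
  haveI := fr.finite_dim
  have hj0 : j ≠ 0 := fun e => hjq (by rw [e, QuadraticMap.map_zero])
  suffices key : ∀ a v : W, Q' a = 0 → polB Q' a v = 0 → polB Q' j a = 0 → polB Q' j v = 0 →
      a ∉ Submodule.span F {v, j} → el Q (fr.j a) (fr.j v) ∈ Lft fr K by
    intro a v ha hav hja hjv
    by_cases ha0 : a = 0
    · subst ha0
      rw [map_zero]
      have : el Q (0 : V) (fr.j v) = 1 := Subtype.ext (orth_ext fun z => by
        rw [coe_el fr.nd h5 (map_zero Q) (by simp), eichler_apply (map_zero Q) (by simp)]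
        simp [orth_one_apply])
      rw [this]
      exact one_mem _
    by_cases hgen : a ∈ Submodule.span F {v, j}
    swap
    · exact key a v ha hav hja hjv hgen
    have hd := fr.finrank_eq
    have hnj : ∀ r : F, r • j ≠ a := fun r e => by
      rcases eq_or_ne r 0 with rfl | hr
      · exact ha0 (by rw [← e, zero_smul])
      · apply mul_ne_zero (mul_ne_zero hr hr) hjq
        rw [← qmap_smul, e, ha]
    obtain ⟨w, hw, hwn⟩ : ∃ w ∈ (polB Q').orthogonal (Submodule.span F {a, j}),
        w ∉ Submodule.span F {a, j} ⊔ Submodule.span F {v} := by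
      by_contra hcon
      push Not at hcon
      have h1 := Submodule.finrank_mono hcon
      have h2 := finrank_orth_pair fr.nd' a j
      have h3 : Submodule.span F ({a, j} : Set W) ⊔ Submodule.span F {v} ≤ Submodule.span F {v, j} :=
        sup_le (Submodule.span_le.2 (Set.insert_subset hgen
            (Set.singleton_subset_iff.2 (Submodule.subset_span (by simp)))))
          (Submodule.span_mono (by simp))
      have h4 := Submodule.finrank_mono h3
      have h6 : Module.finrank F (Submodule.span F ({v, j} : Set W)) ≤ 2 := by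
        rw [← Matrix.range_cons_cons_empty v j ![]]
        exact (finrank_range_le_card (R := F) ![v, j]).trans (by simp)
      omega
    obtain ⟨haw, hjw⟩ := mem_orth_pair.1 hw
    have hv : a ∉ Submodule.span F {v - w, j} := by
      intro hmem
      obtain ⟨p, r, hpr⟩ := Submodule.mem_span_pair.1 hmem
      rcases eq_or_ne p 0 with rfl | hp
      · rw [zero_smul, zero_add] at hpr
        exact hnj r hpr
      · apply hwn
        have : w = v - p⁻¹ • (a - r • j) := by
          rw [← hpr, add_sub_cancel_right, smul_smul, inv_mul_cancel₀ hp, one_smul, sub_sub_cancel]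
        rw [this]
        refine sub_mem (Submodule.mem_sup_right (Submodule.mem_span_singleton_self v))
          (Submodule.mem_sup_left (Submodule.smul_mem _ _ (sub_mem (Submodule.subset_span (by simp))
            (Submodule.smul_mem _ _ (Submodule.subset_span (by simp))))))
    have hw' : a ∉ Submodule.span F {w, j} := by
      intro hmem
      obtain ⟨p, r, hpr⟩ := Submodule.mem_span_pair.1 hmem
      exact hwn (by
        rcases eq_or_ne p 0 with rfl | hp
        · rw [zero_smul, zero_add] at hpr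
          exact absurd hpr (hnj r)
        · have : w = p⁻¹ • (a - r • j) := by
            rw [← hpr, add_sub_cancel_right, smul_smul, inv_mul_cancel₀ hp, one_smul]
          rw [this]
          exact Submodule.mem_sup_left (Submodule.smul_mem _ _ (sub_mem (Submodule.subset_span (by simp))
            (Submodule.smul_mem _ _ (Submodule.subset_span (by simp))))))
    have e : v = (v - w) + w := (sub_add_cancel v w).symm
    have ha' : Q (fr.j a) = 0 := by rw [fr.form, ha]
    rw [e, map_add, ← el_mul fr.nd h5 ha' (by rw [fr.bform, map_sub, hav, haw, sub_zero])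
      (by rw [fr.bform, haw])]
    exact mul_mem (key a _ ha (by rw [map_sub, hav, haw, sub_zero]) hja
        (by rw [map_sub, hjv, hjw, sub_zero]) hv) (key a w ha haw hja hjw hw')
  intro a v ha hav hja hjv hgen
  obtain ⟨a', hp, ha'⟩ := exists_hypPair_orth fr.nd' ha hgen (fun z hz => by
    obtain ⟨p, r, rfl⟩ := Submodule.mem_span_pair.1 hz
    simp [polB_comm v a, hav, hja])
  have hP : HypPair Q (fr.j a) (fr.j a') :=
    ⟨by rw [fr.form]; exact hp.left, by rw [fr.form]; exact hp.right, by rw [fr.bform]; exact hp.pair⟩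
  have hperp : ∀ s : F, polB Q (fr.j a) (fr.j (s • v)) = 0 := fun s => by
    rw [fr.bform, map_smul, hav, smul_zero]
  have hmem : ∀ s : F, el Q (fr.j a) (fr.j (s • v)) ∈ clsStab fr j := by
    intro s
    have hfix : (el Q (fr.j a) (fr.j (s • v))).1.1 x = x := by
      rw [coe_el fr.nd h5 hP.left (hperp s), eichler_fix hP.left (hperp s) (fr.orth a).1 (fr.orth _).1]
    refine ⟨stab_le_PS x (mem_stab.2 hfix), ?_⟩
    rw [act_of_fix fr hfix, coe_el fr.nd h5 hP.left (hperp s),
      eichler_fix hP.left (hperp s) (by rw [fr.bform, hja]) (by rw [fr.bform, map_smul, hjv, smul_zero]),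
      fr.P_j]
  let φ : F → clsStab fr j := fun s => ⟨_, hmem s⟩
  have hφ : ∀ s t, φ (s + t) = φ s * φ t := fun s t => Subtype.ext (by
    show el Q (fr.j a) (fr.j ((s + t) • v)) = el Q (fr.j a) (fr.j (s • v)) * el Q (fr.j a) (fr.j (t • v))
    rw [el_mul fr.nd h5 hP.left (hperp s) (hperp t), add_smul, map_add])
  have hconj : ∀ t : F, t ≠ 0 → ∃ g : clsStab fr j, ∀ s, g * φ s * g⁻¹ = φ (t * t * s) := by
    intro t ht
    set h := hscale Q (fr.j a) (fr.j a') t with hh
    have hm : h * h ∈ commutator (orthGroup Q) :=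
      mul_self_mem fr.nd (Or.inr (by omega)) (by omega) h
    have hfix : ∀ z, polB Q z (fr.j a) = 0 → polB Q z (fr.j a') = 0 → (h * h).1 z = z := fun z h1 h2 => by
      rw [orth_mul_apply, hscale_fix hP ht h1 h2, hscale_fix hP ht h1 h2]
    have hfa : ∀ z : W, z ∈ Submodule.span F {v, j} → (h * h).1 (fr.j z) = fr.j z := fun z hz => by
      refine hfix _ ?_ (by rw [fr.bform]; exact ha' z hz)
      rw [fr.bform]
      obtain ⟨p, r, rfl⟩ := Submodule.mem_span_pair.1 hz
      simp [polB_comm v a, hav, hja]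
    have hx : (h * h).1 x = x := hfix x (fr.orth a).1 (fr.orth a').1
    have hg : (⟨h * h, hm⟩ : Om Q) ∈ clsStab fr j := by
      refine ⟨stab_le_PS x (mem_stab.2 hx), ?_⟩
      rw [act_of_fix fr (by exact hx)]
      show fr.P ((h * h).1 (fr.j j)) = j
      rw [hfa j (Submodule.subset_span (by simp)), fr.P_j]
    refine ⟨⟨_, hg⟩, fun s => Subtype.ext ?_⟩
    show ⟨h * h, hm⟩ * el Q (fr.j a) (fr.j (s • v)) * ⟨h * h, hm⟩⁻¹ = el Q (fr.j a) (fr.j ((t * t * s) • v))
    apply Subtype.ext
    show h * h * (el Q (fr.j a) (fr.j (s • v))).1 * (h * h)⁻¹ = _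
    rw [coe_el fr.nd h5 hP.left (hperp s), coe_el fr.nd h5 hP.left (hperp _),
      eichler_conj _ hP.left (hperp s),
      hfa (s • v) (Submodule.smul_mem _ _ (Submodule.subset_span (by simp))),
      orth_mul_apply, hscale_left hP ht, map_smul, hscale_left hP ht, smul_smul,
      eichler_smul_pair hP.left (hperp s) (mul_ne_zero ht ht), ← map_smul, smul_smul]
  have h2 := mem_of_small φ hφ hconj ((Lft fr K).subgroupOf (clsStab fr j)) h 1
  simpa [φ, Subgroup.mem_subgroupOf] using h2

theorem roots_or_bound (h7 : 7 ≤ Module.finrank F V) {ψ : AddChar F ℂ} (hψ : ψ.IsPrimitive) {j : W}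
    (hj : j ∈ ann ψ (polB Q') (Iw fr K)) (hjq : Q' j ≠ 0) :
    Nat.card (clsOrbit fr j) * kIdx F ≤ K.index ∨
      ∀ a v : W, Q' a = 0 → polB Q' a v = 0 → polB Q' j a = 0 → polB Q' j v = 0 →
        el Q (fr.j a) (fr.j v) ∈ Lft fr K := by
  haveI := fr.finite_dim
  rcases le_or_gt (kIdx F) ((Lft fr K).relIndex (clsStab fr j)) with h | h
  · exact Or.inl (le_trans (Nat.mul_le_mul_left _ h)
      (index_ge fr K (by omega) hψ hj fun e => hjq (by rw [e, QuadraticMap.map_zero])))
  · exact Or.inr (roots_of_relIndex_lt fr K h7 hjq h)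

end H48.OrIdx
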