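import Cfsg.Agent.H50.OrFrame

/-!
# Numbers of vectors with a given value of a quadratic form
-/

set_option autoImplicit false

namespace H48.OrIdx

open H43 H50.Or

universe u w w'

variable {F : Type u} [Field F] {V : Type w} [AddCommGroup V] [Module F V]
  {Q : QuadraticForm F V}

/-- The number of vectors of value `c`. -/
noncomputable def level (Q : QuadraticForm F V) (c : F) : ℕ := Nat.card {v : V // Q v = c}

theorem qmap_coords {W : Type w'} [AddCommGroup W] [Module F W] {Q' : QuadraticForm F W} {x y : V}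
    (fr : Frame Q x y Q') (a b : F) (u : W) : Q (a • x + b • y + fr.j u) = a * b + Q' u := by
  simp [qmap_add, qmap_smul, fr.pair.left, fr.pair.right, fr.form, fr.pair.pair, (fr.orth u).1,
    (fr.orth u).2]
  ring

theorem coords_eq {W : Type w'} [AddCommGroup W] [Module F W] {Q' : QuadraticForm F W} {x y : V}
    (fr : Frame Q x y Q') (a b : F) (u : W) :
    polB Q (a • x + b • y + fr.j u) y = a ∧ polB Q (a • x + b • y + fr.j u) x = b ∧
      fr.P (a • x + b • y + fr.j u) = u := by
  have h3 : polB Q x x = 0 := by rw [polB_self, fr.pair.left, mul_zero]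
  have h4 : polB Q y y = 0 := by rw [polB_self, fr.pair.right, mul_zero]
  refine ⟨?_, ?_, ?_⟩
  · simp [fr.pair.pair, h4, (fr.orth' u).2]
  · simp [fr.pair.symm.pair, h3, (fr.orth' u).1]
  · simp [fr.P_x, fr.P_y, fr.P_j]

variable [Finite F] [FiniteDimensional F V]

theorem level_rec {W : Type w'} [AddCommGroup W] [Module F W] [FiniteDimensional F W]
    {Q' : QuadraticForm F W} {x y : V} (fr : Frame Q x y Q') (c : F) :
    level Q c = Nat.card F * level Q' c + (Nat.card F - 1) * Nat.card F ^ Module.finrank F W := by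
  classical
  haveI : Finite V := Module.finite_of_finite F
  haveI : Finite W := Module.finite_of_finite F
  let e : ({b : F // b ≠ 0} × W) ⊕ (F × {u : W // Q' u = c}) ≃ {v : V // Q v = c} :=
    Equiv.ofBijective
      (Sum.elim (fun p => ⟨((c - Q' p.2) / p.1.1) • x + p.1.1 • y + fr.j p.2, by
          rw [qmap_coords, div_mul_cancel₀ _ p.1.2, sub_add_cancel]⟩)
        (fun p => ⟨p.1 • x + (0 : F) • y + fr.j p.2.1, by
          rw [qmap_coords, mul_zero, zero_add, p.2.2]⟩))
      ⟨by
        rintro (⟨b, u⟩ | ⟨a, u⟩) (⟨b', u'⟩ | ⟨a', u'⟩) h <;>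
          have h' := congrArg Subtype.val h
        · obtain ⟨-, h2, h3⟩ := coords_eq fr ((c - Q' u) / b.1) b.1 u
          obtain ⟨-, h2', h3'⟩ := coords_eq fr ((c - Q' u') / b'.1) b'.1 u'
          simp only [Sum.elim_inl] at h'
          rw [h'] at h2 h3
          have hb : b = b' := Subtype.ext (h2.symm.trans h2')
          rw [hb, h3.symm.trans h3']
        · obtain ⟨-, h2, -⟩ := coords_eq fr ((c - Q' u) / b.1) b.1 u
          obtain ⟨-, h2', -⟩ := coords_eq fr a' 0 u'.1
          simp only [Sum.elim_inl, Sum.elim_inr] at h'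
          rw [h'] at h2
          exact absurd (h2.symm.trans h2') b.2
        · obtain ⟨-, h2, -⟩ := coords_eq fr a 0 u.1
          obtain ⟨-, h2', -⟩ := coords_eq fr ((c - Q' u') / b'.1) b'.1 u'
          simp only [Sum.elim_inl, Sum.elim_inr] at h'
          rw [h'] at h2
          exact absurd (h2'.symm.trans h2) b'.2
        · obtain ⟨h1, -, h3⟩ := coords_eq fr a 0 u.1
          obtain ⟨h1', -, h3'⟩ := coords_eq fr a' 0 u'.1
          simp only [Sum.elim_inr] at h'
          rw [h'] at h1 h3
          have hu : u = u' := Subtype.ext (h3.symm.trans h3')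
          rw [hu, h1.symm.trans h1'],
      fun ⟨v, hv⟩ => by
        set a := polB Q v y
        set b := polB Q v x
        set u := fr.P v
        have hd : v = a • x + b • y + fr.j u := fr.decomp v
        have hq : a * b + Q' u = c := by rw [← qmap_coords fr, ← hd, hv]
        by_cases hb : b = 0
        · refine ⟨.inr (a, ⟨u, by rw [← hq, hb, mul_zero, zero_add]⟩), Subtype.ext ?_⟩
          simp only [Sum.elim_inr]
          rw [hd, hb]
        · refine ⟨.inl (⟨b, hb⟩, u), Subtype.ext ?_⟩
          simp only [Sum.elim_inl]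
          rw [hd, show (c - Q' u) / b = a by rw [← hq]; field_simp; ring]⟩
  haveI := Fintype.ofFinite F
  rw [level, ← Nat.card_congr e, Nat.card_sum, Nat.card_prod, Nat.card_prod, add_comm,
    Module.natCard_eq_pow_finrank (K := F) (V := W)]
  congr 2
  rw [Nat.card_eq_fintype_card, Fintype.card_subtype_compl, Fintype.card_subtype_eq,
    Nat.card_eq_fintype_card]

omit [FiniteDimensional F V] in
theorem two_le_q : 2 ≤ Nat.card F := Finite.one_lt_card

/-- The frame at some singular vector. -/
theorem exists_any_frame (hQ : (polB Q).Nondegenerate) (h3 : 3 ≤ Module.finrank F V) :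
    ∃ x y : V, Nonempty (Frame Q x y (Q.restrict ((polB Q).orthogonal (Submodule.span F {x, y})))) := by
  obtain ⟨x, hx0, hx⟩ := exists_singular Q h3
  obtain ⟨y, hp⟩ := exists_hypPair hQ hx hx0
  exact ⟨x, y, exists_frame hQ hp⟩

theorem level_le_pow (c : F) : level Q c ≤ Nat.card F ^ Module.finrank F V := by
  haveI : Finite V := Module.finite_of_finite F
  rw [← Module.natCard_eq_pow_finrank (K := F) (V := V)]
  exact Nat.card_le_card_of_injective Subtype.val Subtype.val_injective

/-- One step downwards: the level with the orthogonal complement of a pair. -/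
theorem level_step (hQ : (polB Q).Nondegenerate) (h3 : 3 ≤ Module.finrank F V) :
    ∃ (U : Submodule F V), (polB (Q.restrict U)).Nondegenerate ∧
      Module.finrank F U + 2 = Module.finrank F V ∧ ∀ c, level Q c =
        Nat.card F * level (Q.restrict U) c + (Nat.card F - 1) * Nat.card F ^ Module.finrank F U := by
  obtain ⟨x, y, ⟨fr⟩⟩ := exists_any_frame hQ h3
  exact ⟨_, fr.nd', fr.finrank_eq, fun c => level_rec fr c⟩

theorem level_ge (hQ : (polB Q).Nondegenerate) (h5 : 5 ≤ Module.finrank F V) (c : F) :
    Nat.card F ^ (Module.finrank F V - 1) ≤ level Q c + Nat.card F ^ (Module.finrank F V - 3) := by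
  obtain ⟨U, hU, hUd, hU1⟩ := level_step hQ (by omega)
  obtain ⟨U', -, hUd', hU2⟩ := level_step hU (by omega)
  rw [hU1, hU2]
  obtain ⟨r, hr⟩ : ∃ r, Nat.card F = r + 2 := ⟨Nat.card F - 2, by have := two_le_q (F := F); omega⟩
  obtain ⟨d, hd⟩ : ∃ d, Module.finrank F U' = d + 1 := ⟨Module.finrank F U' - 1, by omega⟩
  rw [show Module.finrank F U = d + 3 by omega, hd, hr,
    show Module.finrank F V - 1 = d + 4 by omega, show Module.finrank F V - 3 = d + 2 by omega,
    show r + 2 - 1 = r + 1 by omega]
  have e : (r + 2) * ((r + 2) * level ((Q.restrict U).restrict U') c + (r + 1) * (r + 2) ^ (d + 1)) +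
      (r + 1) * (r + 2) ^ (d + 3) + (r + 2) ^ (d + 2) =
      (r + 2) * ((r + 2) * level ((Q.restrict U).restrict U') c) + (r + 2) ^ (d + 4) := by ring
  omega

theorem level_zero_le (hQ : (polB Q).Nondegenerate) (h7 : 7 ≤ Module.finrank F V) :
    level Q 0 + Nat.card F ^ (Module.finrank F V - 4) ≤
      Nat.card F ^ (Module.finrank F V - 1) + Nat.card F ^ (Module.finrank F V - 3) := by
  obtain ⟨U, hU, hUd, hU1⟩ := level_step hQ (by omega)
  obtain ⟨U', hU', hUd', hU2⟩ := level_step hU (by omega)
  obtain ⟨U'', -, hUd'', hU3⟩ := level_step hU' (by omega)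
  have hle := level_le_pow (F := F) (V := U'') (Q := ((Q.restrict U).restrict U').restrict U'') 0
  rw [hU1, hU2, hU3]
  obtain ⟨r, hr⟩ : ∃ r, Nat.card F = r + 2 := ⟨Nat.card F - 2, by have := two_le_q (F := F); omega⟩
  obtain ⟨d, hd⟩ : ∃ d, Module.finrank F U'' = d + 1 := ⟨Module.finrank F U'' - 1, by omega⟩
  rw [hd, hr] at hle
  rw [show Module.finrank F U = d + 5 by omega, show Module.finrank F U' = d + 3 by omega, hd, hr,
    show Module.finrank F V - 1 = d + 6 by omega, show Module.finrank F V - 3 = d + 4 by omega,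
    show Module.finrank F V - 4 = d + 3 by omega, show r + 2 - 1 = r + 1 by omega]
  generalize level (F := F) (V := U'') (((Q.restrict U).restrict U').restrict U'') 0 = L at hle ⊢
  calc _ ≤ (r + 2) * ((r + 2) * ((r + 2) * (r + 2) ^ (d + 1) + (r + 1) * (r + 2) ^ (d + 1)) +
        (r + 1) * (r + 2) ^ (d + 3)) + (r + 1) * (r + 2) ^ (d + 5) + (r + 2) ^ (d + 3) := by gcongr
    _ = _ := by ring

end H48.OrIdx
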